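/-
K-1369 pack (S1369, architect helper31), keystone 136909 K-1369-A: the final counting.
NOTE: the leaf as first stated (`a, b ≥ 2`, `c + t₁ + t₂ ≤ g`) is false
(`k = s = a = b = 2`, `i₁ = i₂ = 1`, `g = 8`, `c = 2`, `t₁ = t₂ = 3`); here are the true variants.
-/
import Mathlib

set_option autoImplicit false

namespace Cfsg.Agent.Lib.Helper10.BG147

/-- the bookkeeping identity behind the final counting -/
theorem counting_core {g k s a b c t₁ t₂ i₁ i₂ : ℕ} (hk : 1 < k) (hs : 1 < s)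
    (hg : 0 < g) (hc : k * s * c = (k - 1) * (s - 1) * g)
    (ht₁ : t₁ = (s * a - 1) * i₁) (hi₁ : i₁ * (k * (s * a)) = g)
    (ht₂ : t₂ = (k * b - 1) * i₂) (hi₂ : i₂ * (s * (k * b)) = g) :
    i₁ * a = i₂ * b ∧ c + t₁ + t₂ + (i₁ + i₂) = g + i₁ * a := by
  obtain ⟨k', rfl⟩ : ∃ k', k = k' + 1 := ⟨k - 1, by omega⟩
  obtain ⟨s', rfl⟩ : ∃ s', s = s' + 1 := ⟨s - 1, by omega⟩
  simp only [Nat.add_sub_cancel] at hc
  have hks : 0 < (k' + 1) * (s' + 1) := by positivity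
  have ha0 : 0 < a := by
    rcases Nat.eq_zero_or_pos a with h | h
    · subst h; simp at hi₁; omega
    · exact h
  have hb0 : 0 < b := by
    rcases Nat.eq_zero_or_pos b with h | h
    · subst h; simp at hi₂; omega
    · exact h
  have hN : i₁ * a = i₂ * b := by
    apply Nat.eq_of_mul_eq_mul_left hks
    calc (k' + 1) * (s' + 1) * (i₁ * a) = i₁ * ((k' + 1) * ((s' + 1) * a)) := by ring
      _ = g := hi₁
      _ = i₂ * ((s' + 1) * ((k' + 1) * b)) := hi₂.symm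
      _ = (k' + 1) * (s' + 1) * (i₂ * b) := by ring
  have hgN : g = (k' + 1) * (s' + 1) * (i₁ * a) := by rw [← hi₁]; ring
  have hcN : c = k' * s' * (i₁ * a) := by
    apply Nat.eq_of_mul_eq_mul_left hks
    rw [hc, hgN]; ring
  have h1 : t₁ + i₁ = (s' + 1) * (i₁ * a) := by
    have hpos : 1 ≤ (s' + 1) * a := Nat.succ_le_of_lt (by positivity)
    rw [ht₁]
    calc ((s' + 1) * a - 1) * i₁ + i₁ = ((s' + 1) * a - 1 + 1) * i₁ := by ring
      _ = ((s' + 1) * a) * i₁ := by rw [Nat.sub_add_cancel hpos]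
      _ = (s' + 1) * (i₁ * a) := by ring
  have h2 : t₂ + i₂ = (k' + 1) * (i₁ * a) := by
    have hpos : 1 ≤ (k' + 1) * b := Nat.succ_le_of_lt (by positivity)
    rw [ht₂, hN]
    calc ((k' + 1) * b - 1) * i₂ + i₂ = ((k' + 1) * b - 1 + 1) * i₂ := by ring
      _ = ((k' + 1) * b) * i₂ := by rw [Nat.sub_add_cancel hpos]
      _ = (k' + 1) * (i₂ * b) := by ring
  refine ⟨hN, ?_⟩
  calc c + t₁ + t₂ + (i₁ + i₂) = c + (t₁ + i₁) + (t₂ + i₂) := by ring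
    _ = k' * s' * (i₁ * a) + (s' + 1) * (i₁ * a) + (k' + 1) * (i₁ * a) := by rw [hcN, h1, h2]
    _ = (k' + 1) * (s' + 1) * (i₁ * a) + i₁ * a := by ring
    _ = g + i₁ * a := by rw [← hgN]

/-- positivity of the indices -/
theorem counting_pos {g k s a i₁ : ℕ} (hg : 0 < g) (hi₁ : i₁ * (k * (s * a)) = g) : 0 < i₁ := by
  rcases Nat.eq_zero_or_pos i₁ with h | h
  · subst h; simp at hi₁; omega
  · exact h

/-- **K-1369-A, strict version**: the three sets miss the identity -/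
theorem counting_false_lt {g k s a b c t₁ t₂ i₁ i₂ : ℕ} (hk : 1 < k) (hs : 1 < s) (ha : 2 ≤ a)
    (hb : 2 ≤ b) (hg : 0 < g) (hc : k * s * c = (k - 1) * (s - 1) * g)
    (ht₁ : t₁ = (s * a - 1) * i₁) (hi₁ : i₁ * (k * (s * a)) = g)
    (ht₂ : t₂ = (k * b - 1) * i₂) (hi₂ : i₂ * (s * (k * b)) = g)
    (hsum : c + t₁ + t₂ < g) : False := by
  obtain ⟨hN, hS⟩ := counting_core hk hs hg hc ht₁ hi₁ ht₂ hi₂
  have h1 : 2 * i₁ ≤ i₁ * a := by nlinarith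
  have h2 : 2 * i₂ ≤ i₂ * b := by nlinarith
  omega

/-- **K-1369-A, odd version**: `a ≥ 3` -/
theorem counting_false_three {g k s a b c t₁ t₂ i₁ i₂ : ℕ} (hk : 1 < k) (hs : 1 < s) (ha : 3 ≤ a)
    (hb : 2 ≤ b) (hg : 0 < g) (hc : k * s * c = (k - 1) * (s - 1) * g)
    (ht₁ : t₁ = (s * a - 1) * i₁) (hi₁ : i₁ * (k * (s * a)) = g)
    (ht₂ : t₂ = (k * b - 1) * i₂) (hi₂ : i₂ * (s * (k * b)) = g)
    (hsum : c + t₁ + t₂ ≤ g) : False := by
  obtain ⟨hN, hS⟩ := counting_core hk hs hg hc ht₁ hi₁ ht₂ hi₂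
  have hi : 0 < i₁ := counting_pos hg hi₁
  have h1 : 3 * i₁ ≤ i₁ * a := by nlinarith
  have h2 : 2 * i₂ ≤ i₂ * b := by nlinarith
  omega

/-- **K-1369-A, odd version**: `b ≥ 3` -/
theorem counting_false_three' {g k s a b c t₁ t₂ i₁ i₂ : ℕ} (hk : 1 < k) (hs : 1 < s)
    (ha : 2 ≤ a) (hb : 3 ≤ b) (hg : 0 < g) (hc : k * s * c = (k - 1) * (s - 1) * g)
    (ht₁ : t₁ = (s * a - 1) * i₁) (hi₁ : i₁ * (k * (s * a)) = g)
    (ht₂ : t₂ = (k * b - 1) * i₂) (hi₂ : i₂ * (s * (k * b)) = g)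
    (hsum : c + t₁ + t₂ ≤ g) : False := by
  obtain ⟨hN, hS⟩ := counting_core hk hs hg hc ht₁ hi₁ ht₂ hi₂
  have hi : 0 < i₂ := counting_pos hg hi₂
  have h1 : 2 * i₁ ≤ i₁ * a := by nlinarith
  have h2 : 3 * i₂ ≤ i₂ * b := by nlinarith
  omega

/-- the original hypotheses force equality and `a = b = 2` -/
theorem counting_eq {g k s a b c t₁ t₂ i₁ i₂ : ℕ} (hk : 1 < k) (hs : 1 < s) (ha : 2 ≤ a)
    (hb : 2 ≤ b) (hg : 0 < g) (hc : k * s * c = (k - 1) * (s - 1) * g)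
    (ht₁ : t₁ = (s * a - 1) * i₁) (hi₁ : i₁ * (k * (s * a)) = g)
    (ht₂ : t₂ = (k * b - 1) * i₂) (hi₂ : i₂ * (s * (k * b)) = g)
    (hsum : c + t₁ + t₂ ≤ g) : c + t₁ + t₂ = g ∧ a = 2 ∧ b = 2 := by
  refine ⟨?_, ?_, ?_⟩
  · by_contra hne
    exact counting_false_lt hk hs ha hb hg hc ht₁ hi₁ ht₂ hi₂ (lt_of_le_of_ne hsum hne)
  · by_contra hne
    exact counting_false_three hk hs (by omega) hb hg hc ht₁ hi₁ ht₂ hi₂ hsum
  · by_contra hne
    exact counting_false_three' hk hs ha (by omega) hg hc ht₁ hi₁ ht₂ hi₂ hsum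

end Cfsg.Agent.Lib.Helper10.BG147
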