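import Mathlib
import Cfsg.Prelude.Def_Blocks
import Cfsg.Agent.Lib.Helper01.CD3Defs
import Cfsg.Agent.Lib.Helper83.Linear
import Cfsg.Agent.Lib.Helper83.Constituent
import Cfsg.Agent.Lib.Helper84.Clifford

/-!
# S4460 pack K-CD3, leaf 446026 K-CD3-DEG (helper10)

A Frobenius-type semidirect product `V ⋊ Q` (`V` abelian normal nontrivial, `Q` acting
fixed-point-freely) has an irreducible character of degree `|Q|`.
-/

set_option autoImplicit false

namespace Cfsg.Agent.Lib.Helper10.CD3

open Cfsg Cfsg.Agent.Lib.Helper01.CD3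

universe u

/-- A nontrivial abelian subgroup has a homomorphism to `ℂˣ` nontrivial at a given point. -/
theorem cd3deg_exists_hom {X : Type u} [Group X] [Finite X] (V : Subgroup X)
    (hV : ∀ a ∈ V, ∀ b ∈ V, a * b = b * a) (a : V) (ha : a ≠ 1) :
    ∃ φ : V →* ℂˣ, φ a ≠ 1 := by
  let _ : CommGroup V :=
    { (inferInstance : Group V) with
      mul_comm := fun x y => Subtype.ext (hV x x.2 y y.2) }
  obtain ⟨φ, hφ⟩ := CommGroup.exists_apply_ne_one_of_hasEnoughRootsOfUnity V ℂ ha
  exact ⟨{ toFun := fun v => φ v, map_one' := map_one φ, map_mul' := fun x y => map_mul φ x y }, hφ⟩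

theorem exists_irr_of_frobenius {X : Type u} [Group X] [Finite X] (V Q : Subgroup X) [V.Normal]
    (hV : ∀ a ∈ V, ∀ b ∈ V, a * b = b * a) (hVne : V ≠ ⊥)
    (hVQ : V ⊓ Q = ⊥) (hsup : V ⊔ Q = ⊤)
    (hfpf : ∀ q ∈ Q, q ≠ 1 → ∀ v ∈ V, q * v = v * q → v = 1) :
    ∃ χ : X → ℂ, IsIrrCharacter X χ ∧ charDegree χ = Nat.card Q := by
  classical
  have : Fintype X := Fintype.ofFinite X
  -- a nontrivial element of V
  obtain ⟨a0, ha0V, ha01⟩ : ∃ a ∈ V, a ≠ (1 : X) := by
    by_contra hcon
    simp only [not_exists, not_and, not_not] at hcon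
    exact hVne ((Subgroup.eq_bot_iff_forall V).mpr hcon)
  set a : V := ⟨a0, ha0V⟩ with ha
  have ha1 : a ≠ 1 := fun h => ha01 (congrArg Subtype.val h)
  obtain ⟨φ, hφ⟩ := cd3deg_exists_hom V hV a ha1
  set θ : V → ℂ := fun v => ((φ v : ℂˣ) : ℂ) with hθdef
  have hθ : IsIrrCharacter V θ := Cfsg.Agent.Lib.Helper83.isIrrCharacter_of_hom φ
  -- the inertia group of θ is V
  have hT : ∀ g : X, g ∈ V ↔ ∀ n : V, Cfsg.Agent.Lib.Helper84.conjFun V g θ n = θ n := by
    intro g
    constructor
    · intro hg n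
      rw [Cfsg.Agent.Lib.Helper84.conjFun_apply]
      congr 1
      apply Subtype.ext
      change g * n * g⁻¹ = n
      rw [hV g hg n n.2, mul_assoc, mul_inv_cancel, mul_one]
    · intro hg
      -- write g = v * q
      have hgmem : g ∈ V ⊔ Q := by rw [hsup]; exact Subgroup.mem_top g
      rw [Subgroup.mem_sup_of_normal_left] at hgmem
      obtain ⟨v, hv, q, hq, rfl⟩ := hgmem
      by_cases hq1 : q = 1
      · subst hq1
        simpa using hv
      exfalso
      -- q fixes θ
      have hqfix : ∀ n : V, φ ⟨q * n * q⁻¹, ‹V.Normal›.conj_mem n n.2 q⟩ = φ n := by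
        intro n
        have h1 := hg n
        rw [Cfsg.Agent.Lib.Helper84.conjFun_apply] at h1
        have h2 : (⟨v * q * n * (v * q)⁻¹, ‹V.Normal›.conj_mem n n.2 (v * q)⟩ : V) =
            ⟨q * n * q⁻¹, ‹V.Normal›.conj_mem n n.2 q⟩ := by
          apply Subtype.ext
          change v * q * n * (v * q)⁻¹ = q * n * q⁻¹
          have hmem : q * n * q⁻¹ ∈ V := ‹V.Normal›.conj_mem n n.2 q
          have := hV v hv (q * n * q⁻¹) hmem
          calc v * q * n * (v * q)⁻¹ = v * (q * n * q⁻¹) * v⁻¹ := by group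
            _ = (q * n * q⁻¹) * v * v⁻¹ := by rw [this]
            _ = q * n * q⁻¹ := by group
        rw [h2] at h1
        exact Units.ext h1
      -- the commutator map is injective on V
      let c : V → V := fun n => ⟨q * n * q⁻¹ * (n : X)⁻¹,
        V.mul_mem (‹V.Normal›.conj_mem n n.2 q) (V.inv_mem n.2)⟩
      have hcinj : Function.Injective c := by
        intro n m hnm
        have h1 : q * n * q⁻¹ * (n : X)⁻¹ = q * m * q⁻¹ * (m : X)⁻¹ := congrArg Subtype.val hnm
        -- w = m⁻¹ n commutes with q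
        have hw : (m : X)⁻¹ * n ∈ V := V.mul_mem (V.inv_mem m.2) n.2
        have hqm : q * m * q⁻¹ ∈ V := ‹V.Normal›.conj_mem m m.2 q
        have hqn : q * n * q⁻¹ ∈ V := ‹V.Normal›.conj_mem n n.2 q
        have hcomm : q * ((m : X)⁻¹ * n) = ((m : X)⁻¹ * n) * q := by
          -- from h1: (q m q⁻¹)⁻¹ (q n q⁻¹) = m⁻¹ n  (V abelian)
          have e1 : (q * m * q⁻¹)⁻¹ * (q * n * q⁻¹) = (m : X)⁻¹ * n := by
            have e2 : q * n * q⁻¹ = q * m * q⁻¹ * (m : X)⁻¹ * n := by
              calc q * n * q⁻¹ = q * n * q⁻¹ * (n : X)⁻¹ * n := by group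
                _ = q * m * q⁻¹ * (m : X)⁻¹ * n := by rw [h1]
            rw [e2]
            group
          have e3 : (q * m * q⁻¹)⁻¹ * (q * n * q⁻¹) = q * ((m : X)⁻¹ * n) * q⁻¹ := by group
          rw [e3] at e1
          calc q * ((m : X)⁻¹ * n) = q * ((m : X)⁻¹ * n) * q⁻¹ * q := by group
            _ = ((m : X)⁻¹ * n) * q := by rw [e1]
        have := hfpf q hq hq1 _ hw hcomm
        apply Subtype.ext
        have : (n : X) = m := by
          calc (n : X) = m * ((m : X)⁻¹ * n) := by group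
            _ = m := by rw [this, mul_one]
        exact this
      have hcsurj : Function.Surjective c := Finite.surjective_of_injective hcinj
      obtain ⟨n, hn⟩ := hcsurj a
      apply hφ
      have h3 : a = (⟨q * n * q⁻¹, ‹V.Normal›.conj_mem n n.2 q⟩ : V) * n⁻¹ := by
        rw [← hn]
        apply Subtype.ext
        rfl
      rw [h3, map_mul, hqfix n, map_inv, mul_inv_cancel]
  have hne : Cfsg.classInner (Cfsg.Agent.Lib.Helper84.resFun V V le_rfl θ) θ ≠ 0 := by
    have hres : Cfsg.Agent.Lib.Helper84.resFun V V le_rfl θ = θ := by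
      funext n
      rfl
    rw [hres, Cfsg.Agent.Lib.Helper84.classInner_irr_irr hθ hθ, if_pos rfl]
    exact one_ne_zero
  have hirr : IsIrrCharacter X (indFun V θ) :=
    Cfsg.Agent.Lib.Helper84.isIrrCharacter_indFun_inertia V V le_rfl hθ hT hθ hne
  refine ⟨indFun V θ, hirr, ?_⟩
  -- degree
  have hdeg : indFun V θ 1 = (V.index : ℂ) * θ 1 := Cfsg.Agent.Lib.Helper83.indFun_one_eq V θ
  have hθ1 : θ 1 = 1 := by simp [hθdef]
  have hcompl : Subgroup.IsComplement' Q V := by
    apply Subgroup.IsComplement'.symm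
    apply Subgroup.isComplement'_of_disjoint_and_mul_eq_univ
    · rw [disjoint_iff]; exact hVQ
    · rw [← Subgroup.normal_mul, hsup]; rfl
  have hidx : V.index = Nat.card Q := hcompl.index_eq_card
  unfold charDegree
  rw [hdeg, hθ1, mul_one, hidx]
  simp
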