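import Mathlib
import Cfsg.Prelude.Def_GeometricClasses

/-!
# Shared definitions for the degree-3 field leaves of S5778 (SU_3(q), q = 3, 5)

`dag q A` is the conjugate transpose `(Aᵀ)^(q)`; for `|F| = q ^ 2`, `q` prime, it is the adjoint of `A` for
`hermForm 3 F q` (`adj_iff_dag`), and `g ∈ GU 3 F q ↔ dag q g * g = 1` (`mem_GU_iff_dag`).
-/

set_option autoImplicit false
set_option linter.unusedSectionVars false
set_option linter.style.haveILetI false

namespace Cfsg.Agent.Lib.Helper10.SU3K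

open Cfsg Cfsg.Geo Matrix
open scoped Matrix MatrixGroups

variable {F : Type*} [Field F]

/-- the conjugate transpose for `x ↦ x ^ q` -/
def dag (q : ℕ) {n : ℕ} (A : Matrix (Fin n) (Fin n) F) : Matrix (Fin n) (Fin n) F := (Aᵀ).map (· ^ q)

/-- `SU_n(q)` inside `GL_n(F)` -/
abbrev SUg (n : ℕ) (F : Type*) [Field F] (q : ℕ) : Subgroup (GL (Fin n) F) :=
  GU n F q ⊓ specialLinear (Fin n) F

theorem dag_apply (q : ℕ) {n : ℕ} (A : Matrix (Fin n) (Fin n) F) (i j : Fin n) : dag q A i j = A j i ^ q := rfl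

theorem dag_one (q : ℕ) (hq : q ≠ 0) {n : ℕ} : dag q (1 : Matrix (Fin n) (Fin n) F) = 1 := by
  ext i j
  rw [dag_apply, Matrix.one_apply, Matrix.one_apply]
  by_cases h : i = j
  · subst h; simp
  · rw [if_neg h, if_neg (Ne.symm h), zero_pow hq]

section fin
variable [Fintype F] {q : ℕ}

theorem charP_of_card (hF : Fintype.card F = q ^ 2) (hq : q.Prime) : CharP F q :=
  haveI : Fact q.Prime := ⟨hq⟩
  charP_of_card_eq_prime_pow (f := 2) hF

theorem pow_q_q (hF : Fintype.card F = q ^ 2) (x : F) : (x ^ q) ^ q = x := by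
  rw [← pow_mul, ← sq, ← hF, FiniteField.pow_card]

theorem add_pow_q (hF : Fintype.card F = q ^ 2) (hq : q.Prime) (x y : F) : (x + y) ^ q = x ^ q + y ^ q := by
  have : Fact q.Prime := ⟨hq⟩
  have := charP_of_card hF hq
  exact add_pow_char x y q

theorem sum_pow_q (hF : Fintype.card F = q ^ 2) (hq : q.Prime) {ι : Type*} (s : Finset ι) (f : ι → F) :
    (∑ i ∈ s, f i) ^ q = ∑ i ∈ s, f i ^ q := by
  have : Fact q.Prime := ⟨hq⟩
  have := charP_of_card hF hq
  exact sum_pow_char q s f

theorem dag_dag (hF : Fintype.card F = q ^ 2) {n : ℕ} (A : Matrix (Fin n) (Fin n) F) : dag q (dag q A) = A := by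
  ext i j
  rw [dag_apply, dag_apply, pow_q_q hF]

theorem dag_mul (hF : Fintype.card F = q ^ 2) (hq : q.Prime) {n : ℕ} (A B : Matrix (Fin n) (Fin n) F) :
    dag q (A * B) = dag q B * dag q A := by
  ext i j
  rw [dag_apply, Matrix.mul_apply, Matrix.mul_apply, sum_pow_q hF hq]
  refine Finset.sum_congr rfl fun k _ => ?_
  rw [dag_apply, dag_apply, mul_pow, mul_comm]

theorem dag_add (hF : Fintype.card F = q ^ 2) (hq : q.Prime) {n : ℕ} (A B : Matrix (Fin n) (Fin n) F) :
    dag q (A + B) = dag q A + dag q B := by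
  ext i j
  simp only [dag_apply, Matrix.add_apply, add_pow_q hF hq]

theorem dag_smul {n : ℕ} (a : F) (A : Matrix (Fin n) (Fin n) F) : dag q (a • A) = a ^ q • dag q A := by
  ext i j
  simp only [dag_apply, Matrix.smul_apply, smul_eq_mul, mul_pow]

/-- `h (A u) v = u ⬝ (Aᵀ v^(q))` -/
theorem herm_mulVec_left {n : ℕ} (A : Matrix (Fin n) (Fin n) F) (u v : Fin n → F) :
    hermForm n F q (A *ᵥ u) v = ∑ j, u j * ∑ i, A i j * v i ^ q := by
  unfold hermForm
  simp only [Matrix.mulVec, dotProduct, Finset.sum_mul, Finset.mul_sum]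
  rw [Finset.sum_comm]
  refine Finset.sum_congr rfl fun j _ => Finset.sum_congr rfl fun i _ => ?_
  ring

theorem herm_mulVec_right (hF : Fintype.card F = q ^ 2) (hq : q.Prime) {n : ℕ} (B : Matrix (Fin n) (Fin n) F)
    (u v : Fin n → F) :
    hermForm n F q u (B *ᵥ v) = ∑ j, u j * ∑ i, B j i ^ q * v i ^ q := by
  unfold hermForm
  refine Finset.sum_congr rfl fun j _ => ?_
  congr 1
  simp only [Matrix.mulVec, dotProduct]
  rw [sum_pow_q hF hq]
  refine Finset.sum_congr rfl fun i _ => ?_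
  rw [mul_pow]

/-- the adjoint for the hermitian form is the conjugate transpose -/
theorem adj_iff_dag (hF : Fintype.card F = q ^ 2) (hq : q.Prime) {n : ℕ} (A B : Matrix (Fin n) (Fin n) F) :
    (∀ u v : Fin n → F, hermForm n F q (A *ᵥ u) v = hermForm n F q u (B *ᵥ v)) ↔ B = dag q A := by
  constructor
  · intro h
    ext i j
    have := h (Pi.single i 1) (Pi.single j 1)
    rw [herm_mulVec_left, herm_mulVec_right hF hq] at this
    simp only [Pi.single_apply, ite_mul, one_mul, zero_mul, Finset.sum_ite_eq', Finset.mem_univ, if_true] at this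
    have e1 : ∀ k : Fin n, A k i * (if k = j then (1 : F) else 0) ^ q = if k = j then A k i else 0 := by
      intro k
      by_cases hk : k = j
      · simp [hk]
      · simp [hk, hq.ne_zero]
    have e2 : ∀ k : Fin n, B i k ^ q * (if k = j then (1 : F) else 0) ^ q = if k = j then B i k ^ q else 0 := by
      intro k
      by_cases hk : k = j
      · simp [hk]
      · simp [hk, hq.ne_zero]
    simp only [e1, e2, Finset.sum_ite_eq', Finset.mem_univ, if_true] at this
    rw [dag_apply, this, pow_q_q hF]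
  · rintro rfl u v
    rw [herm_mulVec_left, herm_mulVec_right hF hq]
    refine Finset.sum_congr rfl fun j _ => ?_
    congr 1
    refine Finset.sum_congr rfl fun i _ => ?_
    rw [dag_apply, pow_q_q hF]

theorem mem_GU_iff_dag (hF : Fintype.card F = q ^ 2) (hq : q.Prime) {n : ℕ} (g : GL (Fin n) F) :
    g ∈ GU n F q ↔ dag q (g : Matrix (Fin n) (Fin n) F) * (g : Matrix (Fin n) (Fin n) F) = 1 := by
  have key : g ∈ GU n F q ↔ ∀ u v : Fin n → F,
      hermForm n F q ((g : Matrix (Fin n) (Fin n) F) *ᵥ u) ((g : Matrix (Fin n) (Fin n) F) *ᵥ v) = hermForm n F q u v :=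
    Iff.rfl
  rw [key]
  constructor
  · intro h
    have h2 : ∀ u v : Fin n → F, hermForm n F q ((g : Matrix (Fin n) (Fin n) F) *ᵥ u) v =
        hermForm n F q u (((g⁻¹ : GL (Fin n) F) : Matrix (Fin n) (Fin n) F) *ᵥ v) := by
      intro u v
      have := h u (((g⁻¹ : GL (Fin n) F) : Matrix (Fin n) (Fin n) F) *ᵥ v)
      rw [Matrix.mulVec_mulVec, ← Units.val_mul, mul_inv_cancel, Units.val_one, Matrix.one_mulVec] at this
      exact this
    have h3 := (adj_iff_dag hF hq _ _).1 h2
    rw [← h3, ← Units.val_mul, inv_mul_cancel, Units.val_one]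
  · intro h u v
    have h2 := (adj_iff_dag hF hq (g : Matrix (Fin n) (Fin n) F) _).2 rfl u ((g : Matrix (Fin n) (Fin n) F) *ᵥ v)
    rw [h2, Matrix.mulVec_mulVec, h, Matrix.one_mulVec]

end fin

end Cfsg.Agent.Lib.Helper10.SU3K
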