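import Mathlib
import Cfsg.Prelude.Def_JordanBlocks
import Cfsg.Agent.Lib.Helper73.UCDefs
import Cfsg.Agent.Lib.Helper73.SPCDefs
import Cfsg.Agent.Lib.Helper22.UCA1

/-!
# K-SPC pack (S2676), keystone 267613 K-SPC-C4 (helper10): Toeplitz shape of the commutant of `nilM`
-/

set_option autoImplicit false
set_option linter.unusedVariables false
set_option linter.unusedSectionVars false

namespace Cfsg.Agent.Lib.Helper10.SPC

open Matrix Cfsg.Agent.Lib.Helper73.UC Cfsg.Agent.Lib.Helper73.SPC Cfsg.Agent.Lib.Helper22.UC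

variable {F : Type*} [Field F]

/-- rows of `nilM d F * M` -/
theorem spcc4_nilM_mul_apply {t : ℕ} (d : Fin t → ℕ) (M : Matrix (JI d) (JI d) F) (l : Fin t)
    (b : Fin (d l)) (y : JI d) :
    (nilM d F * M) ⟨l, b⟩ y =
      if h : 1 ≤ (b : ℕ) then M ⟨l, ⟨(b : ℕ) - 1, by have := b.2; omega⟩⟩ y else 0 := by
  rw [Matrix.mul_apply]
  split_ifs with h
  · rw [Finset.sum_eq_single (⟨l, ⟨(b : ℕ) - 1, by have := b.2; omega⟩⟩ : JI d)]
    · rw [uca1_nilM_apply, if_pos ⟨rfl, by simp only; omega⟩, one_mul]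
    · intro z _ hz
      rw [uca1_nilM_apply, if_neg, zero_mul]
      rintro ⟨h1, h2⟩
      apply hz
      rcases z with ⟨k', a'⟩
      simp only at h1 h2
      subst h1
      congr 1
      apply Fin.ext
      simp only
      omega
    · intro h'
      exact absurd (Finset.mem_univ _) h'
  · apply Finset.sum_eq_zero
    intro z _
    rw [uca1_nilM_apply, if_neg, zero_mul]
    rintro ⟨h1, h2⟩
    simp only at h2
    omega

/-- the natural-number indexed entries of `x` between the blocks `l` and `k` -/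
def spcc4X {t : ℕ} (d : Fin t → ℕ) (x : Matrix (JI d) (JI d) F) (l k : Fin t) (b a : ℕ) : F :=
  if h : b < d l ∧ a < d k then x ⟨l, ⟨b, h.1⟩⟩ ⟨k, ⟨a, h.2⟩⟩ else 0

theorem spcc4X_eq {t : ℕ} (d : Fin t → ℕ) (x : Matrix (JI d) (JI d) F) (l k : Fin t)
    (b : Fin (d l)) (a : Fin (d k)) : spcc4X d x l k b a = x ⟨l, b⟩ ⟨k, a⟩ := by
  unfold spcc4X
  rw [dif_pos ⟨b.2, a.2⟩]

/-- the commutation relation on entries -/
theorem spcc4_rel {t : ℕ} (d : Fin t → ℕ) (x : Matrix (JI d) (JI d) F)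
    (hx : x * nilM d F = nilM d F * x) (l k : Fin t) (b a : ℕ) (hb : b < d l) (ha : a < d k) :
    (if a + 1 < d k then spcc4X d x l k b (a + 1) else 0) =
      (if 1 ≤ b then spcc4X d x l k (b - 1) a else 0) := by
  have h := congrFun (congrFun hx ⟨l, ⟨b, hb⟩⟩) ⟨k, ⟨a, ha⟩⟩
  rw [uca1_mul_nilM_apply, spcc4_nilM_mul_apply] at h
  simp only at h
  by_cases h1 : a + 1 < d k
  · rw [dif_pos h1] at h
    rw [if_pos h1]
    by_cases h2 : 1 ≤ b
    · rw [dif_pos h2] at h
      rw [if_pos h2]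
      unfold spcc4X
      rw [dif_pos ⟨hb, h1⟩, dif_pos ⟨by omega, ha⟩]
      exact h
    · rw [dif_neg h2] at h
      rw [if_neg h2]
      unfold spcc4X
      rw [dif_pos ⟨hb, h1⟩]
      exact h
  · rw [dif_neg h1] at h
    rw [if_neg h1]
    by_cases h2 : 1 ≤ b
    · rw [dif_pos h2] at h
      rw [if_pos h2]
      unfold spcc4X
      rw [dif_pos ⟨by omega, ha⟩]
      exact h
    · rw [dif_neg h2] at h
      rw [if_neg h2]

/-- Step 1: shifting down to column `0`. -/
theorem spcc4_shift {t : ℕ} (d : Fin t → ℕ) (x : Matrix (JI d) (JI d) F)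
    (hx : x * nilM d F = nilM d F * x) (l k : Fin t) :
    ∀ a b : ℕ, b < d l → a < d k →
      spcc4X d x l k b a = if a ≤ b then spcc4X d x l k (b - a) 0 else 0 := by
  intro a
  induction a with
  | zero =>
    intro b hb ha
    simp
  | succ a ih =>
    intro b hb ha
    have hr := spcc4_rel d x hx l k b a hb (by omega)
    rw [if_pos ha] at hr
    rw [hr]
    by_cases h2 : 1 ≤ b
    · rw [if_pos h2, ih (b - 1) (by omega) (by omega)]
      by_cases h3 : a ≤ b - 1
      · rw [if_pos h3, if_pos (by omega)]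
        congr 1
        omega
      · rw [if_neg h3, if_neg (by omega)]
    · rw [if_neg h2, if_neg (by omega)]

/-- Step 2: the last column vanishes above the diagonal band. -/
theorem spcc4_last {t : ℕ} (d : Fin t → ℕ) (x : Matrix (JI d) (JI d) F)
    (hx : x * nilM d F = nilM d F * x) (l k : Fin t) (b a : ℕ) (ha : a + 1 = d k)
    (hb : b + 1 < d l) : spcc4X d x l k b a = 0 := by
  have hr := spcc4_rel d x hx l k (b + 1) a hb (by omega)
  rw [if_neg (by omega), if_pos (by omega)] at hr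
  rw [Nat.add_sub_cancel] at hr
  exact hr.symm

theorem spcc4_zero {t : ℕ} (d : Fin t → ℕ) (x : Matrix (JI d) (JI d) F)
    (hx : x * nilM d F = nilM d F * x) (l k : Fin t) (j : ℕ) (hk : 1 ≤ d k)
    (hj : j + d k < d l) : spcc4X d x l k j 0 = 0 := by
  have h1 := spcc4_shift d x hx l k (d k - 1) (j + (d k - 1)) (by omega) (by omega)
  rw [if_pos (by omega), Nat.add_sub_cancel] at h1
  rw [← h1]
  exact spcc4_last d x hx l k (j + (d k - 1)) (d k - 1) (by omega) (by omega)

/-- LEAF C4 (Toeplitz shape of the commutant). -/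
theorem commute_nilM_entries {t : ℕ} (d : Fin t → ℕ) (x : Matrix (JI d) (JI d) F)
    (hx : x * nilM d F = nilM d F * x) (l k : Fin t) (b : Fin (d l)) (a : Fin (d k)) :
    x ⟨l, b⟩ ⟨k, a⟩ =
      if h : (a : ℕ) ≤ (b : ℕ) ∧ d l ≤ (b : ℕ) - (a : ℕ) + d k then
        x ⟨l, ⟨(b : ℕ) - (a : ℕ), by have := b.2; omega⟩⟩ ⟨k, ⟨0, by have := a.2; omega⟩⟩
      else 0 := by
  have hb := b.2
  have ha := a.2
  rw [← spcc4X_eq d x l k b a, spcc4_shift d x hx l k a b hb ha]
  by_cases h1 : (a : ℕ) ≤ (b : ℕ)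
  · rw [if_pos h1]
    by_cases h2 : d l ≤ (b : ℕ) - (a : ℕ) + d k
    · rw [dif_pos ⟨h1, h2⟩]
      unfold spcc4X
      rw [dif_pos ⟨by omega, by omega⟩]
    · rw [dif_neg (fun h => h2 h.2)]
      exact spcc4_zero d x hx l k ((b : ℕ) - (a : ℕ)) (by omega) (by omega)
  · rw [if_neg h1, dif_neg (fun h => h1 h.1)]

end Cfsg.Agent.Lib.Helper10.SPC
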