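/-
K-UNd pack (S5954, architect helper73), keystone 595424 K-UNd-SA:
Lagrange in `GU_k(q)`: a nondegenerate invariant subspace of `V1` has dimension at least `cU i`.
-/
import Mathlib
import Cfsg.Agent.Lib.Helper73.UNdDefs
import Cfsg.Agent.Lib.Helper46.UTiDefs
import Cfsg.Agent.Lib.Helper51.UTiB5
import Cfsg.Agent.S0277

set_option autoImplicit false
set_option linter.unusedSectionVars false
set_option linter.unusedVariables false

namespace Cfsg.Agent.Lib.Helper10.UNd

open Module Cfsg.Agent.Lib.Helper98.Elus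

universe u

/-! ### arithmetic -/

/-- `a ^ e = (-1) ^ e` in `ZMod r` forces `cU (orderOf a) ∣ e` -/
theorem cU_dvd_of_pow_eq (r : ℕ) [Fact r.Prime] (hr2 : r ≠ 2) (a : ZMod r) (ha : a ≠ 0) (e : ℕ)
    (hae : a ^ e = (-1) ^ e) : Cfsg.Agent.Lib.Helper73.UNd.cU (orderOf a) ∣ e := by
  have hne : (-1 : ZMod r) ≠ 1 := by
    intro h
    have h2 : ((2 : ℕ) : ZMod r) = 0 := by
      have : (1 : ZMod r) + 1 = 0 := by
        nth_rewrite 1 [← h]; ring
      rw [← this]; norm_num
    rw [ZMod.natCast_eq_zero_iff] at h2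
    exact hr2 ((Nat.prime_dvd_prime_iff_eq (Fact.out : r.Prime) Nat.prime_two).mp h2)
  have hipos : 0 < orderOf a := by
    apply orderOf_pos_iff.mpr
    exact isOfFinOrder_iff_pow_eq_one.mpr ⟨r - 1, by
      have := (Fact.out : r.Prime).two_le; omega, ZMod.pow_card_sub_one_eq_one ha⟩
  unfold Cfsg.Agent.Lib.Helper73.UNd.cU
  rcases Nat.even_or_odd e with hev | hodd
  · have h1 : a ^ e = 1 := by rw [hae, hev.neg_one_pow]
    have h2 : orderOf a ∣ e := orderOf_dvd_of_pow_eq_one h1
    by_cases h4 : orderOf a % 4 = 0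
    · rw [if_pos h4]; exact h2
    · rw [if_neg h4]
      by_cases h42 : orderOf a % 4 = 2
      · rw [if_pos h42]
        exact Dvd.dvd.trans (Nat.div_dvd_of_dvd (by omega)) h2
      · rw [if_neg h42]
        have hiodd : Odd (orderOf a) := by
          rw [Nat.odd_iff]; omega
        exact Nat.Coprime.mul_dvd_of_dvd_of_dvd (Nat.coprime_two_left.mpr hiodd)
          hev.two_dvd h2
  · have hae' : a ^ e = -1 := by rw [hae, hodd.neg_one_pow]
    have h4 : a ^ (2 * e) = 1 := by rw [mul_comm, pow_mul, hae']; norm_num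
    have h5 : orderOf a ∣ 2 * e := orderOf_dvd_of_pow_eq_one h4
    have h6 : ¬ orderOf a ∣ e := by
      intro h
      have := orderOf_dvd_iff_pow_eq_one.mp h
      rw [hae'] at this
      exact hne this
    rcases Nat.even_or_odd (orderOf a) with hiev | hiodd
    · obtain ⟨d, hd⟩ := hiev
      have hd2 : orderOf a = 2 * d := by omega
      have hde : d ∣ e := by
        rw [hd2] at h5
        exact (Nat.mul_dvd_mul_iff_left (by norm_num : 0 < 2)).mp h5
      have hdodd : Odd d := by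
        obtain ⟨k, hk⟩ := hde
        rw [hk] at hodd
        exact (Nat.odd_mul.mp hodd).1
      obtain ⟨k, hk⟩ := hdodd
      have h42 : orderOf a % 4 = 2 := by omega
      have h40 : ¬ orderOf a % 4 = 0 := by omega
      rw [if_neg h40, if_pos h42]
      have : orderOf a / 2 = d := by omega
      rw [this]; exact hde
    · exfalso
      apply h6
      exact (Nat.Coprime.dvd_mul_left (Nat.Coprime.symm (Nat.coprime_two_left.mpr hiodd))).mp h5

/-- a prime dividing the order formula of `GU_b(q)` and not `q` divides some `q^e - (-1)^e` -/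
theorem exists_pow_eq_of_dvd_GUf' (r : ℕ) [Fact r.Prime] (q b : ℕ) (hrq : ¬ r ∣ q)
    (h : r ∣ q ^ (b * (b - 1) / 2) *
      ∏ i ∈ Finset.range b, (if Even i then q ^ (i + 1) + 1 else q ^ (i + 1) - 1)) :
    ∃ e, 1 ≤ e ∧ e ≤ b ∧ (q : ZMod r) ^ e = (-1) ^ e := by
  have hr : r.Prime := Fact.out
  rcases (Nat.Prime.dvd_mul hr).mp h with h1 | h1
  · exact absurd (hr.dvd_of_dvd_pow h1) hrq
  · obtain ⟨j, hj, hjd⟩ := (Prime.dvd_finsetProd_iff hr.prime _).mp h1
    rw [Finset.mem_range] at hj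
    refine ⟨j + 1, by omega, by omega, ?_⟩
    by_cases hev : Even j
    · rw [if_pos hev] at hjd
      have h2 : ((q ^ (j + 1) + 1 : ℕ) : ZMod r) = 0 := (ZMod.natCast_eq_zero_iff _ _).mpr hjd
      push_cast at h2
      have hodd : Odd (j + 1) := hev.add_one
      rw [hodd.neg_one_pow]
      exact eq_neg_of_add_eq_zero_left h2
    · rw [if_neg hev] at hjd
      have hq1 : 1 ≤ q ^ (j + 1) := by
        apply Nat.one_le_pow
        rcases Nat.eq_zero_or_pos q with h0 | h0
        · exfalso; apply hrq; rw [h0]; exact dvd_zero r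
        · exact h0
      have h2 : ((q ^ (j + 1) - 1 : ℕ) : ZMod r) = 0 := (ZMod.natCast_eq_zero_iff _ _).mpr hjd
      rw [Nat.cast_sub hq1] at h2
      push_cast at h2
      have hev' : Even (j + 1) := by
        rw [Nat.even_add_one]; exact hev
      rw [hev'.neg_one_pow]
      exact sub_eq_zero.mp h2

/-! ### Lagrange in `GU_k(q)` -/

section lagrange

open Cfsg.Agent.Lib.Helper46.UTi

variable {F : Type u} [Field F] [Fintype F] {V : Type u} [AddCommGroup V] [Module F V]
  [FiniteDimensional F V] {q : ℕ} {H : V → V → F}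

/-- `r` is invertible in `F` only if `r ∤ q` -/
theorem not_dvd_q_of_cast_ne_zero (hF : Fintype.card F = q ^ 2) (r : ℕ) [Fact r.Prime]
    (hrF : (r : F) ≠ 0) : ¬ r ∣ q := by
  intro hdvd
  have hr : r.Prime := Fact.out
  obtain ⟨p, hpc⟩ := CharP.exists F
  have : CharP F p := hpc
  have : Fact p.Prime := ⟨CharP.char_is_prime F p⟩
  have hp : p.Prime := Fact.out
  obtain ⟨k, hk⟩ := FiniteField.card F p
  have h5 : r ∣ p ^ (k : ℕ) := by
    rw [← hk.2, hF]; exact dvd_pow hdvd (by norm_num)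
  have h6 : r = p := (Nat.prime_dvd_prime_iff_eq hr hp).mp (hr.dvd_of_dvd_pow h5)
  apply hrF
  rw [h6]
  exact CharP.cast_eq_zero F p

/-- an isometry of prime order `r` of a nonzero nondegenerate invariant subspace of `V1` gives
`r ∣ q^e - (-1)^e` for some `1 ≤ e ≤ dim` -/
theorem exists_pow_eq_of_nonDeg (hF : Fintype.card F = q ^ 2) (hH : IsHerm q H) (r : ℕ)
    [Fact r.Prime] (hrF : (r : F) ≠ 0) (y : V →ₗ[F] V) (hy : y ^ r = 1) (hiso : Iso H y)
    (S : Submodule F V) (hS1 : S ≤ V1 r y) (hSinv : Inv y S) (hSnd : NonDeg H S) (hSne : S ≠ ⊥) :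
    ∃ e, 1 ≤ e ∧ e ≤ finrank F S ∧ (q : ZMod r) ^ e = (-1) ^ e := by
  classical
  have hr : r.Prime := Fact.out
  have hrq : ¬ r ∣ q := not_dvd_q_of_cast_ne_zero hF r hrF
  -- the restricted form and isometry
  set H' : S → S → F := fun u v => H u.1 v.1 with hH'def
  have hH' : IsHerm q H' :=
    ⟨fun x x' y => hH.add_left x.1 x'.1 y.1, fun c x y => hH.smul_left c x.1 y.1,
      fun x y => hH.conj x.1 y.1⟩
  have hV' : NonDeg H' (⊤ : Submodule F S) := by
    intro u _ hu
    have := hSnd u.1 u.2 (fun v hv => hu ⟨v, hv⟩ Submodule.mem_top)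
    exact Subtype.ext this
  have hSinv' : ∀ v ∈ S, y v ∈ S := fun v hv => hSinv v hv
  obtain ⟨y', hy'def⟩ : ∃ y' : S →ₗ[F] S, ∀ u : S, ((y' u : S) : V) = y u.1 :=
    ⟨y.restrict hSinv', fun u => rfl⟩
  have hiso' : Iso H' y' := by
    intro u v
    show H (y' u : S).1 (y' v : S).1 = H u.1 v.1
    rw [hy'def, hy'def]
    exact hiso u.1 v.1
  have hy'pow : ∀ k : ℕ, ∀ u : S, (((y' ^ k) u : S) : V) = (y ^ k) u.1 := by
    intro k
    induction k with
    | zero => intro u; simp
    | succ k ih =>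
      intro u
      rw [pow_succ', pow_succ', Module.End.mul_apply, Module.End.mul_apply]
      rw [hy'def, ih]
  have hy'r : y' ^ r = 1 := by
    apply LinearMap.ext
    intro u
    apply Subtype.ext
    rw [hy'pow, hy]
    simp
  have hy'ne : y' ≠ 1 := by
    intro h1
    apply hSne
    rw [eq_bot_iff]
    intro v hv
    have h2 : y v = v := by
      have := hy'def ⟨v, hv⟩
      rw [h1] at this
      exact this.symm
    have h3 : v ∈ V0 y ⊓ V1 r y := ⟨(mem_V0 y v).mpr h2, hS1 hv⟩
    rw [V0_inf_V1 r hrF y] at h3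
    exact h3
  -- an orthonormal basis and the matrix of `y'`
  obtain ⟨n, hn⟩ : ∃ n, finrank F S = n := ⟨_, rfl⟩
  obtain ⟨e, he⟩ := Cfsg.Agent.Lib.Helper51.UTi.exists_onb hF hH' hV' n hn
  set M : Matrix (Fin n) (Fin n) F := LinearMap.toMatrixAlgEquiv e y' with hM
  have hM' : M = LinearMap.toMatrix e e y' := rfl
  have hMr : M ^ r = 1 := by rw [hM, ← map_pow, hy'r, map_one]
  have hMne : M ≠ 1 := by
    intro h1
    apply hy'ne
    apply (LinearMap.toMatrixAlgEquiv e).injective
    rw [map_one]; exact h1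
  have hMpres : ∀ u v : Fin n → F, Cfsg.hermForm n F q (M.mulVec u) (M.mulVec v) =
      Cfsg.hermForm n F q u v := by
    intro u v
    rw [hM']
    exact Cfsg.Agent.Lib.Helper51.UTi.toMatrix_preserves hH' e he y' hiso' u v
  have hr1 : r = (r - 1) + 1 := by have := hr.two_le; omega
  let g : Matrix.GeneralLinearGroup (Fin n) F :=
    ⟨M, M ^ (r - 1), by rw [← pow_succ', ← hr1, hMr], by rw [← pow_succ, ← hr1, hMr]⟩
  have hgU : g ∈ Cfsg.GU n F q := by
    rw [Cfsg.Agent.Lib.Helper19.mem_GU_iff]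
    exact hMpres
  have hgr : g ^ r = 1 := by
    apply Units.ext
    rw [Units.val_pow_eq_pow_val]
    exact hMr
  have hgne : g ≠ 1 := by
    intro h1
    apply hMne
    have := congrArg (fun u : Matrix.GeneralLinearGroup (Fin n) F =>
      (u : Matrix (Fin n) (Fin n) F)) h1
    exact this
  let g' : Cfsg.GU n F q := ⟨g, hgU⟩
  have hg'ord : orderOf g' = r := by
    apply orderOf_eq_prime
    · apply Subtype.ext
      rw [Subgroup.coe_pow]; exact hgr
    · intro h1
      apply hgne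
      exact congrArg Subtype.val h1
  have hdvd : r ∣ Nat.card (Cfsg.GU n F q) := by
    rw [← hg'ord]; exact orderOf_dvd_natCard g'
  rw [Cfsg.Agent.S0277.result hF n] at hdvd
  rw [hn]
  exact exists_pow_eq_of_dvd_GUf' r q n hrq hdvd

end lagrange

section main

open Cfsg.Agent.Lib.Helper99.HermONB Cfsg.Agent.Lib.Helper73.UNd

variable {F : Type u} [Field F] {V : Type u} [AddCommGroup V] [Module F V]
variable {q : ℕ} {h : V → V → F}

/-- **S-A (595424)** Lagrange -/
theorem cU_le_finrank_of_nd [Fintype F] [FiniteDimensional F V] (hF : Fintype.card F = q ^ 2)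
    (hh : HForm q h) (r : ℕ) [Fact r.Prime] (hr2 : r ≠ 2) (hrF : (r : F) ≠ 0) (y : V →ₗ[F] V)
    (hy : y ^ r = 1) (hiso : Isom h y) (W : Submodule F V) (hW : Inv y W) (hWnd : ND h W)
    (hWV1 : W ≤ V1 r y) (hne : W ≠ ⊥) : cU (orderOf (q : ZMod r)) ≤ finrank F W := by
  have hH : Cfsg.Agent.Lib.Helper46.UTi.IsHerm q h := ⟨hh.add_left, hh.smul_left, hh.conj⟩
  obtain ⟨e, he1, he2, he3⟩ := exists_pow_eq_of_nonDeg hF hH r hrF y hy hiso W hWV1 hW hWnd hne
  have hrq : ¬ r ∣ q := not_dvd_q_of_cast_ne_zero hF r hrF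
  have hq0 : (q : ZMod r) ≠ 0 := by
    intro h0
    exact hrq ((ZMod.natCast_eq_zero_iff q r).mp h0)
  have hdvd := cU_dvd_of_pow_eq r hr2 (q : ZMod r) hq0 e he3
  exact le_trans (Nat.le_of_dvd (by omega) hdvd) he2

end main

end Cfsg.Agent.Lib.Helper10.UNd
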