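import Mathlib
import Cfsg.Agent.Lib.Helper06.NormalFour
import Cfsg.Agent.Lib.Helper97.UniqueOrderP
import Cfsg.Agent.Lib.Helper59.CSCTop
import Cfsg.Agent.Lib.Helper42.Meta2
import Cfsg.Agent.Lib.Helper03.PGroupFrattini

set_option autoImplicit false
set_option linter.unusedVariables false
set_option linter.unusedSectionVars false
set_option linter.style.haveILetI false

/-!
# Leaf K-4188-A8 (S4188): 2-groups without a normal four-group have Frattini index `≤ 4`
-/

namespace Cfsg.Agent.Lib.Helper10.AG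

open Subgroup

variable {X : Type*} [Group X] [Finite X]

/-- every normal abelian subgroup is cyclic -/
theorem normal_abelian_cyclic (hX : IsPGroup 2 X)
    (h : ¬ ∃ z u : X, z ≠ 1 ∧ z ^ 2 = 1 ∧ z ∈ Subgroup.center X ∧ u ≠ 1 ∧ u ^ 2 = 1 ∧ u ≠ z ∧
      ∀ s : X, s * u * s⁻¹ = u ∨ s * u * s⁻¹ = u * z)
    (A : Subgroup X) (hAn : A.Normal) (hAc : ∀ a ∈ A, ∀ b ∈ A, a * b = b * a) : IsCyclic A := by
  haveI : Fact (Nat.Prime 2) := ⟨Nat.prime_two⟩
  haveI := hAn
  apply Cfsg.Agent.Lib.Helper97.isCyclic_of_comm_of_uniqueOrderP (p := 2) (hX.to_subgroup A)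
  · intro a b
    exact Subtype.ext (hAc a a.2 b b.2)
  · intro x y hx hy
    by_contra hy'
    apply h
    have hx1 : (x : X) ≠ 1 := by
      intro e
      have : x = 1 := Subtype.ext e
      rw [this, orderOf_one] at hx
      omega
    have hy1 : (y : X) ≠ 1 := by
      intro e
      have : y = 1 := Subtype.ext e
      rw [this, orderOf_one] at hy
      omega
    have hx2 : (x : X) ^ 2 = 1 := by
      have := pow_orderOf_eq_one x
      rw [hx] at this
      have := congrArg Subtype.val this
      simpa using this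
    have hy2 : (y : X) ^ 2 = 1 := by
      have := pow_orderOf_eq_one y
      rw [hy] at this
      have := congrArg Subtype.val this
      simpa using this
    have hA : A ≠ ⊥ := by
      intro e
      apply hx1
      have hxA : (x : X) ∈ A := x.2
      have hxb : (x : X) ∈ (⊥ : Subgroup X) := e ▸ hxA
      exact Subgroup.mem_bot.mp hxb
    obtain ⟨z, hzA, hz1, hz2, hzc⟩ :=
      Cfsg.Agent.Lib.Helper06.exists_central_invol_mem_normal hX A hA
    let Ω : Subgroup X :=
      { carrier := {a | a ∈ A ∧ a ^ 2 = 1}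
        mul_mem' := by
          intro a b ha hb
          refine ⟨A.mul_mem ha.1 hb.1, ?_⟩
          rw [pow_two, mul_assoc, ← mul_assoc b a b, hAc b hb.1 a ha.1, mul_assoc, ← mul_assoc,
            ← pow_two, ← pow_two, ha.2, hb.2, one_mul]
        one_mem' := ⟨A.one_mem, one_pow 2⟩
        inv_mem' := by
          intro a ha
          exact ⟨A.inv_mem ha.1, by rw [inv_pow, ha.2, inv_one]⟩ }
    haveI hΩn : Ω.Normal := ⟨fun a ha g => ⟨hAn.conj_mem a ha.1 g, by
      rw [conj_pow, ha.2, mul_one, mul_inv_cancel]⟩⟩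
    have hxy : (y : X) ≠ x := by
      intro e
      apply hy'
      have : y = x := Subtype.ext e
      rw [this]
      exact Subgroup.mem_zpowers x
    obtain ⟨w, hwΩ, hw1, hwz⟩ : ∃ w ∈ Ω, w ≠ 1 ∧ w ≠ z := by
      by_cases hxz : (x : X) = z
      · exact ⟨y, ⟨y.2, hy2⟩, hy1, fun e => hxy (e.trans hxz.symm)⟩
      · exact ⟨x, ⟨x.2, hx2⟩, hx1, hxz⟩
    obtain ⟨u, huΩ, hu1, huz, hconj⟩ :=
      Cfsg.Agent.Lib.Helper06.normal_four_of_elemAb hX Ω z w hz1 hz2 hzc hwΩ hw1 hwz
    exact ⟨z, u, hz1, hz2, hzc, hu1, huΩ.2, huz, hconj⟩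

/-- a cyclic 2-group has Frattini index `≤ 2` -/
theorem index_le_two_of_cyclic (hX : IsPGroup 2 X) [IsCyclic X] : (frattini X).index ≤ 2 := by
  haveI : Fact (Nat.Prime 2) := ⟨Nat.prime_two⟩
  obtain ⟨g, hg⟩ := IsCyclic.exists_generator (α := X)
  rw [Subgroup.index_eq_card]
  have hsq : ∀ x : X, (QuotientGroup.mk x : X ⧸ frattini X) ^ 2 = 1 := fun x => by
    rw [← QuotientGroup.mk_pow, QuotientGroup.eq_one_iff]
    exact Cfsg.Agent.Lib.Helper03.pow_mem_frattini_of_isPGroup hX x
  have h2 : (QuotientGroup.mk g : X ⧸ frattini X) ^ (2 : ℤ) = 1 := by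
    rw [show (2 : ℤ) = ((2 : ℕ) : ℤ) from rfl, zpow_natCast]
    exact hsq g
  have hall : ∀ q : X ⧸ frattini X, q = 1 ∨ q = QuotientGroup.mk g := by
    intro q
    obtain ⟨x, rfl⟩ := QuotientGroup.mk_surjective q
    obtain ⟨k, rfl⟩ := Subgroup.mem_zpowers_iff.mp (hg x)
    rcases Int.even_or_odd' k with ⟨m, rfl | rfl⟩
    · left
      rw [QuotientGroup.mk_zpow, zpow_mul, h2, one_zpow]
    · right
      rw [QuotientGroup.mk_zpow, zpow_add, zpow_mul, h2, one_zpow, one_mul, zpow_one]
  have hle : Nat.card (X ⧸ frattini X) ≤ Nat.card Bool :=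
    Nat.card_le_card_of_surjective
      (fun b : Bool => if b then (QuotientGroup.mk g : X ⧸ frattini X) else 1) (by
        intro q
        rcases hall q with rfl | rfl
        · exact ⟨false, by simp⟩
        · exact ⟨true, by simp⟩)
  simpa using hle

theorem caseC {X : Type*} [Group X] [Finite X] (hX : IsPGroup 2 X)
    (h : ¬ ∃ z u : X, z ≠ 1 ∧ z ^ 2 = 1 ∧ z ∈ Subgroup.center X ∧ u ≠ 1 ∧ u ^ 2 = 1 ∧ u ≠ z ∧
      ∀ s : X, s * u * s⁻¹ = u ∨ s * u * s⁻¹ = u * z) :
    (frattini X).index ≤ 4 ∧ ((∀ a b : X, a * b = b * a) → (frattini X).index ≤ 2) := by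
  haveI : Fact (Nat.Prime 2) := ⟨Nat.prime_two⟩
  have hcyc := normal_abelian_cyclic hX h
  have hab : (∀ a b : X, a * b = b * a) → (frattini X).index ≤ 2 := by
    intro hcomm
    haveI : IsCyclic X := by
      have hT := hcyc ⊤ inferInstance (fun a _ b _ => hcomm a b)
      exact isCyclic_of_surjective (Subgroup.topEquiv : (⊤ : Subgroup X) ≃* X)
        Subgroup.topEquiv.surjective
    exact index_le_two_of_cyclic hX
  refine ⟨?_, hab⟩
  by_cases hcomm : ∀ a b : X, a * b = b * a
  · exact le_trans (hab hcomm) (by norm_num)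
  · obtain ⟨A, hAn, hAc, hCA⟩ :=
      Cfsg.Agent.Lib.Helper97.exists_normal_abelian_self_centralizing' (p := 2) hX
    have hAcyc : IsCyclic A := hcyc A hAn hAc
    have hC : Subgroup.centralizer (A : Set X) = A := by
      apply le_antisymm hCA
      intro a ha
      rw [Subgroup.mem_centralizer_iff]
      intro b hb
      exact hAc b hb a ha
    obtain ⟨n, hn⟩ := (hX.to_subgroup A).exists_card_eq
    have hna : ¬ IsMulCommutative X := by
      intro hc
      apply hcomm
      intro a b
      exact hc.is_comm.comm a b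
    haveI := hAn
    rcases Cfsg.Agent.Lib.Helper59.csc_main hX hna A hAcyc n hn hC with
      ⟨-, hcard, -⟩ | ⟨-, hel, hcard4, hchar⟩
    · -- `A` has index `2`
      obtain ⟨⟨a, haA⟩, hgen⟩ := hAcyc.exists_generator
      have hidx : A.index = 2 := by
        have h1 := A.card_mul_index
        rw [hn, hcard, pow_succ] at h1
        exact Nat.eq_of_mul_eq_mul_left (pow_pos (by norm_num) n) h1
      obtain ⟨x, hx⟩ : ∃ x : X, x ∉ A := by
        by_contra hall
        push Not at hall
        have : A = ⊤ := by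
          rw [Subgroup.eq_top_iff']
          exact hall
        rw [this, Subgroup.index_top] at hidx
        omega
      have hAle : A ≤ Subgroup.zpowers a ⊔ Subgroup.zpowers x := by
        intro y hy
        obtain ⟨k, hk⟩ := Subgroup.mem_zpowers_iff.mp (hgen ⟨y, hy⟩)
        have hk' : a ^ k = y := by
          have := congrArg Subtype.val hk
          simpa using this
        rw [← hk']
        exact (le_sup_left : Subgroup.zpowers a ≤ _) (Subgroup.zpow_mem_zpowers a k)
      have hlt : A < Subgroup.zpowers a ⊔ Subgroup.zpowers x := by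
        refine lt_of_le_of_ne hAle ?_
        intro e
        apply hx
        rw [e]
        exact (le_sup_right : Subgroup.zpowers x ≤ _) (Subgroup.mem_zpowers x)
      have hgenX : Subgroup.zpowers a ⊔ Subgroup.zpowers x = ⊤ := by
        have h1 : (Subgroup.zpowers a ⊔ Subgroup.zpowers x).index < A.index :=
          Subgroup.index_strictAnti hlt
        rw [hidx] at h1
        have h0 : (Subgroup.zpowers a ⊔ Subgroup.zpowers x).index ≠ 0 := Subgroup.index_ne_zero_of_finite
        apply Subgroup.index_eq_one.mp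
        omega
      have := Cfsg.Agent.Lib.Helper42.Meta2.card_frattini_quotient_le hX a x hgenX
      rwa [← Subgroup.index_eq_card] at this
    · exfalso
      set E := Cfsg.omegaOne 2 (Subgroup.centralizer (Cfsg.powerClosure 2 1 A : Set X)) with hE
      haveI := hchar
      have hEn : E.Normal := inferInstance
      have hEcyc : IsCyclic E := hcyc E hEn (fun a ha b hb => by
        have := hel.1.is_comm.comm (⟨a, ha⟩ : E) ⟨b, hb⟩
        exact congrArg Subtype.val this)
      obtain ⟨g, hg⟩ := IsCyclic.exists_generator (α := E)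
      have h1 : orderOf g = Nat.card E := orderOf_eq_card_of_forall_mem_zpowers hg
      have h2 : g ^ 2 = 1 := by
        apply Subtype.ext
        have := hel.2 g.1 g.2
        simpa using this
      have h3 : orderOf g ∣ 2 := orderOf_dvd_of_pow_eq_one h2
      have h4 := Nat.le_of_dvd (by norm_num) h3
      rw [h1, hcard4] at h4
      omega

end Cfsg.Agent.Lib.Helper10.AG
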