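import Mathlib

set_option autoImplicit false

namespace Cfsg.Agent.Lib.Helper10

open Subgroup
open scoped Pointwise

section
variable {G : Type*} [Group G]

theorem conj_pow_of_conj_sq {a m : G} (hm : m * a * m⁻¹ = a ^ 2) (s : ℕ) :
    m ^ s * a * (m ^ s)⁻¹ = a ^ (2 ^ s) := by
  induction s with
  | zero => simp
  | succ s ih =>
    have h1 : m ^ (s + 1) * a * (m ^ (s + 1))⁻¹ = m * (m ^ s * a * (m ^ s)⁻¹) * m⁻¹ := by
      rw [pow_succ']; group
    rw [h1, ih, ← conj_pow, hm, ← pow_mul, pow_succ, mul_comm]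

end

/-- Normalising an automorphism by inner automorphisms, relative to an element `a` of prime
order `p` generating a Sylow subgroup, self-centralising, and an element `m` squaring it. -/
theorem aut_normalize {G : Type*} [Group G] [Finite G] (a m : G) (p k : ℕ) [hp : Fact p.Prime]
    (hcard : Nat.card G = p * k) (hk : ¬ p ∣ k)
    (ha : orderOf a = p)
    (hm : m * a * m⁻¹ = a ^ 2)
    (hgen : ∀ t : ZMod p, t ≠ 0 → ∃ s : ℕ, t * 2 ^ s = 1 ∨ t * 2 ^ s = -1)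
    (hC : ∀ g : G, g * a = a * g → g ∈ zpowers a)
    (φ : G ≃* G) :
    ∃ ψ : G ≃* G, (∃ g : G, ∀ x, ψ x = g * φ x * g⁻¹) ∧
      (ψ a = a ∨ ψ a = a⁻¹) ∧ ψ m = m := by
  classical
  have hp' := hp.out
  have hk0 : k ≠ 0 := by
    rintro rfl
    simp at hk
  -- Step 1: Sylow conjugacy
  have hfac : (Nat.card G).factorization p = 1 := by
    rw [hcard, Nat.factorization_mul hp'.ne_zero hk0]
    simp [hp'.factorization_self, Nat.factorization_eq_zero_of_not_dvd hk]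
  have hcardP : ∀ x : G, orderOf x = p → Nat.card (zpowers x) = p ^ (Nat.card G).factorization p := by
    intro x hx
    rw [hfac, pow_one, Nat.card_zpowers, hx]
  have hφa : orderOf (φ a) = p := by
    rw [MulEquiv.orderOf_eq, ha]
  let P : Sylow p G := Sylow.ofCard (zpowers a) (hcardP a ha)
  let Q : Sylow p G := Sylow.ofCard (zpowers (φ a)) (hcardP (φ a) hφa)
  obtain ⟨g, hg⟩ := MulAction.exists_smul_eq G Q P
  have h1 : g * φ a * g⁻¹ ∈ zpowers a := by
    have h0 : φ a ∈ (Q : Subgroup G) := mem_zpowers (φ a)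
    have : MulAut.conj g • φ a ∈ MulAut.conj g • (Q : Subgroup G) :=
      Subgroup.smul_mem_pointwise_smul _ _ _ h0
    rw [← Sylow.coe_subgroup_smul, hg] at this
    exact this
  -- write it as a power
  have hfin : IsOfFinOrder a := by
    rw [← orderOf_pos_iff, ha]; exact hp'.pos
  obtain ⟨n, hn⟩ := (mem_powers_iff_mem_zpowers (x := a) (y := g * φ a * g⁻¹)).mpr h1
  have hn : a ^ n = g * φ a * g⁻¹ := hn
  have hord1 : orderOf (g * φ a * g⁻¹) = p := by
    have : g * φ a * g⁻¹ = MulAut.conj g (φ a) := rfl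
    rw [this, MulEquiv.orderOf_eq, hφa]
  have hn0 : (n : ZMod p) ≠ 0 := by
    intro h0
    rw [ZMod.natCast_eq_zero_iff] at h0
    have : a ^ n = 1 := by
      rw [← ha] at h0
      exact orderOf_dvd_iff_pow_eq_one.mp h0
    rw [hn] at this
    rw [this, orderOf_one] at hord1
    exact hp'.one_lt.ne hord1
  obtain ⟨s, hs⟩ := hgen n hn0
  -- Step 2: conjugate by m ^ s
  have h2 : (m ^ s * g) * φ a * (m ^ s * g)⁻¹ = a ^ (n * 2 ^ s) := by
    have : (m ^ s * g) * φ a * (m ^ s * g)⁻¹ = m ^ s * (g * φ a * g⁻¹) * (m ^ s)⁻¹ := by group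
    rw [this, ← hn, ← conj_pow, conj_pow_of_conj_sq hm, ← pow_mul, mul_comm]
  have hpow : ∀ e : ℕ, ((e : ZMod p) = 1 → a ^ e = a) ∧ ((e : ZMod p) = -1 → a ^ e = a⁻¹) := by
    intro e
    constructor
    · intro he
      have : (e : ZMod p) = ((1 : ℕ) : ZMod p) := by simpa using he
      rw [ZMod.natCast_eq_natCast_iff] at this
      rw [← ha] at this
      have := (pow_eq_pow_iff_modEq).mpr this
      simpa using this
    · intro he
      have h3 : ((e + 1 : ℕ) : ZMod p) = 0 := by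
        push_cast; rw [he]; ring
      rw [ZMod.natCast_eq_zero_iff, ← ha] at h3
      have := orderOf_dvd_iff_pow_eq_one.mp h3
      rw [pow_succ] at this
      exact eq_inv_of_mul_eq_one_left this
  have h3 : (m ^ s * g) * φ a * (m ^ s * g)⁻¹ = a ∨ (m ^ s * g) * φ a * (m ^ s * g)⁻¹ = a⁻¹ := by
    rw [h2]
    have hc : ((n * 2 ^ s : ℕ) : ZMod p) = (n : ZMod p) * 2 ^ s := by push_cast; ring
    rcases hs with hs | hs
    · left; exact (hpow _).1 (by rw [hc, hs])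
    · right; exact (hpow _).2 (by rw [hc, hs])
  -- Step 3: adjust by a power of a
  set g2 := m ^ s * g with hg2
  set m' := g2 * φ m * g2⁻¹ with hm'
  have h4 : m' * a * m'⁻¹ = a ^ 2 := by
    have hconj : ∀ x y : G, (g2 * φ x * g2⁻¹) * (g2 * φ y * g2⁻¹) * (g2 * φ x * g2⁻¹)⁻¹ =
        g2 * φ (x * y * x⁻¹) * g2⁻¹ := by
      intro x y
      simp only [map_mul, map_inv]; group
    rcases h3 with h3 | h3
    · have := hconj m a
      rw [h3, hm, map_pow] at this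
      rw [this, ← conj_pow, h3]
    · have := hconj m a
      rw [h3, hm, map_pow, ← conj_pow, h3] at this
      have h5 : (m' * a⁻¹ * m'⁻¹)⁻¹ = (a⁻¹ ^ 2)⁻¹ := by rw [this]
      rw [inv_pow, inv_inv] at h5
      rw [← h5]; group
  have h5 : (m⁻¹ * m') * a = a * (m⁻¹ * m') := by
    have e1 : m⁻¹ * a ^ 2 * m = a := by rw [← hm]; group
    have : m⁻¹ * m' * a * (m⁻¹ * m')⁻¹ = a := by
      have : m⁻¹ * m' * a * (m⁻¹ * m')⁻¹ = m⁻¹ * (m' * a * m'⁻¹) * m := by group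
      rw [this, h4, e1]
    calc m⁻¹ * m' * a = (m⁻¹ * m' * a * (m⁻¹ * m')⁻¹) * (m⁻¹ * m') := by group
      _ = a * (m⁻¹ * m') := by rw [this]
  obtain ⟨j, hj⟩ := (mem_powers_iff_mem_zpowers (x := a) (y := m⁻¹ * m')).mpr (hC _ h5)
  have hj : a ^ j = m⁻¹ * m' := hj
  have hm'j : m' = m * a ^ j := by rw [hj]; group
  have h6 : a ^ (2 * j) * m' * (a ^ (2 * j))⁻¹ = m := by
    have e2 : m * (a ^ j)⁻¹ * m⁻¹ = (a ^ (2 * j))⁻¹ := by
      have : m * (a ^ j)⁻¹ * m⁻¹ = (m * a ^ j * m⁻¹)⁻¹ := by group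
      rw [this, ← conj_pow, hm, ← pow_mul]
    have : a ^ (2 * j) * m' * (a ^ (2 * j))⁻¹ = a ^ (2 * j) * (m * (a ^ j)⁻¹ * m⁻¹) * m := by
      rw [hm'j, two_mul, pow_add]; group
    rw [this, e2]; group
  have h7 : a ^ (2 * j) * a * (a ^ (2 * j))⁻¹ = a := by
    rw [← pow_succ, pow_succ', mul_assoc, mul_inv_cancel, mul_one]
  have h7' : a ^ (2 * j) * a⁻¹ * (a ^ (2 * j))⁻¹ = a⁻¹ := by
    have : a ^ (2 * j) * a⁻¹ * (a ^ (2 * j))⁻¹ = (a ^ (2 * j) * a * (a ^ (2 * j))⁻¹)⁻¹ := by group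
    rw [this, h7]
  refine ⟨φ.trans (MulAut.conj (a ^ (2 * j) * g2)), ⟨a ^ (2 * j) * g2, fun x => rfl⟩, ?_, ?_⟩
  · show (a ^ (2 * j) * g2) * φ a * (a ^ (2 * j) * g2)⁻¹ = a ∨
      (a ^ (2 * j) * g2) * φ a * (a ^ (2 * j) * g2)⁻¹ = a⁻¹
    have : (a ^ (2 * j) * g2) * φ a * (a ^ (2 * j) * g2)⁻¹ =
        a ^ (2 * j) * (g2 * φ a * g2⁻¹) * (a ^ (2 * j))⁻¹ := by group
    rw [this]
    rcases h3 with h3 | h3
    · left; rw [h3, h7]
    · right; rw [h3, h7']
  · show (a ^ (2 * j) * g2) * φ m * (a ^ (2 * j) * g2)⁻¹ = m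
    have : (a ^ (2 * j) * g2) * φ m * (a ^ (2 * j) * g2)⁻¹ =
        a ^ (2 * j) * (g2 * φ m * g2⁻¹) * (a ^ (2 * j))⁻¹ := by group
    rw [this]
    exact h6

end Cfsg.Agent.Lib.Helper10

namespace Cfsg.Agent.Lib.Helper10

open Subgroup

theorem aut_fix_coset {G : Type*} [Group G] (ψ : G ≃* G) (m s : G) (hm : ψ m = m)
    (hs : s * m * s⁻¹ ∈ zpowers m) : (s⁻¹ * ψ s) * m = m * (s⁻¹ * ψ s) := by
  obtain ⟨k, hk⟩ := hs
  have hk : m ^ k = s * m * s⁻¹ := hk
  have h1 : ψ (s * m * s⁻¹) = s * m * s⁻¹ := by rw [← hk, map_zpow, hm]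
  rw [map_mul, map_mul, map_inv, hm] at h1
  calc s⁻¹ * ψ s * m = s⁻¹ * (ψ s * m * (ψ s)⁻¹) * ψ s := by group
    _ = s⁻¹ * (s * m * s⁻¹) * ψ s := by rw [h1]
    _ = m * (s⁻¹ * ψ s) := by group

theorem card_out_eq_one {G : Type*} [Group G]
    (h : ∀ φ : G ≃* G, ∃ g : G, ∀ x, φ x = g * x * g⁻¹) :
    Nat.card (MulAut G ⧸ (MulAut.conj : G →* MulAut G).range) = 1 := by
  have : (MulAut.conj : G →* MulAut G).range = ⊤ := by
    rw [eq_top_iff]
    intro φ _
    obtain ⟨g, hg⟩ := h φ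
    refine ⟨g, ?_⟩
    ext x
    rw [hg]
    rfl
  rw [this]
  exact Subgroup.index_top

theorem exists_pow_lt_of_mem_zpowers {G : Type*} [Group G] {m x : G} {n : ℕ} (hn : 0 < n)
    (hm : m ^ n = 1) (hx : x ∈ zpowers m) : ∃ i < n, x = m ^ i := by
  obtain ⟨k, rfl⟩ := hx
  have hn' : (n : ℤ) ≠ 0 := by exact_mod_cast hn.ne'
  refine ⟨(k % n).toNat, ?_, ?_⟩
  · have h1 := Int.emod_lt_of_pos k (by exact_mod_cast hn : (0 : ℤ) < n)
    have h2 := Int.emod_nonneg k hn'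
    omega
  · have h2 := Int.emod_nonneg k hn'
    show m ^ k = m ^ (k % n).toNat
    rw [← zpow_natCast, Int.toNat_of_nonneg h2]
    exact zpow_eq_zpow_emod k (by rw [zpow_natCast]; exact hm)

end Cfsg.Agent.Lib.Helper10

namespace Cfsg.Agent.Lib.Helper10

open Subgroup
open scoped Pointwise

section
variable {G : Type*} [Group G]

theorem conj_pow_of_conj_pow {a m : G} {r : ℕ} (hm : m * a * m⁻¹ = a ^ r) (s : ℕ) :
    m ^ s * a * (m ^ s)⁻¹ = a ^ (r ^ s) := by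
  induction s with
  | zero => simp
  | succ s ih =>
    have h1 : m ^ (s + 1) * a * (m ^ (s + 1))⁻¹ = m * (m ^ s * a * (m ^ s)⁻¹) * m⁻¹ := by
      rw [pow_succ']; group
    rw [h1, ih, ← conj_pow, hm, ← pow_mul, pow_succ, mul_comm]

end

/-- Normalising an automorphism by inner automorphisms, relative to an element `a` of prime
order `p` generating a Sylow subgroup, self-centralising, and an element `m` with
`m a m⁻¹ = a ^ r`. -/
theorem aut_normalize_r {G : Type*} [Group G] [Finite G] (a m : G) (p k r q : ℕ)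
    [hp : Fact p.Prime]
    (hcard : Nat.card G = p * k) (hk : ¬ p ∣ k)
    (ha : orderOf a = p)
    (hm : m * a * m⁻¹ = a ^ r)
    (hgen : ∀ t : ZMod p, t ≠ 0 → ∃ s : ℕ, t * (r : ZMod p) ^ s = 1 ∨ t * (r : ZMod p) ^ s = -1)
    (hq : (q : ZMod p) * ((r : ZMod p) - 1) = 1)
    (hC : ∀ g : G, g * a = a * g → g ∈ zpowers a)
    (φ : G ≃* G) :
    ∃ ψ : G ≃* G, (∃ g : G, ∀ x, ψ x = g * φ x * g⁻¹) ∧
      (ψ a = a ∨ ψ a = a⁻¹) ∧ ψ m = m := by
  classical
  have hp' := hp.out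
  have hk0 : k ≠ 0 := by
    rintro rfl
    simp at hk
  have hfac : (Nat.card G).factorization p = 1 := by
    rw [hcard, Nat.factorization_mul hp'.ne_zero hk0]
    simp [hp'.factorization_self, Nat.factorization_eq_zero_of_not_dvd hk]
  have hcardP : ∀ x : G, orderOf x = p → Nat.card (zpowers x) = p ^ (Nat.card G).factorization p := by
    intro x hx
    rw [hfac, pow_one, Nat.card_zpowers, hx]
  have hφa : orderOf (φ a) = p := by
    rw [MulEquiv.orderOf_eq, ha]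
  let P : Sylow p G := Sylow.ofCard (zpowers a) (hcardP a ha)
  let Q : Sylow p G := Sylow.ofCard (zpowers (φ a)) (hcardP (φ a) hφa)
  obtain ⟨g, hg⟩ := MulAction.exists_smul_eq G Q P
  have h1 : g * φ a * g⁻¹ ∈ zpowers a := by
    have h0 : φ a ∈ (Q : Subgroup G) := mem_zpowers (φ a)
    have : MulAut.conj g • φ a ∈ MulAut.conj g • (Q : Subgroup G) :=
      Subgroup.smul_mem_pointwise_smul _ _ _ h0
    rw [← Sylow.coe_subgroup_smul, hg] at this
    exact this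
  have hfin : IsOfFinOrder a := by
    rw [← orderOf_pos_iff, ha]; exact hp'.pos
  obtain ⟨n, hn⟩ := (mem_powers_iff_mem_zpowers (x := a) (y := g * φ a * g⁻¹)).mpr h1
  have hn : a ^ n = g * φ a * g⁻¹ := hn
  have hord1 : orderOf (g * φ a * g⁻¹) = p := by
    have : g * φ a * g⁻¹ = MulAut.conj g (φ a) := rfl
    rw [this, MulEquiv.orderOf_eq, hφa]
  have hn0 : (n : ZMod p) ≠ 0 := by
    intro h0
    rw [ZMod.natCast_eq_zero_iff] at h0
    have : a ^ n = 1 := by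
      rw [← ha] at h0
      exact orderOf_dvd_iff_pow_eq_one.mp h0
    rw [hn] at this
    rw [this, orderOf_one] at hord1
    exact hp'.one_lt.ne hord1
  obtain ⟨s, hs⟩ := hgen n hn0
  have h2 : (m ^ s * g) * φ a * (m ^ s * g)⁻¹ = a ^ (n * r ^ s) := by
    have : (m ^ s * g) * φ a * (m ^ s * g)⁻¹ = m ^ s * (g * φ a * g⁻¹) * (m ^ s)⁻¹ := by group
    rw [this, ← hn, ← conj_pow, conj_pow_of_conj_pow hm, ← pow_mul, mul_comm]
  have hpoweq : ∀ e f : ℕ, (e : ZMod p) = (f : ZMod p) → a ^ e = a ^ f := by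
    intro e f hef
    rw [ZMod.natCast_eq_natCast_iff, ← ha] at hef
    exact (pow_eq_pow_iff_modEq).mpr hef
  have hpow : ∀ e : ℕ, ((e : ZMod p) = 1 → a ^ e = a) ∧ ((e : ZMod p) = -1 → a ^ e = a⁻¹) := by
    intro e
    constructor
    · intro he
      have := hpoweq e 1 (by simpa using he)
      simpa using this
    · intro he
      have h3 : ((e + 1 : ℕ) : ZMod p) = 0 := by
        push_cast; rw [he]; ring
      rw [ZMod.natCast_eq_zero_iff, ← ha] at h3
      have := orderOf_dvd_iff_pow_eq_one.mp h3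
      rw [pow_succ] at this
      exact eq_inv_of_mul_eq_one_left this
  have h3 : (m ^ s * g) * φ a * (m ^ s * g)⁻¹ = a ∨ (m ^ s * g) * φ a * (m ^ s * g)⁻¹ = a⁻¹ := by
    rw [h2]
    have hc : ((n * r ^ s : ℕ) : ZMod p) = (n : ZMod p) * (r : ZMod p) ^ s := by push_cast; ring
    rcases hs with hs | hs
    · left; exact (hpow _).1 (by rw [hc, hs])
    · right; exact (hpow _).2 (by rw [hc, hs])
  set g2 := m ^ s * g with hg2
  set m' := g2 * φ m * g2⁻¹ with hm'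
  have h4 : m' * a * m'⁻¹ = a ^ r := by
    have hconj : ∀ x y : G, (g2 * φ x * g2⁻¹) * (g2 * φ y * g2⁻¹) * (g2 * φ x * g2⁻¹)⁻¹ =
        g2 * φ (x * y * x⁻¹) * g2⁻¹ := by
      intro x y
      simp only [map_mul, map_inv]; group
    rcases h3 with h3 | h3
    · have := hconj m a
      rw [h3, hm, map_pow] at this
      rw [this, ← conj_pow, h3]
    · have := hconj m a
      rw [h3, hm, map_pow, ← conj_pow, h3] at this
      have h5 : (m' * a⁻¹ * m'⁻¹)⁻¹ = (a⁻¹ ^ r)⁻¹ := by rw [this]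
      rw [inv_pow, inv_inv] at h5
      rw [← h5]; group
  have h5 : (m⁻¹ * m') * a = a * (m⁻¹ * m') := by
    have e1 : m⁻¹ * a ^ r * m = a := by rw [← hm]; group
    have : m⁻¹ * m' * a * (m⁻¹ * m')⁻¹ = a := by
      have : m⁻¹ * m' * a * (m⁻¹ * m')⁻¹ = m⁻¹ * (m' * a * m'⁻¹) * m := by group
      rw [this, h4, e1]
    calc m⁻¹ * m' * a = (m⁻¹ * m' * a * (m⁻¹ * m')⁻¹) * (m⁻¹ * m') := by group
      _ = a * (m⁻¹ * m') := by rw [this]
  obtain ⟨j, hj⟩ := (mem_powers_iff_mem_zpowers (x := a) (y := m⁻¹ * m')).mpr (hC _ h5)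
  have hj : a ^ j = m⁻¹ * m' := hj
  have hm'j : m' = m * a ^ j := by rw [hj]; group
  -- conjugate by `a ^ (r * u)` with `u = j * q`
  set u := j * q with hu
  have hkey : a ^ (r * u) = a ^ (u + j) := by
    apply hpoweq
    have h7 : (r : ZMod p) = ((r : ZMod p) - 1) + 1 := by ring
    push_cast
    rw [hu]
    push_cast
    calc (r : ZMod p) * ((j : ZMod p) * (q : ZMod p))
        = (j : ZMod p) * ((q : ZMod p) * ((r : ZMod p) - 1)) + (j : ZMod p) * (q : ZMod p) := by ring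
      _ = (j : ZMod p) * (q : ZMod p) + (j : ZMod p) := by rw [hq]; ring
  have h6 : a ^ (r * u) * m' * (a ^ (r * u))⁻¹ = m := by
    have e2 : a ^ (r * u) * m = m * a ^ u := by
      have : m * a ^ u * m⁻¹ = a ^ (r * u) := by rw [← conj_pow, hm, ← pow_mul]
      rw [← this]; group
    calc a ^ (r * u) * m' * (a ^ (r * u))⁻¹ = (a ^ (r * u) * m) * a ^ j * (a ^ (r * u))⁻¹ := by
          rw [hm'j]; group
      _ = m * (a ^ u * a ^ j) * (a ^ (r * u))⁻¹ := by rw [e2]; group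
      _ = m := by rw [← pow_add, ← hkey]; group
  have h7 : ∀ t : ℕ, a ^ t * a * (a ^ t)⁻¹ = a := by
    intro t
    rw [← pow_succ, pow_succ', mul_assoc, mul_inv_cancel, mul_one]
  have h7' : ∀ t : ℕ, a ^ t * a⁻¹ * (a ^ t)⁻¹ = a⁻¹ := by
    intro t
    have : a ^ t * a⁻¹ * (a ^ t)⁻¹ = (a ^ t * a * (a ^ t)⁻¹)⁻¹ := by group
    rw [this, h7]
  refine ⟨φ.trans (MulAut.conj (a ^ (r * u) * g2)), ⟨a ^ (r * u) * g2, fun x => rfl⟩, ?_, ?_⟩
  · show (a ^ (r * u) * g2) * φ a * (a ^ (r * u) * g2)⁻¹ = a ∨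
      (a ^ (r * u) * g2) * φ a * (a ^ (r * u) * g2)⁻¹ = a⁻¹
    have : (a ^ (r * u) * g2) * φ a * (a ^ (r * u) * g2)⁻¹ =
        a ^ (r * u) * (g2 * φ a * g2⁻¹) * (a ^ (r * u))⁻¹ := by group
    rw [this]
    rcases h3 with h3 | h3
    · left; rw [h3, h7]
    · right; rw [h3, h7']
  · show (a ^ (r * u) * g2) * φ m * (a ^ (r * u) * g2)⁻¹ = m
    have : (a ^ (r * u) * g2) * φ m * (a ^ (r * u) * g2)⁻¹ =
        a ^ (r * u) * (g2 * φ m * g2⁻¹) * (a ^ (r * u))⁻¹ := by group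
    rw [this]
    exact h6

/-- the index of the inner automorphisms is two, given one non-inner automorphism `β` such that
every automorphism is inner or an inner automorphism composed with `β`. -/
theorem card_out_eq_two {G : Type*} [Group G] (β : G ≃* G)
    (hβ : ¬ ∃ g : G, ∀ x, β x = g * x * g⁻¹)
    (h : ∀ φ : G ≃* G, (∃ g : G, ∀ x, φ x = g * x * g⁻¹) ∨ (∃ g : G, ∀ x, φ x = g * β x * g⁻¹)) :
    Nat.card (MulAut G ⧸ (MulAut.conj : G →* MulAut G).range) = 2 := by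
  have hmem : ∀ φ : MulAut G, φ ∈ (MulAut.conj : G →* MulAut G).range ↔
      ∃ g : G, ∀ x, φ x = g * x * g⁻¹ := by
    intro φ
    constructor
    · rintro ⟨g, rfl⟩
      exact ⟨g, fun x => rfl⟩
    · rintro ⟨g, hg⟩
      refine ⟨g, ?_⟩
      ext x
      rw [hg]; rfl
  have hβ' : (β : MulAut G)⁻¹ ∉ (MulAut.conj : G →* MulAut G).range := by
    intro h1
    apply hβ
    have := ((MulAut.conj : G →* MulAut G).range).inv_mem h1
    rw [inv_inv] at this
    exact (hmem _).mp this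
  have hboth : ∀ φ : MulAut G, φ ∈ (MulAut.conj : G →* MulAut G).range →
      φ * (β : MulAut G)⁻¹ ∉ (MulAut.conj : G →* MulAut G).range := by
    intro φ h1 h2
    apply hβ'
    have h3 := ((MulAut.conj : G →* MulAut G).range).mul_mem
      (((MulAut.conj : G →* MulAut G).range).inv_mem h1) h2
    rwa [inv_mul_cancel_left] at h3
  show ((MulAut.conj : G →* MulAut G).range).index = 2
  rw [Subgroup.index_eq_two_iff]
  refine ⟨(β : MulAut G)⁻¹, fun φ => ?_⟩
  rcases h φ with h1 | h1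
  · right
    exact ⟨(hmem φ).mpr h1, hboth φ ((hmem φ).mpr h1)⟩
  · left
    have h2 : φ * (β : MulAut G)⁻¹ ∈ (MulAut.conj : G →* MulAut G).range := by
      rw [hmem]
      obtain ⟨g, hg⟩ := h1
      refine ⟨g, fun x => ?_⟩
      show φ (β.symm x) = g * x * g⁻¹
      rw [hg, MulEquiv.apply_symm_apply]
    exact ⟨h2, fun h3 => hboth φ h3 h2⟩

end Cfsg.Agent.Lib.Helper10
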