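import Mathlib
import Cfsg.Agent.Lib.Helper16.BG1363Defs
import Cfsg.Agent.Lib.Helper55.Basic
import Cfsg.Agent.Lib.Helper71.BG11a
import Cfsg.Agent.Lib.Helper91.BG125e
import Cfsg.Agent.Lib.Helper14.NilpHall
import Cfsg.Agent.S1361

/-!
# K-1363 pack, leaf F (136306, helper10): `NU.inf_sigma_bot` : `H_σ ⊓ M_σ = ⊥`
-/

set_option autoImplicit false
set_option linter.unusedVariables false

namespace Cfsg.Agent.Lib.Helper10.BG1363

open Cfsg Subgroup Cfsg.Agent.Lib.Helper55 Cfsg.Agent.Lib.Helper11.BG14D Cfsg.Agent.Lib.Helper16.BG1363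

variable {G : Type*} [Group G] [Finite G]

/-- KEYSTONE 136306  K-1363-F. -/
theorem NU.inf_sigma_bot (hG : IsMinSimpleOddOrder G) {M K U R H : Subgroup G} {r : ℕ} (c : NU M K U R H r)
    (hrM : r ∉ sigma M) (hUKH : U ⊔ K ≤ H) (hnc : ∀ g : G, H ≠ M.map (MulAut.conj g).toMonoidHom)
    (hnil : Group.IsNilpotent (sigmaCore H))
    (hcent : ∀ u ∈ U, (orderOf u).Coprime (Nat.card (sigmaCore H)) → u ∈ centralizer (sigmaCore H : Set G)) :
    sigmaCore H ⊓ sigmaCore M = ⊥ := by
  have hr := c.hr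
  haveI : Fact r.Prime := ⟨hr⟩
  rw [eq_bot_iff]
  intro x hx
  rw [Subgroup.mem_bot]
  by_contra hx1
  obtain ⟨hxH, hxM⟩ := Subgroup.mem_inf.mp hx
  have hRH : R ≤ H := c.hRU.trans (le_sup_left.trans hUKH)
  -- orders of elements of `R` are powers of `r`
  have hyord : ∀ y ∈ R, ∃ n : ℕ, orderOf y = r ^ n := by
    intro y hy
    obtain ⟨n, hn⟩ := (IsPGroup.iff_orderOf.mp c.hRp) ⟨y, hy⟩
    exact ⟨n, by rw [← hn, Subgroup.orderOf_mk]⟩
  -- `orderOf x` is prime to `r`
  have hxr : (orderOf x).Coprime r := by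
    rw [Nat.coprime_comm, Nat.Prime.coprime_iff_not_dvd hr]
    intro hd
    apply hrM
    apply Cfsg.Agent.Lib.Helper71.BG11.sigmaCore_pi hG c.hM hr
    exact hd.trans (Subgroup.orderOf_dvd_natCard _ hxM)
  -- CLAIM: `x` commutes with every element of `R`
  have hcomm : ∀ y ∈ R, y * x = x * y := by
    intro y hy
    obtain ⟨n, hn⟩ := hyord y hy
    by_cases hrH : r ∣ Nat.card (sigmaCore H)
    · -- `R ≤ H_σ`, coprime orders in a nilpotent group
      have hrσ : r ∈ sigma H := Cfsg.Agent.Lib.Helper71.BG11.sigmaCore_pi hG c.hH hr hrH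
      have hRσ : R ≤ sigmaCore H :=
        Cfsg.Agent.Lib.Helper91.BG125.le_sigmaCore_of_mem_sigma hG c.hH hrσ c.hRp hRH
      haveI := hnil
      have hco : (orderOf (⟨y, hRσ hy⟩ : sigmaCore H)).Coprime (orderOf (⟨x, hxH⟩ : sigmaCore H)) := by
        rw [Subgroup.orderOf_mk, Subgroup.orderOf_mk, hn]
        exact Nat.Coprime.pow_left n hxr.symm
      have := Cfsg.Agent.Lib.Helper14.commute_of_coprime_orderOf (sigmaCore H) _ _ hco
      exact congrArg Subtype.val this.eq
    · -- `y` has order prime to `|H_σ|`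
      have hco : (orderOf y).Coprime (Nat.card (sigmaCore H)) := by
        rw [hn]
        exact Nat.Coprime.pow_left n ((Nat.Prime.coprime_iff_not_dvd hr).mpr hrH)
      have hyc := hcent y (c.hRU hy) hco
      exact (Subgroup.mem_centralizer_iff.mp hyc x hxH).symm
  -- `x ∈ M_σ ⊓ C_G(R)`
  have hXc : sigmaCore M ⊓ centralizer (R : Set G) ≠ ⊥ := by
    intro hbot
    apply hx1
    have : x ∈ sigmaCore M ⊓ centralizer (R : Set G) := by
      refine Subgroup.mem_inf.mpr ⟨hxM, ?_⟩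
      rw [Subgroup.mem_centralizer_iff]
      intro y hy
      exact hcomm y hy
    rw [hbot, Subgroup.mem_bot] at this
    exact this
  obtain ⟨-, huniq⟩ := Cfsg.Agent.S1361.result hG M c.hM K U c.hKU R c.hRU c.hR1 hXc
  have hCH : centralizer (R : Set G) ≤ H := (Subgroup.centralizer_le_normalizer _).trans c.hNH
  have hHM : H = M := huniq H c.hH hCH
  apply hnc 1
  rw [hHM]
  ext z
  simp
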