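import Mathlib
import Cfsg.Prelude.Def_OddOrderLocal
import Cfsg.Agent.Lib.Helper30.Generation
import Cfsg.Agent.Lib.Helper55.Uniq3
import Cfsg.Agent.Lib.Helper71.BG11a

/-!
# K-1436 pack, leaf R (143609, helper10): `not_mem_tau2`
-/

set_option autoImplicit false
set_option linter.unusedVariables false

namespace Cfsg.Agent.Lib.Helper10.BG1436

open Cfsg Subgroup

variable {G : Type*} [Group G] [Finite G]

/-- KEYSTONE 143609  K-1436-R. -/
theorem not_mem_tau2 (hG : IsMinSimpleOddOrder G) {M : Subgroup G} (hM : IsCoatom M) (hσ1 : sigmaCore M ≠ ⊥) {p : ℕ}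
    (hF : ∀ a ∈ M, orderOf a = p → ∀ y ∈ sigmaCore M, y ≠ 1 → a * y = y * a → False) : p ∉ tau2 M := by
  rintro ⟨hpp, hpσ, -, hr1⟩
  haveI : Fact p.Prime := ⟨hpp⟩
  obtain ⟨A, hAM, hAc, hAp, hAcard⟩ := Cfsg.Agent.Lib.Helper55.not_pRankLE_sub_iff.mp hr1
  rw [pow_one] at hAcard
  -- `|A| ≥ p²`
  have hApg : IsPGroup p A := by
    intro g
    refine ⟨1, ?_⟩
    rw [pow_one]
    exact Subtype.ext (hAp g g.2)
  obtain ⟨k, hk⟩ := IsPGroup.iff_card.mp hApg
  have hk2 : 2 ≤ k := by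
    by_contra hlt
    have hk1 : k ≤ 1 := by omega
    have : p ^ k ≤ p ^ 1 := Nat.pow_le_pow_right hpp.pos hk1
    rw [pow_one, ← hk] at this
    omega
  have hA2 : p ^ 2 ≤ Nat.card A := by
    rw [hk]; exact Nat.pow_le_pow_right hpp.pos hk2
  have hAX : A ≤ normalizer (sigmaCore M : Set G) :=
    hAM.trans (Cfsg.Agent.Lib.Helper71.BG11.le_normalizer_sigmaCore M)
  have hpX : ¬ p ∣ Nat.card (sigmaCore M) := fun hd =>
    hpσ (Cfsg.Agent.Lib.Helper71.BG11.sigmaCore_pi hG hM hpp hd)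
  apply hσ1
  rw [eq_bot_iff]
  apply Cfsg.Agent.Lib.Helper30.coprime_generation p A hAc hAp hA2 (sigmaCore M) hAX hpX ⊥
  intro B hBA hBidx
  -- `B ≠ ⊥`
  have h1 : Nat.card B * B.relIndex A = Nat.card A := by
    rw [← Subgroup.relIndex_bot_left, ← Subgroup.relIndex_bot_left]
    exact Subgroup.relIndex_mul_relIndex _ _ _ bot_le hBA
  rw [hBidx] at h1
  have hB1 : B ≠ ⊥ := by
    intro hB
    rw [hB, Subgroup.card_bot, one_mul] at h1
    omega
  obtain ⟨b, hb⟩ := (Subgroup.ne_bot_iff_exists_ne_one).mp hB1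
  have hb1 : (b : G) ≠ 1 := fun e => hb (Subtype.ext e)
  have hbo : orderOf (b : G) = p := orderOf_eq_prime (hAp b (hBA b.2)) hb1
  intro y hy
  rw [Subgroup.mem_bot]
  by_contra hy1
  obtain ⟨hyσ, hyc⟩ := Subgroup.mem_inf.mp hy
  have hcomm := Subgroup.mem_centralizer_iff.mp hyc (b : G) b.2
  exact hF (b : G) (hAM (hBA b.2)) hbo y hyσ hy1 hcomm
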