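import Mathlib
import Cfsg.Agent.Lib.Helper74.NormArgument

/-!
# Norm trick for an abelian subgroup acted on by a subgroup (used in S4284, keystone B2)
-/

set_option autoImplicit false

namespace Cfsg.Agent.Lib.Helper10.CR2

open Subgroup Cfsg.Agent.Lib.Helper74

/-- Norm trick: `A` abelian, normalized by `T`, centralized by `K`; `g ^ p ∈ K` for `g ∈ T`;
fixed points on `A` of elements of `T` outside `K` lie in the central subgroup `Z`; two independent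
commuting (mod `K`) elements `t₁, t₂` of `T`.  Then `a ^ p ∈ Z` for all `a ∈ A`. -/
theorem norm_trick {G : Type*} [Group G] (A T K Z : Subgroup G) (p : ℕ) (hp : p.Prime)
    (hA : ∀ a ∈ A, ∀ b ∈ A, a * b = b * a)
    (hTA : ∀ g ∈ T, ∀ a ∈ A, g * a * g⁻¹ ∈ A)
    (hZ : Z ≤ center G)
    (hK : ∀ g ∈ K, ∀ a ∈ A, g * a * g⁻¹ = a)
    (hfix : ∀ g ∈ T, g ∉ K → ∀ a ∈ A, g * a * g⁻¹ = a → a ∈ Z)
    (hpow : ∀ g ∈ T, g ^ p ∈ K)
    (t₁ t₂ : G) (ht₁ : t₁ ∈ T) (ht₂ : t₂ ∈ T)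
    (hcomm : t₁⁻¹ * t₂⁻¹ * t₁ * t₂ ∈ K)
    (h1 : t₁ ∉ K) (h2 : ∀ j : ℕ, t₂ * t₁ ^ j ∉ K) (a : G) (ha : a ∈ A) : a ^ p ∈ Z := by
  let _ : CommGroup ↥A :=
    { (inferInstance : Group ↥A) with mul_comm := fun a b => Subtype.ext (hA a a.2 b b.2) }
  let val : Additive ↥A → G := fun m => ((Additive.toMul m : ↥A) : G)
  have val_mem : ∀ m, val m ∈ A := fun m => (Additive.toMul m).2
  have val_inj : ∀ m₁ m₂, val m₁ = val m₂ → m₁ = m₂ := by
    intro m₁ m₂ h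
    exact Additive.toMul.injective (Subtype.ext h)
  have val_add : ∀ m₁ m₂, val (m₁ + m₂) = val m₁ * val m₂ := fun _ _ => rfl
  have val_zero : val 0 = 1 := rfl
  have val_nsmul : ∀ (n : ℕ) m, val (n • m) = val m ^ n := by
    intro n m
    induction n with
    | zero => simp [val_zero]
    | succ k ih => rw [succ_nsmul, val_add, ih, pow_succ]
  -- the conjugation endomorphisms
  let φfun : ↥T → AddMonoid.End (Additive ↥A) := fun g =>
    { toFun := fun m => Additive.ofMul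
        (⟨(g : G) * val m * (g : G)⁻¹, hTA _ g.2 _ (val_mem m)⟩ : ↥A)
      map_zero' := by
        apply val_inj
        show (g : G) * 1 * (g : G)⁻¹ = 1
        group
      map_add' := by
        intro m₁ m₂
        apply val_inj
        show (g : G) * (val m₁ * val m₂) * (g : G)⁻¹
          = ((g : G) * val m₁ * (g : G)⁻¹) * ((g : G) * val m₂ * (g : G)⁻¹)
        group }
  let φ : ↥T →* AddMonoid.End (Additive ↥A) :=
    { toFun := φfun
      map_one' := by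
        apply AddMonoidHom.ext
        intro m
        apply val_inj
        show ((1 : ↥T) : G) * val m * ((1 : ↥T) : G)⁻¹ = val m
        simp
      map_mul' := by
        intro g h
        apply AddMonoidHom.ext
        intro m
        apply val_inj
        show ((g * h : ↥T) : G) * val m * ((g * h : ↥T) : G)⁻¹
          = (g : G) * ((h : G) * val m * (h : G)⁻¹) * (g : G)⁻¹
        rw [Subgroup.coe_mul]
        group }
  have val_φ : ∀ (g : ↥T) m, val (φ g m) = (g : G) * val m * (g : G)⁻¹ := fun _ _ => rfl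
  have φ_of_mem : ∀ c : ↥T, (c : G) ∈ K → φ c = 1 := by
    intro c hc
    apply AddMonoidHom.ext
    intro m
    apply val_inj
    show (c : G) * val m * (c : G)⁻¹ = val m
    exact hK _ hc _ (val_mem m)
  let Z' : AddSubgroup (Additive ↥A) :=
    { carrier := {m | val m ∈ Z}
      zero_mem' := Z.one_mem
      add_mem' := fun h₁ h₂ => Z.mul_mem h₁ h₂
      neg_mem' := fun h => Z.inv_mem h }
  have mem_Z' : ∀ m, m ∈ Z' ↔ val m ∈ Z := fun _ => Iff.rfl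
  have φ_pow : ∀ g : ↥T, φ g ^ p = 1 := by
    intro g
    rw [← map_pow]
    apply φ_of_mem
    rw [Subgroup.coe_pow]
    exact hpow _ g.2
  have norm_mem : ∀ g : ↥T, (g : G) ∉ K → ∀ m, (∑ k ∈ Finset.range p, φ g ^ k) m ∈ Z' := by
    intro g hg m
    rw [mem_Z']
    have hfixed : φ g * (∑ k ∈ Finset.range p, φ g ^ k) = ∑ k ∈ Finset.range p, φ g ^ k := by
      have := mul_geom_sum (φ g) p
      rw [φ_pow g, sub_self, sub_mul, one_mul, sub_eq_zero] at this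
      exact this
    apply hfix _ g.2 hg _ (val_mem _)
    rw [← val_φ]
    congr 1
    have := congrArg (fun f : AddMonoid.End (Additive ↥A) => f m) hfixed
    exact this
  have hcommute : Commute (φ ⟨t₂, ht₂⟩) (φ ⟨t₁, ht₁⟩) := by
    show φ ⟨t₂, ht₂⟩ * φ ⟨t₁, ht₁⟩ = φ ⟨t₁, ht₁⟩ * φ ⟨t₂, ht₂⟩
    have hc : t₂⁻¹ * t₁⁻¹ * t₂ * t₁ ∈ K := by
      have := K.inv_mem hcomm
      have e : (t₁⁻¹ * t₂⁻¹ * t₁ * t₂)⁻¹ = t₂⁻¹ * t₁⁻¹ * t₂ * t₁ := by group
      rwa [e] at this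
    have hcT : t₂⁻¹ * t₁⁻¹ * t₂ * t₁ ∈ T :=
      T.mul_mem (T.mul_mem (T.mul_mem (T.inv_mem ht₂) (T.inv_mem ht₁)) ht₂) ht₁
    have e : (⟨t₂, ht₂⟩ : ↥T) * ⟨t₁, ht₁⟩
        = ⟨t₁, ht₁⟩ * ⟨t₂, ht₂⟩ * ⟨t₂⁻¹ * t₁⁻¹ * t₂ * t₁, hcT⟩ := by
      apply Subtype.ext
      show t₂ * t₁ = t₁ * t₂ * (t₂⁻¹ * t₁⁻¹ * t₂ * t₁)
      group
    rw [← map_mul, e, map_mul, φ_of_mem ⟨_, hcT⟩ hc, mul_one, map_mul]
  have key := nsmul_mem_of_norms Z' p hp (φ ⟨t₂, ht₂⟩) (φ ⟨t₁, ht₁⟩) hcommute (φ_pow _)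
    (by
      intro j m
      have e : φ ⟨t₂, ht₂⟩ * φ ⟨t₁, ht₁⟩ ^ j = φ (⟨t₂, ht₂⟩ * ⟨t₁, ht₁⟩ ^ j) := by
        rw [map_mul, map_pow]
      rw [e]
      exact norm_mem _ (h2 j) m)
    (norm_mem ⟨t₁, ht₁⟩ h1)
    (by
      intro z hz
      rw [mem_Z'] at hz ⊢
      have := (Subgroup.mem_center_iff.mp (hZ hz)) t₂
      have e : val (φ ⟨t₂, ht₂⟩ z) = val z := by
        show t₂ * val z * t₂⁻¹ = val z
        rw [this]; group
      rw [e]
      exact hz)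
    (Additive.ofMul (⟨a, ha⟩ : ↥A))
  rw [mem_Z', val_nsmul] at key
  exact key

end Cfsg.Agent.Lib.Helper10.CR2
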