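import Mathlib
import Cfsg.Agent.Lib.Helper74.CR2Defs
import Cfsg.Agent.Lib.Helper74.ClassMultiset
import Cfsg.Agent.Lib.Helper10.CR2Norm

/-!
# S4284, keystone B2: `p ^ 2 ∤ m`
-/

set_option autoImplicit false

namespace Cfsg.Agent.Lib.Helper10.CR2

open Subgroup Cfsg.Agent.Lib.Helper74 Cfsg.Agent.Lib.Helper74.CR2

section Basics

variable {G : Type*} [Group G] {m n : ℕ}

theorem idx_cases (H : Hyp G m n) (x : G) :
    (centralizer ({x} : Set G)).index = 1 ∨ (centralizer ({x} : Set G)).index = m ∨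
      (centralizer ({x} : Set G)).index = m * n := by
  have h : (centralizer ({x} : Set G)).index ∈
      Set.range (fun x : G => (centralizer ({x} : Set G)).index) := ⟨x, rfl⟩
  rw [H.h] at h
  simpa using h

theorem dvd_idx_of_not_mem_center (H : Hyp G m n) {x : G} (hx : x ∉ center G) :
    m ∣ (centralizer ({x} : Set G)).index := by
  rcases idx_cases H x with h | h | h
  · exact absurd ((cm_idx_eq_one_iff x).1 h) hx
  · rw [h]
  · rw [h]; exact dvd_mul_right m n

theorem idx_dvd_mul (H : Hyp G m n) (x : G) :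
    (centralizer ({x} : Set G)).index ∣ m * n := by
  rcases idx_cases H x with h | h | h
  · rw [h]; exact one_dvd _
  · rw [h]; exact dvd_mul_right m n
  · rw [h]

theorem exists_idx_eq (H : Hyp G m n) : ∃ x : G, (centralizer ({x} : Set G)).index = m := by
  have h : m ∈ Set.range (fun x : G => (centralizer ({x} : Set G)).index) := by
    rw [H.h]; simp
  exact h

/-- (P1) an element centralized by a Sylow `p`-subgroup, `p ∣ m`, is central. -/
theorem mem_center_of_sylow_le [Finite G] (H : Hyp G m n) {p : ℕ} [Fact p.Prime] (hp : p ∣ m)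
    (P : Sylow p G) {x : G} (hx : (P : Subgroup G) ≤ centralizer ({x} : Set G)) :
    x ∈ center G := by
  by_contra hx'
  have h1 := dvd_idx_of_not_mem_center H hx'
  have h2 : (centralizer ({x} : Set G)).index ∣ (P : Subgroup G).index := index_dvd_of_le hx
  exact P.not_dvd_index (hp.trans (h1.trans h2))

/-- A nonabelian finite `p`-group has an element `v` outside the centre with `v ^ p` central and
all commutators `[g, v]` central. -/
theorem exists_second_center {p : ℕ} [Fact p.Prime] {Q : Type*} [Group Q] [Finite Q]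
    (hQ : IsPGroup p Q) (hna : center Q ≠ ⊤) :
    ∃ v : Q, v ∉ center Q ∧ v ^ p ∈ center Q ∧ ∀ g : Q, g * v * g⁻¹ * v⁻¹ ∈ center Q := by
  have hQ' : IsPGroup p (Q ⧸ center Q) := hQ.to_quotient _
  have hnt : Nontrivial (Q ⧸ center Q) := by
    by_contra hnt
    rw [not_nontrivial_iff_subsingleton] at hnt
    apply hna
    rw [eq_top_iff]
    intro x _
    rw [← QuotientGroup.eq_one_iff]
    exact Subsingleton.elim _ _
  have hcn : Nontrivial (center (Q ⧸ center Q)) := hQ'.center_nontrivial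
  have hcp : IsPGroup p (center (Q ⧸ center Q)) := hQ'.to_subgroup _
  have hdvd : p ∣ Nat.card (center (Q ⧸ center Q)) := by
    rcases hcp.card_eq_or_dvd with h | h
    · exfalso
      have := Finite.one_lt_card_iff_nontrivial.2 hcn
      omega
    · exact h
  obtain ⟨z, hz⟩ := exists_prime_orderOf_dvd_card' p hdvd
  obtain ⟨v, hv⟩ := QuotientGroup.mk_surjective (z : Q ⧸ center Q)
  have hz1 : (z : Q ⧸ center Q) ≠ 1 := by
    intro h
    have : z = 1 := Subtype.ext h
    rw [this, orderOf_one] at hz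
    exact (Fact.out : p.Prime).one_lt.ne hz
  have hzp : (z : Q ⧸ center Q) ^ p = 1 := by
    have := pow_orderOf_eq_one z
    rw [hz] at this
    have h2 := congrArg (fun t : center (Q ⧸ center Q) => (t : Q ⧸ center Q)) this
    simpa using h2
  refine ⟨v, ?_, ?_, ?_⟩
  · intro h
    apply hz1
    rw [← hv]
    exact (QuotientGroup.eq_one_iff v).2 h
  · rw [← QuotientGroup.eq_one_iff, QuotientGroup.mk_pow, hv]
    exact hzp
  · intro g
    rw [← QuotientGroup.eq_one_iff]
    simp only [QuotientGroup.mk_mul, QuotientGroup.mk_inv, hv]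
    have := (Subgroup.mem_center_iff.mp z.2) (g : Q ⧸ center Q)
    rw [this]
    group

end Basics

section Main

variable {G : Type*} [Group G]

/-- the commutator homomorphism `g ↦ g v g⁻¹ v⁻¹` from `P` into the centre of `G`. -/
def commHom (P : Subgroup G) (v : G) (hc : ∀ g ∈ P, g * v * g⁻¹ * v⁻¹ ∈ center G) :
    ↥P →* ↥(center G) where
  toFun g := ⟨(g : G) * v * (g : G)⁻¹ * v⁻¹, hc _ g.2⟩
  map_one' := by
    apply Subtype.ext
    show ((1 : ↥P) : G) * v * ((1 : ↥P) : G)⁻¹ * v⁻¹ = 1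
    simp
  map_mul' := by
    intro g₁ g₂
    apply Subtype.ext
    show ((g₁ * g₂ : ↥P) : G) * v * ((g₁ * g₂ : ↥P) : G)⁻¹ * v⁻¹
      = ((g₁ : G) * v * (g₁ : G)⁻¹ * v⁻¹) * ((g₂ : G) * v * (g₂ : G)⁻¹ * v⁻¹)
    have h2 := Subgroup.mem_center_iff.mp (hc _ g₂.2)
    rw [Subgroup.coe_mul]
    have e : (g₁ : G) * g₂ * v * ((g₁ : G) * g₂)⁻¹ * v⁻¹
        = g₁ * (g₂ * v * (g₂ : G)⁻¹ * v⁻¹) * (v * (g₁ : G)⁻¹ * v⁻¹) := by group
    rw [e, h2 g₁, h2 ((g₁ : G) * v * (g₁ : G)⁻¹ * v⁻¹)]
    group

theorem commHom_coe (P : Subgroup G) (v : G) (hc : ∀ g ∈ P, g * v * g⁻¹ * v⁻¹ ∈ center G)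
    (g : ↥P) : ((commHom P v hc g : ↥(center G)) : G) = (g : G) * v * (g : G)⁻¹ * v⁻¹ := rfl

theorem commHom_eq_one_iff (P : Subgroup G) (v : G)
    (hc : ∀ g ∈ P, g * v * g⁻¹ * v⁻¹ ∈ center G) (g : ↥P) :
    commHom P v hc g = 1 ↔ (g : G) * v = v * g := by
  rw [Subtype.ext_iff, commHom_coe, Subgroup.coe_one, mul_inv_eq_one, mul_inv_eq_iff_eq_mul]

theorem commHom_pow (P : Subgroup G) (v : G) (hc : ∀ g ∈ P, g * v * g⁻¹ * v⁻¹ ∈ center G)
    (p : ℕ) (hvp : ∀ g ∈ P, g * v ^ p = v ^ p * g) (g : ↥P) : commHom P v hc g ^ p = 1 := by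
  apply Subtype.ext
  rw [Subgroup.coe_pow, commHom_coe, Subgroup.coe_one]
  have hcen := Subgroup.mem_center_iff.mp (hc _ g.2)
  have hcomm : Commute ((g : G) * v * (g : G)⁻¹ * v⁻¹) v := (hcen v).symm
  have h1 := hcomm.mul_pow p
  have e : (g : G) * v * (g : G)⁻¹ * v⁻¹ * v = g * v * (g : G)⁻¹ := by group
  rw [e, conj_pow, hvp _ g.2] at h1
  have e2 : v ^ p * (g : G) * (g : G)⁻¹ = v ^ p := by group
  rw [e2] at h1
  exact (mul_eq_right.mp h1.symm)

theorem conj_comm_of_comm (P : Subgroup G) (v : G)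
    (hc : ∀ g ∈ P, g * v * g⁻¹ * v⁻¹ ∈ center G)
    {g : G} (hg : g ∈ P) {x : G} (hx : x * v = v * x) :
    g * x * g⁻¹ * v = v * (g * x * g⁻¹) := by
  have h0 := Subgroup.mem_center_iff.mp (hc g⁻¹ (P.inv_mem hg))
  have e1 : g * x * g⁻¹ * v = g * (x * (g⁻¹ * v * g⁻¹⁻¹ * v⁻¹)) * v * g⁻¹ := by group
  have e2 : v * (g * x * g⁻¹) = g * (g⁻¹ * v * g⁻¹⁻¹ * v⁻¹) * (v * x) * g⁻¹ := by group
  rw [e1, e2, h0 x, ← hx]
  group

theorem le_normalizer_centralizer (P : Subgroup G) (v : G)
    (hc : ∀ g ∈ P, g * v * g⁻¹ * v⁻¹ ∈ center G) :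
    P ≤ normalizer ((centralizer ({v} : Set G) : Subgroup G) : Set G) := by
  intro g hg
  rw [mem_normalizer_iff]
  intro x
  rw [mem_centralizer_singleton_iff, mem_centralizer_singleton_iff]
  constructor
  · exact fun hx => conj_comm_of_comm P v hc hg hx
  · intro hx
    have := conj_comm_of_comm P v hc (P.inv_mem hg) hx
    have e : g⁻¹ * (g * x * g⁻¹) * g⁻¹⁻¹ = x := by group
    rwa [e] at this

theorem card_inf_mul_relIndex [Finite G] (H K : Subgroup G) :
    Nat.card (H ⊓ K : Subgroup G) * H.relIndex K = Nat.card K := by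
  have h1 := relIndex_mul_index (inf_le_right : H ⊓ K ≤ K)
  rw [inf_relIndex_right] at h1
  have h2 := card_mul_index (H ⊓ K)
  have h3 := card_mul_index K
  have h4 : Nat.card (H ⊓ K : Subgroup G) * H.relIndex K * K.index = Nat.card K * K.index := by
    rw [mul_assoc, h1, h2, h3]
  exact Nat.eq_of_mul_eq_mul_right (Nat.pos_of_ne_zero index_ne_zero_of_finite) h4

theorem dvd_card_sylow [Finite G] {p : ℕ} [Fact p.Prime] (P : Sylow p G) {x : ℕ}
    (hx : x ∣ Nat.card G) (hxp : ∃ k : ℕ, x = p ^ k) : x ∣ Nat.card (P : Subgroup G) := by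
  obtain ⟨k, rfl⟩ := hxp
  rw [P.card_eq_multiplicity]
  apply pow_dvd_pow
  exact ((Fact.out : p.Prime).pow_dvd_iff_le_factorization Nat.card_pos.ne').1 hx

theorem ppow_of_dvd_card_sylow [Finite G] {p : ℕ} [Fact p.Prime] (P : Sylow p G) {x : ℕ}
    (hx : x ∣ Nat.card (P : Subgroup G)) : ∃ k : ℕ, x = p ^ k := by
  rw [P.card_eq_multiplicity] at hx
  obtain ⟨k, _, hk⟩ := (Nat.dvd_prime_pow (Fact.out : p.Prime)).1 hx
  exact ⟨k, hk⟩

theorem sq_dvd_relIndex [Finite G] {m n : ℕ} (H : Hyp G m n) {p : ℕ} [Fact p.Prime]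
    (hp2 : p ^ 2 ∣ m) (P : Sylow p G) (v : G) (hvZ : v ∉ center G) :
    p ^ 2 ∣ (centralizer ({v} : Set G)).relIndex (P : Subgroup G) := by
  have hcard := card_inf_mul_relIndex (centralizer ({v} : Set G)) (P : Subgroup G)
  have hb1 : Nat.card (centralizer ({v} : Set G) ⊓ (P : Subgroup G) : Subgroup G) ∣
      Nat.card (centralizer ({v} : Set G)) := card_dvd_of_le inf_le_left
  have hb2 : Nat.card (centralizer ({v} : Set G) ⊓ (P : Subgroup G) : Subgroup G) ∣
      Nat.card (P : Subgroup G) := card_dvd_of_le inf_le_right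
  obtain ⟨β, hβ⟩ := ppow_of_dvd_card_sylow P hb2
  have h1 : Nat.card (centralizer ({v} : Set G) ⊓ (P : Subgroup G) : Subgroup G) * p ^ 2 ∣
      Nat.card G := by
    rw [← card_mul_index (centralizer ({v} : Set G))]
    exact mul_dvd_mul hb1 (hp2.trans (dvd_idx_of_not_mem_center H hvZ))
  have h2 := dvd_card_sylow P h1 ⟨β + 2, by rw [hβ, pow_add]⟩
  rw [← hcard] at h2
  exact Nat.dvd_of_mul_dvd_mul_left Nat.card_pos h2

theorem relIndex_dvd_m [Finite G] {m n : ℕ} (H : Hyp G m n) {p : ℕ} [Fact p.Prime] (hp : p ∣ m)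
    (P : Sylow p G) (v : G)
    (hc : ∀ g ∈ (P : Subgroup G), g * v * g⁻¹ * v⁻¹ ∈ center G) :
    (centralizer ({v} : Set G)).relIndex (P : Subgroup G) ∣ m := by
  have h1 : (centralizer ({v} : Set G)).relIndex (P : Subgroup G) ∣
      (centralizer ({v} : Set G)).index :=
    cm_relIndex_dvd_index_of_le_normalizer _ _ (le_normalizer_centralizer _ v hc)
  have h2 := h1.trans (idx_dvd_mul H v)
  obtain ⟨y, hy⟩ := ppow_of_dvd_card_sylow P (relIndex_dvd_card (centralizer ({v} : Set G)) P)
  have hcop : ((centralizer ({v} : Set G)).relIndex (P : Subgroup G)).Coprime n := by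
    rw [hy]
    exact Nat.Coprime.pow_left _ (Nat.Coprime.coprime_dvd_left hp H.hcop)
  exact hcop.dvd_of_dvd_mul_right h2

/-- an element centralized by `P ∩ C(v)` and by some `t ∈ P \ C(v)` is central. -/
theorem mem_center_of_fix [Finite G] {m n : ℕ} (H : Hyp G m n) {p : ℕ} [Fact p.Prime] (hp : p ∣ m)
    (P : Sylow p G) (v : G)
    (hc : ∀ g ∈ (P : Subgroup G), g * v * g⁻¹ * v⁻¹ ∈ center G)
    (h : G) (hPv : ∀ x ∈ (P : Subgroup G), x * v = v * x → x * h = h * x)
    (t : G) (htP : t ∈ (P : Subgroup G)) (htv : t * v ≠ v * t) (hth : t * h = h * t) :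
    h ∈ center G := by
  by_contra hh
  have hm := dvd_idx_of_not_mem_center H hh
  have hr := relIndex_dvd_m H hp P v hc
  have hcard := card_inf_mul_relIndex (centralizer ({v} : Set G)) (P : Subgroup G)
  have hle : centralizer ({v} : Set G) ⊓ (P : Subgroup G) ≤
      centralizer ({h} : Set G) ⊓ (P : Subgroup G) := by
    intro x hx
    rw [mem_inf, mem_centralizer_singleton_iff] at hx ⊢
    exact ⟨hPv x hx.2 hx.1, hx.2⟩
  have hlt : Nat.card (centralizer ({v} : Set G) ⊓ (P : Subgroup G) : Subgroup G) <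
      Nat.card (centralizer ({h} : Set G) ⊓ (P : Subgroup G) : Subgroup G) := by
    by_contra hge
    have heq := eq_of_le_of_card_ge hle (not_lt.mp hge)
    have ht : t ∈ centralizer ({h} : Set G) ⊓ (P : Subgroup G) := by
      rw [mem_inf, mem_centralizer_singleton_iff]
      exact ⟨hth, htP⟩
    rw [← heq, mem_inf, mem_centralizer_singleton_iff] at ht
    exact htv ht.1
  have hρ1 : Nat.card (centralizer ({h} : Set G) ⊓ (P : Subgroup G) : Subgroup G) ∣
      Nat.card (centralizer ({h} : Set G)) := card_dvd_of_le inf_le_left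
  have hρ2 : Nat.card (centralizer ({h} : Set G) ⊓ (P : Subgroup G) : Subgroup G) ∣
      Nat.card (P : Subgroup G) := card_dvd_of_le inf_le_right
  obtain ⟨x, hx⟩ := ppow_of_dvd_card_sylow P hρ2
  obtain ⟨y, hy⟩ := ppow_of_dvd_card_sylow P (relIndex_dvd_card (centralizer ({v} : Set G)) P)
  have h1 : Nat.card (centralizer ({h} : Set G) ⊓ (P : Subgroup G) : Subgroup G) *
      (centralizer ({v} : Set G)).relIndex (P : Subgroup G) ∣ Nat.card G := by
    rw [← card_mul_index (centralizer ({h} : Set G))]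
    exact mul_dvd_mul hρ1 (hr.trans hm)
  have h2 := dvd_card_sylow P h1 ⟨x + y, by rw [hx, hy, pow_add]⟩
  rw [← hcard] at h2
  have hrpos : 0 < (centralizer ({v} : Set G)).relIndex (P : Subgroup G) := by
    rw [hy]; exact pow_pos (Fact.out : p.Prime).pos _
  have h3 := Nat.dvd_of_mul_dvd_mul_right hrpos h2
  have h4 := Nat.le_of_dvd Nat.card_pos h3
  omega

end Main

/-- KB2: `p^2 ∤ m` as soon as every noncentral p-element `v` has a noncentral
p'-element `h` in the centre of `C(v)`. -/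
theorem not_sq_dvd {G : Type*} [Group G] [Finite G] {m n : ℕ} (H : Hyp G m n)
    (p : ℕ) [Fact p.Prime] (hp : p ∣ m)
    (hV : ∀ v : G, (∃ k : ℕ, orderOf v = p ^ k) → v ∉ center G →
      ∃ h ∈ centralizer ({v} : Set G), (orderOf h).Coprime p ∧ h ∉ center G ∧
        centralizer ({v} : Set G) ≤ centralizer ({h} : Set G)) :
    ¬ p ^ 2 ∣ m := by
  intro hp2
  have hpp : p.Prime := Fact.out
  obtain ⟨P⟩ : Nonempty (Sylow p G) := inferInstance
  -- `P` is not abelian
  have hPna : center ↥(P : Subgroup G) ≠ ⊤ := by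
    intro htop
    have hPZ : (P : Subgroup G) ≤ center G := by
      intro x hx
      apply mem_center_of_sylow_le H hp P
      intro y hy
      rw [mem_centralizer_singleton_iff]
      have hxc : (⟨x, hx⟩ : ↥(P : Subgroup G)) ∈ center ↥(P : Subgroup G) := by
        rw [htop]; trivial
      have := Subgroup.mem_center_iff.mp hxc ⟨y, hy⟩
      exact congrArg Subtype.val this
    obtain ⟨x0, hx0⟩ := exists_idx_eq H
    have hle : (P : Subgroup G) ≤ centralizer ({x0} : Set G) := by
      intro y hy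
      rw [mem_centralizer_singleton_iff]
      exact (Subgroup.mem_center_iff.mp (hPZ hy) x0).symm
    have := mem_center_of_sylow_le H hp P hle
    rw [← cm_idx_eq_one_iff, hx0] at this
    exact H.hm.ne' this
  obtain ⟨v', hv'1, hv'2, hv'3⟩ := exists_second_center P.2 hPna
  -- transfer to `G`
  have hcenP : ∀ w : ↥(P : Subgroup G), w ∈ center ↥(P : Subgroup G) → (w : G) ∈ center G := by
    intro w hw
    apply mem_center_of_sylow_le H hp P
    intro y hy
    rw [mem_centralizer_singleton_iff]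
    have := Subgroup.mem_center_iff.mp hw ⟨y, hy⟩
    exact congrArg Subtype.val this
  have hc : ∀ g ∈ (P : Subgroup G), g * (v' : G) * g⁻¹ * (v' : G)⁻¹ ∈ center G := by
    intro g hg
    exact hcenP _ (hv'3 ⟨g, hg⟩)
  have hvp : ∀ g ∈ (P : Subgroup G), g * (v' : G) ^ p = (v' : G) ^ p * g := by
    intro g hg
    have := Subgroup.mem_center_iff.mp hv'2 ⟨g, hg⟩
    exact congrArg Subtype.val this
  have hvZ : (v' : G) ∉ center G := by
    intro h
    apply hv'1
    rw [Subgroup.mem_center_iff]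
    intro g
    apply Subtype.ext
    exact Subgroup.mem_center_iff.mp h g
  have hvord : ∃ k : ℕ, orderOf (v' : G) = p ^ k := by
    obtain ⟨k, hk⟩ := IsPGroup.iff_orderOf.mp P.2 v'
    exact ⟨k, by rw [Subgroup.orderOf_coe, hk]⟩
  set v : G := (v' : G) with hv
  let c := commHom (P : Subgroup G) v hc
  have hker : ∀ g : ↥(P : Subgroup G), c g = 1 ↔ (g : G) * v = v * g :=
    commHom_eq_one_iff _ v hc
  have hcp : ∀ g, c g ^ p = 1 := commHom_pow _ v hc p hvp
  have hker_eq : c.ker = (centralizer ({v} : Set G)).subgroupOf (P : Subgroup G) := by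
    ext g
    rw [MonoidHom.mem_ker, hker, mem_subgroupOf, mem_centralizer_singleton_iff]
  have hrange : p ^ 2 ∣ Nat.card c.range := by
    rw [← index_ker, hker_eq]
    exact sq_dvd_relIndex H hp2 P v hvZ
  have hplt : p < p ^ 2 := by
    rw [pow_two]; nlinarith [hpp.one_lt]
  obtain ⟨t₁, ht₁⟩ : ∃ t₁ : ↥(P : Subgroup G), c t₁ ≠ 1 := by
    by_contra hall
    push Not at hall
    have hbot : c.range = ⊥ := by
      rw [eq_bot_iff]
      rintro _ ⟨g, rfl⟩
      rw [mem_bot]
      exact hall g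
    rw [hbot, card_bot] at hrange
    have := Nat.le_of_dvd one_pos hrange
    have := hpp.one_lt
    omega
  obtain ⟨t₂, ht₂⟩ : ∃ t₂ : ↥(P : Subgroup G), c t₂ ∉ zpowers (c t₁) := by
    by_contra hall
    push Not at hall
    have hle : c.range ≤ zpowers (c t₁) := by
      rintro _ ⟨g, rfl⟩
      exact hall g
    have h1 := card_le_of_le hle
    rw [Nat.card_zpowers] at h1
    have h2 : orderOf (c t₁) ∣ p := orderOf_dvd_of_pow_eq_one (hcp t₁)
    have h3 := Nat.le_of_dvd hpp.pos h2
    have h4 := Nat.le_of_dvd Nat.card_pos hrange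
    omega
  let A : Subgroup G := centralizer ({v} : Set G) ⊓
    centralizer ((centralizer ({v} : Set G) : Subgroup G) : Set G)
  have hAmem : ∀ a, a ∈ A ↔ (a * v = v * a ∧ ∀ x, x * v = v * x → x * a = a * x) := by
    intro a
    rw [mem_inf, mem_centralizer_singleton_iff, mem_centralizer_iff]
    constructor
    · rintro ⟨h1, h2⟩
      exact ⟨h1, fun x hx => h2 x (mem_centralizer_singleton_iff.2 hx)⟩
    · rintro ⟨h1, h2⟩
      exact ⟨h1, fun x hx => h2 x (mem_centralizer_singleton_iff.1 hx)⟩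
  have key := norm_trick A (P : Subgroup G) (centralizer ({v} : Set G)) (center G) p hpp
    (by
      intro a ha b hb
      exact ((hAmem b).1 hb).2 a ((hAmem a).1 ha).1)
    (by
      intro g hg a ha
      rw [hAmem] at ha ⊢
      refine ⟨conj_comm_of_comm _ v hc hg ha.1, ?_⟩
      intro x hx
      have hy := conj_comm_of_comm _ v hc (inv_mem hg) hx
      have := ha.2 _ hy
      have e1 : x * (g * a * g⁻¹) = g * ((g⁻¹ * x * g⁻¹⁻¹) * a) * g⁻¹ := by group
      rw [e1, this]
      group)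
    le_rfl
    (by
      intro g hg a ha
      rw [mem_centralizer_singleton_iff] at hg
      have := ((hAmem a).1 ha).2 g hg
      rw [this]
      group)
    (by
      intro g hg hgK a ha hga
      rw [mem_centralizer_singleton_iff] at hgK
      apply mem_center_of_fix H hp P v hc a _ g hg hgK
      · have e : g * a = g * a * g⁻¹ * g := by group
        rw [e, hga]
      · intro x _ hx
        exact ((hAmem a).1 ha).2 x hx)
    (by
      intro g hg
      rw [mem_centralizer_singleton_iff]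
      have := (hker (⟨g, hg⟩ ^ p)).1 (by rw [map_pow]; exact hcp _)
      simpa using this)
    (t₁ : G) (t₂ : G) t₁.2 t₂.2
    (by
      rw [mem_centralizer_singleton_iff]
      have h1 : c (t₁⁻¹ * t₂⁻¹ * t₁ * t₂) = 1 := by
        simp only [map_mul, map_inv]
        have hcomm' : ∀ a b : ↥(center G), a * b = b * a :=
          fun a b => Subtype.ext (Subgroup.mem_center_iff.mp b.2 a)
        rw [hcomm' (c t₁)⁻¹ (c t₂)⁻¹]
        group
      exact (hker _).1 h1)
    (by
      rw [mem_centralizer_singleton_iff]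
      exact fun h => ht₁ ((hker t₁).2 h))
    (by
      intro j
      rw [mem_centralizer_singleton_iff]
      intro h
      have h1 : c (t₂ * t₁ ^ j) = 1 := (hker _).2 (by simpa using h)
      rw [map_mul, map_pow, mul_eq_one_iff_eq_inv] at h1
      apply ht₂
      rw [h1]
      exact inv_mem (pow_mem (mem_zpowers _) j))
  obtain ⟨h, hh1, hh2, hh3, hh4⟩ := hV v hvord hvZ
  have hhA : h ∈ A := by
    rw [hAmem]
    refine ⟨mem_centralizer_singleton_iff.1 hh1, fun x hx => ?_⟩
    have := hh4 (mem_centralizer_singleton_iff.2 hx)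
    exact (mem_centralizer_singleton_iff.1 this)
  have hhp := key h hhA
  obtain ⟨k, hk⟩ := exists_pow_eq_self_of_coprime (Nat.Coprime.symm hh2)
  apply hh3
  rw [← hk]
  exact pow_mem hhp k

end Cfsg.Agent.Lib.Helper10.CR2
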