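import Cfsg.Agent.Lib.Helper10.Tab

set_option autoImplicit false

namespace Cfsg.Agent.Lib.Helper10

open Cfsg MulAction
open scoped Pointwise

/-! ### The centraliser of the shift -/

theorem gA_pow_some (n : ℕ) (x : ZMod 23) : (gA ^ n) (some x) = some (x + n) := by
  induction n with
  | zero => simp
  | succ n ih =>
    rw [pow_succ']
    show gA ((gA ^ n) (some x)) = _
    rw [ih, gA_apply]
    show some (x + n + 1) = some (x + ((n + 1 : ℕ) : ZMod 23))
    push_cast
    rw [add_assoc]

theorem gA_pow_none (n : ℕ) : (gA ^ n) none = none := by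
  induction n with
  | zero => simp
  | succ n ih =>
    rw [pow_succ']
    show gA ((gA ^ n) none) = _
    rw [ih]; rfl

theorem gA_pow_23 : gA ^ 23 = 1 := by
  ext1 p
  cases p with
  | none => rw [gA_pow_none]; rfl
  | some x =>
    rw [gA_pow_some]
    have : ((23 : ℕ) : ZMod 23) = 0 := by decide
    rw [this, add_zero]; rfl

theorem gA_ne_one : gA ≠ 1 := by
  intro h
  have := congrArg (fun σ : Equiv.Perm GolayPt => σ (some 0)) h
  simp only [gA_apply] at this
  revert this
  decide

theorem orderOf_gA : orderOf gA = 23 := by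
  have : Fact (Nat.Prime 23) := ⟨by norm_num⟩
  exact orderOf_eq_prime gA_pow_23 gA_ne_one

theorem cent_gA (σ : Equiv.Perm GolayPt) (h : σ * gA = gA * σ) : σ ∈ Subgroup.zpowers gA := by
  have hc : ∀ p, σ (gA p) = gA (σ p) := fun p => congrArg (fun τ : Equiv.Perm GolayPt => τ p) h
  have hnone : σ none = none := by
    have h1 := hc none
    have : gA none = none := rfl
    rw [this] at h1
    cases hy : σ none with
    | none => rfl
    | some y =>
      rw [hy, gA_apply] at h1
      simp only [Option.map_some, Option.some.injEq] at h1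
      exfalso
      have : (1 : ZMod 23) = 0 := by
        have := h1.symm
        rwa [add_eq_left] at this
      revert this; decide
  have hsome : ∀ x : ZMod 23, ∃ y, σ (some x) = some y := by
    intro x
    cases hy : σ (some x) with
    | none =>
      rw [← hnone] at hy
      exact absurd (σ.injective hy) (by simp)
    | some y => exact ⟨y, rfl⟩
  obtain ⟨j, hj⟩ := hsome 0
  have hn : ∀ n : ℕ, σ (some (n : ZMod 23)) = some (j + n) := by
    intro n
    induction n with
    | zero => simpa using hj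
    | succ n ih =>
      have h1 := hc (some (n : ZMod 23))
      rw [ih, gA_apply, gA_apply] at h1
      simp only [Option.map_some] at h1
      push_cast
      rw [h1, add_assoc]
  have hx : ∀ x : ZMod 23, σ (some x) = some (j + x) := by
    intro x
    have := hn x.val
    rwa [ZMod.natCast_zmod_val] at this
  have : σ = gA ^ j.val := by
    ext1 p
    cases p with
    | none => rw [hnone, gA_pow_none]
    | some x => rw [hx, gA_pow_some, ZMod.natCast_zmod_val, add_comm]
  rw [this]
  exact Subgroup.pow_mem _ (Subgroup.mem_zpowers gA) _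

/-! ### The centraliser of the multiplication by two -/

def repL : List ℕ := [0, 1, 1, 1, 1, 5, 1, 5, 1, 1, 5, 5, 1, 1, 5, 5, 1, 5, 1, 5, 5, 5, 5, 23]
def expoL : List ℕ := [0, 0, 1, 8, 2, 0, 9, 9, 3, 5, 1, 4, 10, 7, 10, 8, 4, 3, 6, 7, 2, 6, 5, 0]

/-- the table of a permutation commuting with `gM`, from its values on `23, 0, 1, 5`. -/
def candT (s : ℕ → ℕ) (i : ℕ) : ℕ := tblM^[expoL.getD i 0] (s (repL.getD i 0))

/-- values on the representatives. -/
def sfun (s23 s0 s1 s5 : ℕ) (r : ℕ) : ℕ :=
  if r = 23 then s23 else if r = 0 then s0 else if r = 1 then s1 else s5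

theorem rep_check : ∀ i : Fin 24, tblM^[expoL.getD i 0] (repL.getD i 0) = i ∧
    repL.getD i 0 ∈ [23, 0, 1, 5] := by decide +kernel

theorem commute_pow_apply {σ τ : Equiv.Perm GolayPt} (h : σ * τ = τ * σ) (n : ℕ) (p : GolayPt) :
    σ ((τ ^ n) p) = (τ ^ n) (σ p) := by
  have h1 : Commute σ (τ ^ n) := Commute.pow_right h n
  exact congrArg (fun ρ : Equiv.Perm GolayPt => ρ p) h1.eq

theorem cand_isTab {σ : Equiv.Perm GolayPt} (h : σ * gM = gM * σ) (s : ℕ → ℕ)
    (hs : ∀ r ∈ [23, 0, 1, 5], idx (σ (pt r)) = s r) : IsTab σ (candT s) := by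
  intro p
  obtain ⟨h1, h2⟩ := rep_check ⟨idx p, idx_lt p⟩
  simp only at h1 h2
  set e := expoL.getD (idx p) 0 with he
  set r := repL.getD (idx p) 0 with hr
  have hr24 : r < 24 := by
    simp only [List.mem_cons, List.not_mem_nil, or_false] at h2
    omega
  have hp : p = (gM ^ e) (pt r) := by
    rw [(isTab_gM.pow e).apply_pt hr24, h1, pt_idx]
  conv_lhs => rw [hp]
  rw [commute_pow_apply h, (isTab_gM.pow e) _, hs r h2]
  rfl

def centOK (s23 s0 s1 s5 : ℕ) : Bool :=
  !(basis.all fun b => enc (pull (candT (sfun s23 s0 s1 s5)) b) == pull (candT (sfun s23 s0 s1 s5)) b)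
    || (s23 == 23 && s0 == 0 && s1 == 1 && s5 == 5)

theorem cent_check : ∀ s1 ∈ [1, 5], ∀ s23 ∈ [0, 23], ∀ s0 ∈ [0, 23], ∀ s5 : Fin 24,
    centOK s23 s0 s1 s5 = true := by decide +kernel

theorem tblM_fixed : ∀ i : Fin 24, tblM i = i → i.val = 0 ∨ i.val = 23 := by decide +kernel

theorem tblM_norm : ∀ k : Fin 24, tblM k ≠ k → ∃ e : Fin 11, tblM^[e] k = 1 ∨ tblM^[e] k = 5 := by
  decide +kernel

theorem candT_id : ∀ i : Fin 24, candT (sfun 23 0 1 5) i = i := by decide +kernel

theorem fixed_of_commute {σ : Equiv.Perm GolayPt} (h : σ * gM = gM * σ) {i : ℕ} (hi : i < 24)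
    (hfix : tblM i = i) : idx (σ (pt i)) = 0 ∨ idx (σ (pt i)) = 23 := by
  have h1 : gM (σ (pt i)) = σ (pt i) := by
    have := commute_pow_apply h 1 (pt i)
    rw [pow_one] at this
    rw [← this, isTab_gM.apply_pt hi, hfix]
  have h2 := isTab_gM (σ (pt i))
  rw [h1] at h2
  exact tblM_fixed ⟨idx (σ (pt i)), idx_lt _⟩ h2.symm

/-- a code automorphism commuting with `gM` and mapping `1` to `1` or `5` is trivial. -/
theorem cent_gM_aux {τ : Equiv.Perm GolayPt} (hM : τ ∈ M24) (h : τ * gM = gM * τ)
    (h1 : idx (τ (pt 1)) = 1 ∨ idx (τ (pt 1)) = 5) : τ = 1 := by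
  have h23 := fixed_of_commute h (show 23 < 24 by decide) (by decide)
  have h0 := fixed_of_commute h (show 0 < 24 by decide) (by decide)
  have h5 : idx (τ (pt 5)) < 24 := idx_lt _
  set s23 := idx (τ (pt 23)) with hs23
  set s0 := idx (τ (pt 0)) with hs0
  set s1 := idx (τ (pt 1)) with hs1
  set s5 := idx (τ (pt 5)) with hs5
  have hT : IsTab τ (candT (sfun s23 s0 s1 s5)) := by
    apply cand_isTab h
    intro r hr
    simp only [List.mem_cons, List.not_mem_nil, or_false] at hr
    rcases hr with rfl | rfl | rfl | rfl <;> simp [sfun, hs23, hs0, hs1, hs5]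
  have hck := cent_check s1 (by simp; omega) s23 (by simp; omega) s0 (by simp; omega) ⟨s5, h5⟩
  unfold centOK at hck
  have hall : (basis.all fun b => enc (pull (candT (sfun s23 s0 s1 s5)) b) ==
      pull (candT (sfun s23 s0 s1 s5)) b) = true := by
    rw [List.all_eq_true]
    intro b hb
    rw [beq_iff_eq]
    exact pull_mem hT hM (vec_basis_mem b hb)
  simp only [hall, Bool.not_true, Bool.false_or, Bool.and_eq_true, beq_iff_eq] at hck
  obtain ⟨⟨⟨e23, e0⟩, e1⟩, e5⟩ := hck
  rw [e23, e0, e1, e5] at hT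
  exact hT.eq_of IsTab.one (fun i hi => candT_id ⟨i, hi⟩)

theorem cent_gM {σ : Equiv.Perm GolayPt} (hM : σ ∈ M24) (h : σ * gM = gM * σ) :
    σ ∈ Subgroup.zpowers gM := by
  have hk : tblM (idx (σ (pt 1))) ≠ idx (σ (pt 1)) := by
    intro hfix
    have h1 : gM (σ (pt 1)) = σ (pt 1) := by
      apply idx_injective
      rw [isTab_gM, hfix]
    have h2 := commute_pow_apply h 1 (pt 1)
    rw [pow_one] at h2
    rw [← h2] at h1
    have h3 := σ.injective h1
    rw [isTab_gM.apply_pt (by decide)] at h3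
    have := congrArg idx h3
    rw [idx_pt (by decide), idx_pt (by decide)] at this
    revert this; decide
  obtain ⟨e, he⟩ := tblM_norm ⟨idx (σ (pt 1)), idx_lt _⟩ hk
  simp only at he
  have hτ : gM ^ e.val * σ = 1 := by
    apply cent_gM_aux (M24.mul_mem (M24.pow_mem gM_mem _) hM)
    · have : Commute (gM ^ e.val * σ) gM :=
        Commute.mul_left ((Commute.refl gM).pow_left _) h
      exact this.eq
    · show idx ((gM ^ e.val) (σ (pt 1))) = 1 ∨ idx ((gM ^ e.val) (σ (pt 1))) = 5
      rw [(isTab_gM.pow e.val) _]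
      exact he
  have : σ = (gM ^ e.val)⁻¹ := by
    rw [eq_inv_iff_mul_eq_one, ← hτ]
    have : Commute σ (gM ^ e.val) := Commute.pow_right h _
    exact this.eq
  rw [this]
  exact Subgroup.inv_mem _ (Subgroup.pow_mem _ (Subgroup.mem_zpowers gM) _)

end Cfsg.Agent.Lib.Helper10
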