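import Cfsg.Agent.Lib.Helper10.OutM24

set_option autoImplicit false

namespace Cfsg.Agent.Lib.Helper10

open Cfsg MulAction
open scoped Pointwise

/-! ### Elements of `M24` from their values on five base points -/

theorem wordPerm_app (a b : List ℕ) : wordPerm (a ++ b) = wordPerm a * wordPerm b := by
  induction a with
  | nil => simp [wordPerm]
  | cons g a ih => simp [wordPerm, ih, mul_assoc]

theorem isTab_wordPerm (w : List ℕ) : IsTab (wordPerm w) (evalW w) := fun p => evalW_spec w p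

theorem wordAt_spec' (k : ℕ) (hk : k < 7) (c : ℕ) (hc : c < 24) (hok : okTarget k c = true) :
    (∀ i < k, wordPerm (wordAt k c) (bpt i) = bpt i) ∧ wordPerm (wordAt k c) (bpt k) = pt c := by
  obtain ⟨h1, h2⟩ := trans_check ⟨k, hk⟩ ⟨c, hc⟩ hok
  constructor
  · intro i hi
    exact wordPerm_pt (base_lt ⟨i, by omega⟩) (h1 ⟨i, by omega⟩ hi)
  · exact wordPerm_pt (base_lt ⟨k, hk⟩) h2

theorem peel10 (k : ℕ) (hk : k < 7) (τ : Equiv.Perm GolayPt) (hτ : τ ∈ M24)
    (hfix : ∀ i < k, τ (bpt i) = bpt i) :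
    ∃ c : Fin 24, okTarget k c = true ∧
      ∀ i < k + 1, ((wordPerm (wordAt k c))⁻¹ * τ) (bpt i) = bpt i := by
  have hmem := orbit_subset hτ k hk hfix
  rw [mem_targets] at hmem
  refine ⟨⟨idx (τ (bpt k)), idx_lt _⟩, hmem, ?_⟩
  obtain ⟨h1, h2⟩ := wordAt_spec' k hk (idx (τ (bpt k))) (idx_lt _) hmem
  rw [pt_idx] at h2
  intro i hi
  show (wordPerm (wordAt k (idx (τ (bpt k)))))⁻¹ (τ (bpt i)) = bpt i
  rw [Equiv.Perm.inv_eq_iff_eq]
  rcases Nat.lt_succ_iff_lt_or_eq.mp hi with h | h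
  · rw [hfix i h, h1 i h]
  · rw [h, h2]

/-- the completion of a word by transversal words of the last two levels. -/
def candWord (W : List ℕ) (c5 c6 : ℕ) : List ℕ := W ++ wordAt 5 c5 ++ wordAt 6 c6

/-- an element of `M24` with the same images of the first five base points as the word `W`
is one of 48 explicit words. -/
theorem eq_cand48 (W : List ℕ) (σ : Equiv.Perm GolayPt) (hσ : σ ∈ M24)
    (h : ∀ i < 5, σ (bpt i) = wordPerm W (bpt i)) :
    ∃ c5 c6 : Fin 24, okTarget 5 c5 = true ∧ okTarget 6 c6 = true ∧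
      σ = wordPerm (candWord W c5 c6) := by
  have hτ : (wordPerm W)⁻¹ * σ ∈ M24 := M24.mul_mem (M24.inv_mem (wordPerm_mem_M24 W)) hσ
  have hfix : ∀ i < 5, ((wordPerm W)⁻¹ * σ) (bpt i) = bpt i := by
    intro i hi
    show (wordPerm W)⁻¹ (σ (bpt i)) = bpt i
    rw [Equiv.Perm.inv_eq_iff_eq, h i hi]
  obtain ⟨c5, hc5, hfix5⟩ := peel10 5 (by decide) _ hτ hfix
  have hτ5 : (wordPerm (wordAt 5 c5))⁻¹ * ((wordPerm W)⁻¹ * σ) ∈ M24 :=
    M24.mul_mem (M24.inv_mem (wordPerm_mem_M24 _)) hτ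
  obtain ⟨c6, hc6, hfix6⟩ := peel10 6 (by decide) _ hτ5 hfix5
  have hτ6 : (wordPerm (wordAt 6 c6))⁻¹ * ((wordPerm (wordAt 5 c5))⁻¹ * ((wordPerm W)⁻¹ * σ)) ∈ M24 :=
    M24.mul_mem (M24.inv_mem (wordPerm_mem_M24 _)) hτ5
  have hone := eq_one_of_fixes_base hτ6 hfix6
  refine ⟨c5, c6, hc5, hc6, ?_⟩
  unfold candWord
  rw [wordPerm_app, wordPerm_app]
  rw [inv_mul_eq_one, eq_comm, inv_mul_eq_iff_eq_mul, inv_mul_eq_iff_eq_mul] at hone
  rw [hone, mul_assoc]

/-- all completions of `W` satisfying `cond` are `good`. -/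
def caseOK (cond good : List ℕ → Bool) (W : List ℕ) : Bool :=
  (List.range 24).all fun c5 => (List.range 24).all fun c6 =>
    !(okTarget 5 c5 && okTarget 6 c6) || !(cond (candWord W c5 c6)) || good (candWord W c5 c6)

theorem case_sound (cond good : List ℕ → Bool) (W : List ℕ) (hOK : caseOK cond good W = true)
    (σ : Equiv.Perm GolayPt) (hσ : σ ∈ M24) (h : ∀ i < 5, σ (bpt i) = wordPerm W (bpt i))
    (hcond : ∀ w, σ = wordPerm w → cond w = true) :
    ∃ w, σ = wordPerm w ∧ good w = true := by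
  obtain ⟨c5, c6, h5, h6, e⟩ := eq_cand48 W σ hσ h
  refine ⟨candWord W c5 c6, e, ?_⟩
  unfold caseOK at hOK
  rw [List.all_eq_true] at hOK
  have h1 := hOK c5 (List.mem_range.mpr c5.2)
  rw [List.all_eq_true] at h1
  have h2 := h1 c6 (List.mem_range.mpr c6.2)
  rw [h5, h6, hcond _ e] at h2
  simpa using h2

/-! ### Commuting with the cube twist -/

/-- does the word commute with the cube twist? -/
def commC (w : List ℕ) : Bool :=
  (List.range 24).all fun i => evalW w (tbl 2 i) == tbl 2 (evalW w i)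

theorem commC_of_commute (w : List ℕ) (h : wordPerm w * cubeTwist = cubeTwist * wordPerm w) :
    commC w = true := by
  unfold commC
  rw [List.all_eq_true]
  intro i hi
  rw [beq_iff_eq]
  have h1 := (isTab_wordPerm w).mul isTab_cubeTwist
  rw [h] at h1
  exact h1.tab_eq (isTab_cubeTwist.mul (isTab_wordPerm w)) (List.mem_range.mp hi)

/-- is the word the identity? -/
def isIdW (w : List ℕ) : Bool := (List.range 24).all fun i => evalW w i == i

theorem eq_one_of_isIdW (w : List ℕ) (h : isIdW w = true) : wordPerm w = 1 := by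
  apply (isTab_wordPerm w).eq_of IsTab.one
  intro i hi
  unfold isIdW at h
  rw [List.all_eq_true] at h
  have := h i (List.mem_range.mpr hi)
  rwa [beq_iff_eq] at this

theorem commute_apply {σ τ : Equiv.Perm GolayPt} (h : σ * τ = τ * σ) (p : GolayPt) :
    σ (τ p) = τ (σ p) := congrArg (fun ρ : Equiv.Perm GolayPt => ρ p) h

theorem fix_of_commC {σ : Equiv.Perm GolayPt} (h : σ * cubeTwist = cubeTwist * σ) {i : ℕ}
    (hi : i < 24) (hfix : tbl 2 i = i) : tbl 2 (idx (σ (pt i))) = idx (σ (pt i)) := by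
  have h1 := commute_apply h (pt i)
  rw [isTab_cubeTwist.apply_pt hi, hfix] at h1
  rw [← isTab_cubeTwist, ← h1]

theorem nonfix_of_commC {σ : Equiv.Perm GolayPt} (h : σ * cubeTwist = cubeTwist * σ) {i : ℕ}
    (hi : i < 24) (hfix : tbl 2 i ≠ i) : tbl 2 (idx (σ (pt i))) ≠ idx (σ (pt i)) := by
  intro hc
  have h1 := commute_apply h (pt i)
  have h2 : cubeTwist (σ (pt i)) = σ (pt i) := by
    apply idx_injective
    rw [isTab_cubeTwist, hc]
  rw [h2] at h1
  have h3 := σ.injective h1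
  rw [isTab_cubeTwist.apply_pt hi] at h3
  have := congrArg idx h3
  have hlt : tbl 2 i < 24 := by
    have := isTab_cubeTwist (pt i)
    rw [idx_pt hi] at this
    rw [← this]; exact idx_lt _
  rw [idx_pt hlt, idx_pt hi] at this
  exact hfix this

theorem tbl2_fixed : ∀ i : Fin 24, tbl 2 i = i → i.val ∈ [0, 3, 15, 23] := by decide +kernel

theorem tbl2_norm : ∀ j : Fin 24, tbl 2 j ≠ j →
    ∃ k : Fin 5, (tbl 2)^[k] j ∈ [1, 5, 8, 11] := by decide +kernel

theorem tbl2_iter_fixed : ∀ k : Fin 5, ∀ z ∈ [0, 3, 15, 23], (tbl 2)^[k] z = z := by decide +kernel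

theorem pt_injective {i j : ℕ} (hi : i < 24) (hj : j < 24) (h : pt i = pt j) : i = j := by
  have := congrArg idx h
  rwa [idx_pt hi, idx_pt hj] at this

theorem eq_pt_of_idx {p : GolayPt} {i : ℕ} (h : idx p = i) : p = pt i := by
  rw [← h, pt_idx]

/-- conjugation by an element normalising a subgroup, as an automorphism of the subgroup. -/
def conjAut {P : Type*} [Group P] (K : Subgroup P) (t : P) (h1 : ∀ x ∈ K, t * x * t⁻¹ ∈ K)
    (h2 : ∀ x ∈ K, t⁻¹ * x * t ∈ K) : K ≃* K where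
  toFun x := ⟨t * x * t⁻¹, h1 x x.2⟩
  invFun x := ⟨t⁻¹ * x * t, h2 x x.2⟩
  left_inv x := by
    apply Subtype.ext
    show t⁻¹ * (t * x * t⁻¹) * t = x
    group
  right_inv x := by
    apply Subtype.ext
    show t * (t⁻¹ * x * t) * t⁻¹ = x
    group
  map_mul' x y := by
    apply Subtype.ext
    show t * (x * y) * t⁻¹ = (t * x * t⁻¹) * (t * y * t⁻¹)
    group

theorem conjAut_apply {P : Type*} [Group P] (K : Subgroup P) (t : P)
    (h1 : ∀ x ∈ K, t * x * t⁻¹ ∈ K) (h2 : ∀ x ∈ K, t⁻¹ * x * t ∈ K) (x : K) :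
    ((conjAut K t h1 h2 x : K) : P) = t * x * t⁻¹ := rfl

/-! ### Normalising automorphisms along the element of order eleven -/

theorem gM_ne_one : gM ≠ 1 := by
  intro h
  have h1 := isTab_gM (pt 1)
  rw [h] at h1
  revert h1
  decide +kernel

theorem orderOf_gM : orderOf gM = 11 := by
  have : Fact (Nat.Prime 11) := ⟨by norm_num⟩
  exact orderOf_eq_prime gM_pow_11 gM_ne_one

theorem rel_cm3 : cubeTwist * gM * cubeTwist⁻¹ = gM ^ 3 := by
  have h : cubeTwist * gM = gM ^ 3 * cubeTwist :=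
    (isTab_cubeTwist.mul isTab_gM).eq_of ((isTab_gM.pow 3).mul isTab_cubeTwist) (by decide +kernel)
  rw [h, mul_inv_cancel_right]

theorem hgen11 : ∀ t : ZMod 11, t ≠ 0 →
    ∃ s : ℕ, t * ((3 : ℕ) : ZMod 11) ^ s = 1 ∨ t * ((3 : ℕ) : ZMod 11) ^ s = -1 := by
  have : ∀ t : ZMod 11, t ≠ 0 →
      ∃ s : Fin 5, t * ((3 : ℕ) : ZMod 11) ^ s.val = 1 ∨ t * ((3 : ℕ) : ZMod 11) ^ s.val = -1 := by
    decide +kernel
  intro t ht
  obtain ⟨s, hs⟩ := this t ht
  exact ⟨s.val, hs⟩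

theorem hq11 : ((6 : ℕ) : ZMod 11) * (((3 : ℕ) : ZMod 11) - 1) = 1 := by decide

/-- Normalising an automorphism of a group `K` of code automorphisms containing `gM` and the
cube twist, of order `11 k'` with `k'` prime to 11. -/
theorem normalize_aut11 (K : Subgroup (Equiv.Perm GolayPt)) (hK : K ≤ M24) (hMK : gM ∈ K)
    (hCK : cubeTwist ∈ K) (k' : ℕ) (hcard : Nat.card K = 11 * k') (hk' : ¬ 11 ∣ k') (φ : K ≃* K) :
    ∃ ψ : K ≃* K, (∃ g : K, ∀ x, ψ x = g * φ x * g⁻¹) ∧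
      ((ψ ⟨gM, hMK⟩ : Equiv.Perm GolayPt) = gM ∨ (ψ ⟨gM, hMK⟩ : Equiv.Perm GolayPt) = gM⁻¹) ∧
      (ψ ⟨cubeTwist, hCK⟩ : Equiv.Perm GolayPt) = cubeTwist ∧
      (∀ s (hs : s ∈ K), s * cubeTwist * s⁻¹ ∈ Subgroup.zpowers cubeTwist →
        ∃ z ∈ K, z * cubeTwist = cubeTwist * z ∧ (ψ ⟨s, hs⟩ : Equiv.Perm GolayPt) = s * z) := by
  have : Finite K := Nat.finite_of_card_ne_zero (by
    rw [hcard]; intro h0
    have : k' = 0 := by omega
    subst this; simp at hk')
  have : Fact (Nat.Prime 11) := ⟨by norm_num⟩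
  obtain ⟨ψ, hinn, ha, hm⟩ := aut_normalize_r (⟨gM, hMK⟩ : K) (⟨cubeTwist, hCK⟩ : K) 11 k' 3 6
    hcard hk'
    (by rw [Subgroup.orderOf_mk]; exact orderOf_gM)
    (by
      apply Subtype.ext
      simp only [Subgroup.coe_mul, Subgroup.coe_inv, Subgroup.coe_pow]
      exact rel_cm3)
    hgen11
    hq11
    (by
      intro g hg
      have h1 : (g : Equiv.Perm GolayPt) * gM = gM * g := by
        have := congrArg (Subtype.val) hg
        simpa only [Subgroup.coe_mul] using this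
      obtain ⟨n, hn⟩ := cent_gM (hK g.2) h1
      refine ⟨n, ?_⟩
      apply Subtype.ext
      simp only [Subgroup.coe_zpow]
      exact hn)
    φ
  refine ⟨ψ, hinn, ?_, ?_, ?_⟩
  · rcases ha with ha | ha
    · left; rw [ha]
    · right; rw [ha]; rfl
  · rw [hm]
  · intro s hs hsm
    have h1 : (⟨s, hs⟩ : K) * ⟨cubeTwist, hCK⟩ * (⟨s, hs⟩ : K)⁻¹ ∈
        Subgroup.zpowers (⟨cubeTwist, hCK⟩ : K) := by
      obtain ⟨n, hn⟩ := hsm
      refine ⟨n, ?_⟩
      apply Subtype.ext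
      simp only [Subgroup.coe_zpow, Subgroup.coe_mul, Subgroup.coe_inv]
      exact hn
    have h2 := aut_fix_coset ψ _ _ hm h1
    set z : K := (⟨s, hs⟩ : K)⁻¹ * ψ ⟨s, hs⟩ with hz
    have h3 : (z : Equiv.Perm GolayPt) * cubeTwist = cubeTwist * z := by
      have := congrArg (Subtype.val) h2
      simpa only [Subgroup.coe_mul] using this
    refine ⟨z, z.2, h3, ?_⟩
    have : ψ ⟨s, hs⟩ = ⟨s, hs⟩ * z := by rw [hz]; group
    rw [this, Subgroup.coe_mul]

end Cfsg.Agent.Lib.Helper10
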