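import Cfsg.Agent.Lib.Helper10.Octad

set_option autoImplicit false

namespace Cfsg.Agent.Lib.Helper10

open Cfsg MulAction
open scoped Pointwise

theorem card_filter_idx (f : ℕ → Bool) :
    (Finset.univ.filter (fun p : GolayPt => f (idx p) = true)).card = (List.range 24).countP f := by
  rw [← card_range_filter]
  apply Finset.card_nbij' idx pt
  · intro p hp
    have : f (idx p) = true := by simpa using hp
    simp [idx_lt p, this]
  · intro i hi
    simp only [Finset.coe_filter, Finset.mem_range, Set.mem_ofPred_eq] at hi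
    simp [idx_pt hi.1, hi.2]
  · intro p _; exact pt_idx p
  · intro i hi
    simp only [Finset.coe_filter, Finset.mem_range, Set.mem_ofPred_eq] at hi
    exact idx_pt hi.1

/-- orbit-stabiliser for a subgroup of the symmetric group, with the orbit given as a finset. -/
theorem card_eq_orbit_mul (K : Subgroup (Equiv.Perm GolayPt)) (b : GolayPt) (S : Finset GolayPt)
    (h1 : ∀ σ ∈ K, σ b ∈ S) (h2 : ∀ c ∈ S, ∃ σ ∈ K, σ b = c) :
    Nat.card K = S.card * Nat.card ↥(K ⊓ stabilizer (Equiv.Perm GolayPt) b) := by
  have key : (stabilizer (Equiv.Perm GolayPt) b).subgroupOf K = stabilizer K b := by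
    ext; rfl
  have horb : orbit K b = (S : Set GolayPt) := by
    ext c
    constructor
    · rintro ⟨g, rfl⟩
      exact h1 g.1 g.2
    · intro hc
      obtain ⟨σ, hσ, rfl⟩ := h2 c hc
      exact ⟨⟨σ, hσ⟩, rfl⟩
  have h1' : (stabilizer (Equiv.Perm GolayPt) b).relIndex K = S.card := by
    rw [Subgroup.relIndex, key, index_stabilizer, horb, Set.ncard_coe_finset]
  have h3 := Subgroup.relIndex_mul_relIndex (⊥ : Subgroup (Equiv.Perm GolayPt))
    (K ⊓ stabilizer (Equiv.Perm GolayPt) b) K bot_le inf_le_left
  rw [Subgroup.relIndex_bot_left, Subgroup.relIndex_bot_left, Subgroup.inf_relIndex_left, h1'] at h3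
  rw [← h3, mul_comm]

/-! ### Certificates that a code automorphism with given fixed points is trivial -/

/-- `σ` maps the set of points of the mask `S` onto itself. -/
def Pres (σ : Equiv.Perm GolayPt) (S : ℕ) : Prop :=
  ∀ p, S.testBit (idx (σ p)) = S.testBit (idx p)

theorem pres_two_pow {σ : Equiv.Perm GolayPt} {i : ℕ} (hi : i < 24) (h : σ (pt i) = pt i) :
    Pres σ (2 ^ i) := by
  intro p
  rw [Nat.testBit_two_pow, Nat.testBit_two_pow]
  congr 1
  apply propext
  constructor
  · intro e
    have : σ p = pt i := by rw [e, pt_idx]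
    rw [← h] at this
    rw [σ.injective this, idx_pt hi]
  · intro e
    have : p = pt i := by rw [e, pt_idx]
    rw [this, h, idx_pt hi]

theorem pres_of_smul_eq {σ : Equiv.Perm GolayPt} {S : ℕ} (h : σ • fs S = fs S) : Pres σ S := by
  intro p
  have h1 : σ p ∈ σ • fs S ↔ p ∈ fs S := Finset.smul_mem_smul_finset_iff σ
  rw [h, mem_fs, mem_fs] at h1
  cases h2 : S.testBit (idx p) <;> cases h3 : S.testBit (idx (σ p)) <;> simp_all

theorem smul_eq_of_pres {σ : Equiv.Perm GolayPt} {S : ℕ} (h : Pres σ S) : σ • fs S = fs S := by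
  ext p
  rw [← Finset.inv_smul_mem_iff, mem_fs, mem_fs]
  have := h (σ⁻¹ p)
  rw [Equiv.Perm.coe_inv, Equiv.apply_symm_apply] at this
  rw [this]
  rfl

/-- the point `i` is separated from every other point by the masks of `pres`. -/
def sepBy (pres : List ℕ) (i : ℕ) : Bool :=
  (List.range 24).all (fun j => j == i || pres.any (fun S => S.testBit i != S.testBit j))

theorem fixed_of_sep {σ : Equiv.Perm GolayPt} {pres : List ℕ} (hpres : ∀ S ∈ pres, Pres σ S)
    {i : ℕ} (hi : i < 24) (h : sepBy pres i = true) : σ (pt i) = pt i := by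
  have hj : idx (σ (pt i)) = i := by
    by_contra hne
    unfold sepBy at h
    rw [List.all_eq_true] at h
    have := h (idx (σ (pt i))) (List.mem_range.mpr (idx_lt _))
    simp only [Bool.or_eq_true, beq_iff_eq, hne, false_or, List.any_eq_true, bne_iff_ne] at this
    obtain ⟨S, hS, hne'⟩ := this
    apply hne'
    have := hpres S hS (pt i)
    rw [idx_pt hi] at this
    exact this.symm
  have := pt_idx (σ (pt i))
  rw [hj] at this
  exact this.symm

theorem pres_octad {σ : Equiv.Perm GolayPt} (hσ : σ ∈ M24) {o : ℕ} (ho : o < 2 ^ 24)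
    (h1 : enc o = o) (h2 : pc o = 8) (f : ℕ → Bool)
    (hf : ∀ i < 24, f i = true → σ (pt i) = pt i)
    (h5 : 5 ≤ (List.range 24).countP (fun i => o.testBit i && f i)) : Pres σ o := by
  apply pres_of_smul_eq
  have hoct := fs_mem_octads ho h1 h2
  apply octad_eq_of_inter_ge (smul_mem_octads hσ hoct) hoct
  rw [← card_filter_idx] at h5
  refine le_trans h5 (Finset.card_le_card ?_)
  intro p hp
  simp only [Finset.mem_filter, Finset.mem_univ, true_and, Bool.and_eq_true] at hp
  rw [Finset.mem_inter]
  have hp' : p ∈ fs o := (mem_fs o p).mpr hp.1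
  refine ⟨?_, hp'⟩
  have := hf (idx p) (idx_lt p) hp.2
  rw [pt_idx] at this
  rw [← this]
  exact Finset.smul_mem_smul_finset hp'

/-- check a certificate: a list of octads, each containing five points already known to be fixed. -/
def runCert : List ℕ → List ℕ → Bool
  | [], pres => (List.range 24).all (sepBy pres)
  | o :: rest, pres =>
    (decide (o < 2 ^ 24) && (enc o == o) && (pc o == 8) &&
      decide (5 ≤ (List.range 24).countP (fun i => o.testBit i && sepBy pres i))) &&
    runCert rest (o :: pres)

theorem runCert_sound {σ : Equiv.Perm GolayPt} (hσ : σ ∈ M24) (steps pres : List ℕ)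
    (hpres : ∀ S ∈ pres, Pres σ S) (h : runCert steps pres = true) : σ = 1 := by
  induction steps generalizing pres with
  | nil =>
    unfold runCert at h
    rw [List.all_eq_true] at h
    ext1 p
    have := fixed_of_sep hpres (idx_lt p) (h (idx p) (List.mem_range.mpr (idx_lt p)))
    rw [pt_idx] at this
    exact this
  | cons o rest ih =>
    unfold runCert at h
    simp only [Bool.and_eq_true, decide_eq_true_eq, beq_iff_eq] at h
    obtain ⟨⟨⟨⟨h0, h1⟩, h2⟩, h5⟩, hrest⟩ := h
    apply ih (o :: pres) _ hrest
    intro S hS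
    rcases List.mem_cons.mp hS with rfl | hS
    · exact pres_octad hσ h0 h1 h2 (sepBy pres) (fun i hi hf => fixed_of_sep hpres hi hf) h5
    · exact hpres S hS

end Cfsg.Agent.Lib.Helper10
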