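import Cfsg.Agent.Lib.Helper10.Order

set_option autoImplicit false

namespace Cfsg.Agent.Lib.Helper10

open Cfsg MulAction
open scoped Pointwise

theorem conj_mem_M24_iff {h : Equiv.Perm GolayPt} (hh : h ∈ M24) (g : Equiv.Perm GolayPt) :
    h⁻¹ * g * h ∈ M24 ↔ g ∈ M24 := by
  constructor
  · intro hg
    have := M24.mul_mem (M24.mul_mem hh hg) (M24.inv_mem hh)
    simpa [mul_assoc] using this
  · intro hg
    exact M24.mul_mem (M24.mul_mem (M24.inv_mem hh) hg) hh

theorem inf_map_conj {h : Equiv.Perm GolayPt} (hh : h ∈ M24) (L : Subgroup (Equiv.Perm GolayPt)) :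
    M24 ⊓ L.map (MulAut.conj h).toMonoidHom = (M24 ⊓ L).map (MulAut.conj h).toMonoidHom := by
  ext g
  simp only [Subgroup.mem_inf, Subgroup.mem_map_equiv, MulAut.conj_symm_apply,
    conj_mem_M24_iff hh]

theorem card_inf_map_conj {h : Equiv.Perm GolayPt} (hh : h ∈ M24) (L : Subgroup (Equiv.Perm GolayPt)) :
    Nat.card ↥(M24 ⊓ L.map (MulAut.conj h).toMonoidHom) = Nat.card ↥(M24 ⊓ L) := by
  rw [inf_map_conj hh]
  exact Subgroup.card_map_of_injective (MulAut.conj h).injective

end Cfsg.Agent.Lib.Helper10
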