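import Cfsg.Agent.Lib.Helper10.Octad

set_option autoImplicit false

namespace Cfsg.Agent.Lib.Helper10

open Cfsg
open scoped Pointwise

theorem enc_mod_check : (List.range 4096).all (fun k => enc k % 4096 == k) = true := by
  decide +kernel

theorem enc_mod_self {k : ℕ} (hk : k < 4096) : enc k % 4096 = k := by
  have := forall_lt_of_all 4096 _ enc_mod_check k hk
  simpa using this

theorem enc_inj {k k' : ℕ} (hk : k < 4096) (hk' : k' < 4096) (h : enc k = enc k') : k = k' := by
  rw [← enc_mod_self hk, ← enc_mod_self hk', h]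

theorem fs_inj {a b : ℕ} (ha : a < 2 ^ 24) (hb : b < 2 ^ 24) (h : fs a = fs b) : a = b := by
  rw [← support₂_vec, ← support₂_vec] at h
  exact vec_injOn ha hb (support₂_injective h)

theorem fs_inter (a b : ℕ) : fs a ∩ fs b = fs (a &&& b) := by
  ext p
  simp only [Finset.mem_inter, mem_fs, Nat.testBit_and, Bool.and_eq_true]

/-- the number of supports of code words whose mask satisfies `P`. -/
theorem ncard_code_filter (P : ℕ → Bool) :
    {s : Finset GolayPt | ∃ w ∈ golayCode, support₂ w = s ∧ P (wmask w) = true}.ncard =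
      ((List.range 4096).filter (fun k => P (enc k))).length := by
  let F : Finset ℕ := (Finset.range 4096).filter (fun k => P (enc k) = true)
  have hA : {s : Finset GolayPt | ∃ w ∈ golayCode, support₂ w = s ∧ P (wmask w) = true} =
      (fun k => fs (enc k)) '' (F : Set ℕ) := by
    ext s
    constructor
    · rintro ⟨w, hw, rfl, hP⟩
      obtain ⟨k, hk, e⟩ := exists_enc_of_mem hw
      refine ⟨k, ?_, ?_⟩
      · simp only [F, Finset.coe_filter, Finset.mem_range, Set.mem_ofPred_eq]
        exact ⟨hk, by rw [← e]; exact hP⟩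
      · show fs (enc k) = support₂ w
        rw [support₂_eq_fs, e]
    · rintro ⟨k, hk, rfl⟩
      simp only [F, Finset.coe_filter, Finset.mem_range, Set.mem_ofPred_eq] at hk
      refine ⟨vec (enc k), (vec_mem_golayCode_iff (enc_lt k)).mpr ?_, support₂_vec _, ?_⟩
      · have := enc_mod k
        show enc (enc k) = enc k
        rw [← enc_mod (enc k), enc_mod_self hk.1]
      · rw [wmask_vec (enc_lt k)]; exact hk.2
  rw [hA, Set.ncard_image_of_injOn, Set.ncard_coe_finset]
  · rw [← List.countP_eq_length_filter]
    exact card_range_filter (fun k => P (enc k)) 4096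
  · intro k hk k' hk' h
    simp only [F, Finset.coe_filter, Finset.mem_range, Set.mem_ofPred_eq] at hk hk'
    exact enc_inj hk.1 hk'.1 (fs_inj (enc_lt k) (enc_lt k') h)

end Cfsg.Agent.Lib.Helper10
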