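import Mathlib

set_option autoImplicit false

/-! Crossed homomorphisms into a matrix module: the kernel subgroup, evaluation along words in two
generators (Fox calculus), and a certificate criterion for being principal. -/

namespace Cfsg.Agent.Lib.Helper10.H1

open Matrix

variable {G : Type*} [Group G] {ι : Type*} [Fintype ι] [DecidableEq ι] {R : Type*} [CommRing R]

/-- `f` is a crossed homomorphism for the matrix action `M`. -/
def IsCrossed (M : G →* Matrix ι ι R) (f : G → ι → R) : Prop :=
  ∀ g h, f (g * h) = f g + (M g) *ᵥ (f h)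

variable {M : G →* Matrix ι ι R} {f : G → ι → R}

theorem IsCrossed.map_one (hf : IsCrossed M f) : f 1 = 0 := by
  have h := hf 1 1
  rw [mul_one, M.map_one, one_mulVec] at h
  exact left_eq_add.mp h

/-- the elements on which a crossed homomorphism vanishes form a subgroup -/
def kerSubgroup (hf : IsCrossed M f) : Subgroup G where
  carrier := {g | f g = 0}
  mul_mem' {a b} ha hb := by
    show f (a * b) = 0
    rw [hf a b, show f a = 0 from ha, show f b = 0 from hb, mulVec_zero, add_zero]
  one_mem' := hf.map_one
  inv_mem' {a} ha := by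
    show f a⁻¹ = 0
    have h := hf a⁻¹ a
    rw [inv_mul_cancel, hf.map_one, show f a = 0 from ha, mulVec_zero, add_zero] at h
    exact h.symm

theorem mem_kerSubgroup (hf : IsCrossed M f) (g : G) : g ∈ kerSubgroup hf ↔ f g = 0 := Iff.rfl

theorem IsCrossed.sub_principal (hf : IsCrossed M f) (v : ι → R) :
    IsCrossed M (fun g => f g - ((M g) *ᵥ v - v)) := by
  intro g h
  show f (g * h) - ((M (g * h)) *ᵥ v - v) = f g - ((M g) *ᵥ v - v) + (M g) *ᵥ (f h - ((M h) *ᵥ v - v))
  rw [hf g h, M.map_mul, ← mulVec_mulVec, mulVec_sub, mulVec_sub]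
  abel

/-- Fox-calculus evaluation of a crossed homomorphism vanishing on `x` with value `a` on `y`,
along a positive word (`false = x`, `true = y`). -/
def cfold (X Y : Matrix ι ι R) (a : ι → R) : List Bool → (ι → R)
  | [] => 0
  | false :: w => X *ᵥ (cfold X Y a w)
  | true :: w => a + Y *ᵥ (cfold X Y a w)

/-- the product of a positive word in `x`, `y` -/
def wprod {H : Type*} [Monoid H] (x y : H) : List Bool → H
  | [] => 1
  | false :: w => x * wprod x y w
  | true :: w => y * wprod x y w

theorem map_wprod {H K : Type*} [Monoid H] [Monoid K] (φ : H →* K) (x y : H) (w : List Bool) :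
    φ (wprod x y w) = wprod (φ x) (φ y) w := by
  induction w with
  | nil => exact map_one φ
  | cons b w ih =>
    cases b
    · show φ (x * wprod x y w) = φ x * wprod (φ x) (φ y) w
      rw [map_mul, ih]
    · show φ (y * wprod x y w) = φ y * wprod (φ x) (φ y) w
      rw [map_mul, ih]

theorem IsCrossed.apply_wprod (hf : IsCrossed M f) (x y : G) (hx : f x = 0) (w : List Bool) :
    f (wprod x y w) = cfold (M x) (M y) (f y) w := by
  induction w with
  | nil => exact hf.map_one
  | cons b w ih =>
    cases b
    · show f (x * wprod x y w) = (M x) *ᵥ (cfold (M x) (M y) (f y) w)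
      rw [hf, hx, zero_add, ih]
    · show f (y * wprod x y w) = f y + (M y) *ᵥ (cfold (M x) (M y) (f y) w)
      rw [hf, ih]

/-- Certificate criterion: `G = ⟨x, y⟩`, `M x - 1` invertible, and finitely many relations
`w₁ = w₂` between positive words whose Fox derivatives have trivial common kernel: then every
crossed homomorphism is principal. -/
theorem principal_of_cert (hf : IsCrossed M f) (x y : G)
    (hgen : Subgroup.closure ({x, y} : Set G) = ⊤)
    (D : Matrix ι ι R) (hD : (M x - 1) * D = 1)
    (rels : List (List Bool × List Bool))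
    (hrels : ∀ p ∈ rels, wprod x y p.1 = wprod x y p.2)
    (hcert : ∀ a : ι → R,
      (∀ p ∈ rels, cfold (M x) (M y) a p.1 = cfold (M x) (M y) a p.2) → a = 0) :
    ∃ v : ι → R, ∀ g, f g = (M g) *ᵥ v - v := by
  set v0 : ι → R := D *ᵥ (f x) with hv0
  have hv : (M x) *ᵥ v0 - v0 = f x := by
    have h1 : (M x) *ᵥ v0 - v0 = (M x - 1) *ᵥ v0 := by
      rw [sub_mulVec, one_mulVec]
    rw [h1, hv0, mulVec_mulVec, hD, one_mulVec]
  have hf' := hf.sub_principal v0
  set f' : G → ι → R := fun g => f g - ((M g) *ᵥ v0 - v0) with hf'def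
  have hx0 : f' x = 0 := by
    show f x - ((M x) *ᵥ v0 - v0) = 0
    rw [hv, sub_self]
  have hy0 : f' y = 0 := by
    apply hcert
    intro p hp
    rw [← hf'.apply_wprod x y hx0 p.1, ← hf'.apply_wprod x y hx0 p.2, hrels p hp]
  have htop : kerSubgroup hf' = ⊤ := by
    rw [eq_top_iff, ← hgen, Subgroup.closure_le]
    intro g hg
    rcases hg with rfl | rfl
    · exact hx0
    · exact hy0
  refine ⟨v0, fun g => ?_⟩
  have hg : g ∈ kerSubgroup hf' := by rw [htop]; exact Subgroup.mem_top g
  have : f g - ((M g) *ᵥ v0 - v0) = 0 := hg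
  exact sub_eq_zero.mp this

end Cfsg.Agent.Lib.Helper10.H1
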