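import Cfsg.Agent.Lib.Helper10.Conj

set_option autoImplicit false

namespace Cfsg.Agent.Lib.Helper10

open Cfsg MulAction
open scoped Pointwise

/-- the dodecad of squares (zero included), as a mask. -/
def d0 : ℕ := 340831

theorem d0_lt : d0 < 2 ^ 24 := by decide +kernel
theorem d0_enc : enc d0 = d0 := by decide +kernel
theorem d0_pc : pc d0 = 12 := by decide +kernel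

theorem fs_d0_mem : fs d0 ∈ dodecads := fs_mem_dodecads d0_lt d0_enc d0_pc

/-- if the image of every point lies in `m'` exactly when the point lies in `m`, then `σ`
maps the set of `m` onto the set of `m'`. -/
theorem smul_fs_eq {σ : Equiv.Perm GolayPt} {m m' : ℕ}
    (h : ∀ p, m'.testBit (idx (σ p)) = m.testBit (idx p)) : σ • fs m = fs m' := by
  ext p
  rw [← Finset.inv_smul_mem_iff, mem_fs, mem_fs]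
  have := h (σ⁻¹ p)
  rw [Equiv.Perm.coe_inv, Equiv.apply_symm_apply] at this
  rw [this]
  rfl

/-- for each code word index `k` of weight 12, a word moving `d0` to the dodecad `enc k`. -/
def dodTab : List (List ℕ) := [
  [], [], [], [], [], [], [], [], [], [], [], [], [], [3,2,2,3], [2,1,3,2,3,2,0], [], [], [], [], [], 
  [], [], [], [], [], [], [0,0,1,3,3], [2,2,3], [], [0,2,1,3,2,3,2,0], [], [3,1,0,0,0,2,2,0], [], [], 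
  [2,3,4,0,4,4,0,1], [], [], [], [], [0,2,2,0,1,0,0,1], [], [], [], [1,0,2,0,1,3], [], 
  [0,2,1,0,0,4,0,0], [], [], [], [], [], [2,0,4,0,2,0,1], [0,0,0,1,3,3], [4,4,3,2,3,1,0], [], 
  [0,2,2,3], [], [], [], [3,2,1,0,1,3,3], [3,4,1,3], [], [1,0,0,0,2,2,0], [0,4,3,3,3,2,0], [], [], 
  [], [], [], [2,0,0,0,4,3,1], [], [4,4,3,3,1,0,4,0], [], [], [], [], [], [], [2,0,2,3,2,0,1,0], 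
  [2,3,4,0,2,3,1], [4,1,0,2,0,0], [], [], [4,0,0,0,1], [], [], [2,3,1,0,4,3,1,0], [1,3,2,1,0,1,3], 
  [], [2,0,0,0,0,1], [], [2,3,1,0,0,1,3], [3,3,3,3,2,1,0,1], [], [], [2,3,3,3,2,0], [], [3,1,0,2,0], 
  [], [], [], [], [3,4,0,0,1,3], [], [], [0,0,0,0,1,3,3], [1,0,0,0,0,0,0], [2,3,2,2,1,3], [], 
  [2,2,0,2,0], [1,0,1,3,3,4,0], [0,0,2,2,3], [], [], [], [3,2,3,3], [], [1,0,2,1,0,1], [3,4,3,3,3], 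
  [2,1,0,1,3,3], [4,1,3], [0,2,3,4,3,3], [1,3,3,3,4,0,0], [], [3,3,4,0,2,2,3], [0,1,0,0,0,2,2,0], 
  [4,3,4,1,0,0,1,0], [], [], [], [], [], [], [], [], [], [], [4,3,2,1,0,0,2,0], [], [4,4,0,0,4,0,1], 
  [], [], [2,1,3,4,3,2,2,0], [4,4,0,4,4,3], [], [], [], [], [], [], [], [], [2,1,3,2,0,0], [], [], 
  [3,3,3,2,0,0], [1,0,2,1,0,4,3], [0,4,1,3,3,4,4,0], [4,0,0], [4,0,2,2,1,3,3], [], [3,3,3,4,4,0], [], 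
  [], [], [0,2,2,1,0,4,4,0], [2,0,1,3,3,1], [0,4,0,0,0,1], [], [], [2,1,3,3,4,0,0], [], [], 
  [3,2,1,0,0,0,0,1], [3,3,3,4,3,3], [3,4,0,4,0,1], [], [1,0,4,4,0,0,1], [4,1,3,3,4,0], 
  [0,2,0,0,0,0,1], [1,3,2,0,2,3], [], [3,3,2,0,2,3,1], [3,2,0,2,2,0,0], [2,1,0,2,1,0], 
  [3,3,3,2,1,0,1], [], [4,0,2,3,1], [], [4,4,3,4,0,0], [1,0,2,3,3,3,3], [0,2,3,3,3,2,0], [], [], 
  [1,0,2,0], [0,0,0,0,1,0,0], [], [4,4,1,0,1,3], [3,2,0,4,4,3], [], [], [4,0,0,2,3,4,0], 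
  [2,0,2,1,0,0,1], [], [], [4,0,0,1,3], [], [3,3,4,0,0,2,0,1], [], [4,4,0,2,1,0,2,0], [], 
  [2,1,3,3,4,3,1], [0,1,3,3,3,2,0], [4,3,3,4,3,4,3], [1,0,4,0,0,2,0], [1,3,2,0,0,1], [], [], 
  [0,2,2,0,2,0], [1,3,3,4,0,1], [1,3,3,3,4,0], [4,0,2,0,2,0], [1,3,2,3,4,0,1,0], [0,0,0,2,2,3], [], 
  [], [], [3,3,2,1,3,4,4,0], [], [4,4,3,4,4,0], [3,2,0,1,3], [2,3,3], [], [1,0,2,0,0,1], 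
  [4,4,0,1,0,0], [1,3,2,0,1], [], [4,3,3,3], [3,3,4,0,1,3], [3,4,3,2,0,0], [0,4,1,3], [], 
  [2,0,4,1,0,1,3], [0,0,2,3,4,3,3], [2,0,2,0,2,1,0], [2,3,3,1,0,4,0], [], [0,0,0,1,3], [3,4,0,2,0,1], 
  [3,4,0,2,2,3], [2,1,0,2,0,2,3], [], [3,4,4,3,4,3,2,3], [0,1,3,4,0,2,0], [3,1,0,0,1,0], [], [], 
  [4,3,1,0,1,3], [], [], [], [], [], [0,0,2,2,0,4,0], [], [], [], [2,3,2,3,1], [], [], [2,0,0,2,3,1], 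
  [], [], [], [4,0,1,3,2,0,1,0], [], [], [4,0,1,3,3,3], [1,3,4,3,3,3,3], [2,1,0,4,3,1], [], 
  [0,0,4,0,0,1,0], [], [], [], [3,2,1,3,2,0,1], [1,0,0,0,0,4,0], [3,4,1,0,4,0], [], [], [], [], 
  [4,3,4,0,4,0], [], [], [2,2,0,4,3,3,3,1], [2,1,3,3,3], [], [], [2,2,3,3,2,1,0], [], 
  [4,0,2,0,2,1,3], [2,0,0,0], [], [], [0,2,1,3,2,0,0], [], [0,0,0,0,2,0,1], [], [], 
  [1,3,2,3,2,3,2,0], [3,3,2,0,0], [1,3,2,0,4,3], [4,3,4,0,1,3,3], [0,2,1,3,4,1,3], [2,1,0,2,0,0,1], 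
  [2,0,2,3,4,1,3], [0,4,0,0], [2,1,3,4,3,2,3], [4,3,3,4,3,3], [], [], [], [3,3,4,4,0], [], [], [], 
  [0,2,2,3,4,3,3,1], [1,0,0,2,3,3,4,0], [], [1,0,4,0,0,4,0,0], [0,2,0,2,2,0,0,0], [0,2,0,1,3,3,1], 
  [0,0,4,3,1,0,1], [], [3,1,0,0,1,3], [], [], [], [4,4,1,0,0,4,0,1], [2,2,1,0,0,4,0,0], 
  [4,4,3,4,1,0], [3,4,4,1,0,1], [], [], [1,3,4,3,1], [1,0,2,2,0,1,0], [2,1,0,0,0,0,1], 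
  [4,4,3,3,3,3,1], [3,3,4,3,3], [4,0,4,0,1], [], [], [], [0,0,2,1,0,0], [1,0,4,4,0,0,0,1], 
  [2,1,0,1,3,2,0], [0,4,1,3,3,4,0], [0,0,2,0,0,0,0,1], [3,2,2,0,2,0,0], [], [4,4,0,1,3,3], [], 
  [2,0,0,1,0,0,1], [3,2,0,2,3,1], [0,0,2,3,2,0,0], [0,2,2,0,0,0,1], [2,0,2,2,0,0], [0,4,3,4,1,0,1], 
  [0,2,1,0,2,1,0], [3,3,2,1,0,1], [4,0,4,4,0,4,0], [], [], [0,0,2,0,4,4,0], [0,4,0,2,3,1], [], 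
  [4,4,3,4,0,2,0,0], [], [2,3,4,3,4,3], [4,0,2,3,2,0,1,0], [3,1,0,0,2,3,1,0], [2,2,3,3,2,2,0], 
  [4,3,1,0,0,1,3], [], [], [], [4,0,2,1,3,2,0,0], [1,3,2,1,0], [], [2,2,1,0,0,2,0], [4,4,3,2,0,2,3], 
  [], [], [], [1,0,0,4,3,1], [2,2,3,3,1], [2,0,4,4,3], [], [3,1,0,2,0,2,0,0], [], [0,1,3,3,3,1,0], 
  [1,3,2,3,2,3,3], [3,4,4,1,0,2,0,0], [2,2,0,0,1,0], [4,4,0,2,0,0,1], [], [2,2,3,1,0,1], 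
  [3,1,0,2,3,3,3,1], [], [0,4,0,0,1,3], [0,4,0,0,4,0,0], [], [0,4,1,3,3,3,2,0], [4,3,4,3], 
  [3,4,0,0,2,0,1], [], [], [2,3,4,4,0,0,1], [0,4,3,3,2,0,0], [], [0,4,3,2,1,3], [], 
  [3,1,0,1,3,4,1,0], [1,3,2,0,0,0,0], [4,3,2,2,3,3], [4,4,0,2,1,3], [2,0,1,3,2,1,3], [2,2,0,0,0,4,3], 
  [1,3,4,1,0,0,2,0], [3,3,3,3,2,0], [2,3,3,2,2,3,1], [], [3,4,1,0,1,3], [0,0,0,2,1,0], [], 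
  [4,4,1,0,2,0], [0,0,2,2,0,2,0], [0,1,3,3,4,0,1], [3,4,4,3,2,1,0], [], [3,1,0,0,4,0,0], 
  [2,0,2,3,2,3], [], [1,0,2,1,3,2,0], [], [], [3,3,2,3,2,2,0], [3,4,0,2,3,3,1], [], [], [], [], 
  [0,4,1,0,2,0,1,0], [1,3,3,3,3,3], [3,2,1,3,4,4,0], [], [1,0,0,1,3,3], [0,4,0,4,0,1,3], 
  [4,3,3,2,2,0,0], [0,2,2,3,2,3], [2,0,1,3], [0,2,3,3], [], [], [2,3,4,3,2,0,1], [3,3,2,2,0,0,0], 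
  [3,2,1,0,0,1], [], [0,4,4,0,1,0,0], [2,1,3,4,0,0], [0,4,4,0,4,4,0], [2,3,2,1,0,0], [], [0,4,3,3,3], 
  [0,2,0,0,4,0,1], [3,4,0,1,3], [0,2,2,0,0], [], [4,3,2,0,0], [2,2,0,0,4,0,0,0], [0,0,4,1,3], [], [], 
  [2,3,4,3,2,3,1], [0,1,3,4,4,3], [4,3,3,2,1,0,1], [3,3,2,3,2,1,0], [3,2,2,0,2,3], [4,1,3,4,3,1,0,1], 
  [2,3,2,0,1,0,0], [0,2,3,3,1,0,4,0], [0,1,3,3,2,1,0], [], [0,0,0,0,1,3], [], [4,0,2,0,1], 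
  [0,0,2,0,2,0,0], [4,4,3,1], [4,0,2,2,3], [4,3,2,0], [2,0,1,3,3,2,0,0], [], [], [1,3,4,3,2,3], 
  [4,4,3,4,3,2,3], [4,4,1,0,4,0], [0,2,2,3,2,1,0], [1,0,0,1,0], [], [1,0,4,0,0,0,0], [], [], [], [], 
  [0,4,3,1,0,1,3], [0,2,3,2,2,0,1], [], [], [], [], [], [], [1,0,2,1,3,4,1,0], [], [], [], 
  [2,0,2,3,3,2,0], [], [], [], [3,3,3,4,0,0], [], [4,3,4,3,3,1], [4,4,3,4,0,0,0], [0,2,3,2,3,1], [], 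
  [], [3,2,3,4,0,1], [], [4,0,2,0,0,0,0], [4,3,2,2,1,0,1], [], [0,4,3,3,4,3,1], [], [], [], [], [], 
  [3,4,0,0,4,3,1], [], [3,4,1,3,3,2,0,0], [], [], [1,0,4,3,4,0,0], [2,3,3,4,0,0,0], [2,2,0,2,3,2,3], 
  [0,0,4,4,0,1,3], [4,3,4,3,3,3,3], [0,2,1,0,4,3,1], [], [], [3,1,0,4,0,0,0], [4,3,4,3,2,0,1], [], 
  [0,4,1,0,0], [2,2,1,3,3], [], [], [], [2,0,4,3,2,0], [2,1,3,2,0,1], [2,2,3,3,3,3,1], [3,2,0,2,3,3], 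
  [4,1,0,4,0], [0,2,0,0,2,0,0], [], [], [4,4,3,3,3,1], [], [], [], [], [2,2,1,0,0,4,0,1], 
  [1,0,1,3,2,1,3], [3,4,3,2,3], [], [4,3,2,1,0], [], [0,4,3,1], [4,3,2,0,4,3], [4,3,4,1,0,0,2,0], [], 
  [0,2,1,3,3,3], [], [], [], [2,2,3,2,3,3], [0,4,0,1,3,2,1,0], [0,2,2,3,3,2,1,0], [], 
  [4,3,4,1,0,4,0], [3,3,2,3], [4,0,4,3,3,4,3,1], [1,0,4,0], [0,2,0,0,0], [], [3,3,4,3,4,0,0], [], 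
  [0,0,0,2,1,3], [], [2,0,1,0,0,1], [3,3,3,4,0,1], [], [2,1,3,3,2,1,0], [], [4,4,1,0,0], [], [], 
  [3,3,4,4,1,3], [2,3,2,3,2,0,1], [0,0,4,3,2,2,0], [4,1,3,2,2,3], [3,2,0,0], [1,0,0,2,0,0], 
  [3,2,3,2,3,4,0], [2,2,3,4,3,2,3,1], [3,2,0,4,4,0,0], [2,0,2,3,2,0,0], [2,0,2,2,1,3], 
  [4,1,0,2,3,2,0], [3,4,1,3,2,0,1], [3,2,3,3,2,3,1], [4,0,4,0,1,0], [4,3,4,0,4,3,1], [0,0,4,0,0], [], 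
  [2,3,4,0,0,2,0,1], [3,4,4,0,4,3,3], [], [], [], [], [0,0,1], [], [0,2,0,0,4,3], [3,3,4,0,1,3,3], 
  [3,4,4,0], [], [3,2,0,1], [], [], [4,1,3,4,4,0], [], [3,3,1,0,2,0,2,0], [2,0,4,3,1,0], 
  [1,0,2,2,3,2,1,0], [1,3,2,1,3,3], [0,4,4,3,2,0,1], [], [], [4,1,0,2,1,0,1], [3,4,0,0,2,1,0], 
  [0,2,0,4,3,1], [], [4,0,0,0,4,0,1,0], [2,1,3,2,3,1,0], [4,1,0,2,0,1], [], [4,4,3,2,3,1], 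
  [0,0,4,0,0,0,0,0], [1,0,0,1,3], [2,3,3,1,0,1,3], [], [], [2,3,4,0,1,0], [], [], [0,2,0,2,0,1,0], 
  [3,4,3,3,3,3,1], [4,4,3,2,3,3,1], [2,3,4,4,1,0], [1,3,4,3,4,1,0], [2,0,0,2,2,0], [3,2,3,2,2,3], 
  [4,4,1,0,1], [], [], [], [0,4,3,3,4,1,3], [], [0,1,3,4,3,1], [1,0,0,0,0,0], [1,3,2,2,3,1], 
  [1,0,0,2,3,4,0], [2,2,3,3,4,0,0], [0,2,0,2,3,1,0], [2,3,4,1,3,3], [3,4,3,3], [1,0,0,0,2,1,3], 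
  [2,1,3,4,1,0], [3,1,0,2,3], [], [], [], [], [], [3,4,1,0], [2,0,2,3,3,3], [3,4,0,0,4,4,1,3], [], 
  [4,4,0,2,1,0,1], [0,2,1,0,1,3,2,0], [], [0,4,4,3,1,0,1], [2,0,4,4,3,2,0], [3,4,3,3,1,0], 
  [4,0,4,0,4,3,1], [2,2,0,2,0,0], [], [], [2,0,2,0,2,0,0,1], [0,2,3], [4,4,1,0,1,3,3], [4,1,0,4,4,0], 
  [], [1,3,3,4,0,0,4,0], [4,0,2,0,1,0], [1,0,0,2,1,0,0], [2,0,2,3,1], [4,3,2,0,2,0,0], [], 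
  [4,4,1,3,2,2,3], [], [3,4,3,2,2,1,3], [0,2,0,2,2,0,0], [2,2,0,0,0,0], [3,2,1,3,2,3,1], 
  [2,2,0,4,4,0,0], [0,0,1,3,4,1,0], [3,2,1,0,1], [3,2,0,1,3,4,3], [4,1,3,3,3,3], [3,2,2,0,4,4,0], [], 
  [0,2,3,3,3,1], [1,0,4,3,2,0], [], [1,3,4,4,1,0], [2,1,3,3,3,3,1], [1,3,3,2,3,1,0], 
  [0,0,0,0,2,0,0,0], [], [3,2,3,2,3,1,0], [], [3,2,0,0,4,3,3], [0,2,2,0], [], [0,2,3,4,3,4,3], [], 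
  [0,4,4,0,4,0,1], [3,3,2,3,3,4,3], [1,0,0,2,3,1,0], [0,4,3,4,0,0], [4,4,0,2,3,3], [], [], 
  [2,2,0,1,0,0,1,3], [], [], [], [], [], [], [1,0,2,3,2,2,0], [0,0,4,0,0,2,0], [], [0,1,3,2,1,0], [], 
  [0,4,4,0,0,1], [1,3,4,0,0,4,0], [2,0,2,0,1,0,0], [1,0,2,0,0,1,0,0], [4,4,3,3,3,4,0], [4,0,4,3,3,1], 
  [], [], [2,3,4,4,0,4,0], [], [3,1,0,4,0,2,0,1], [], [4,1,0,0,4,0,1], [0,2,2,3,3,1], [0,0,2,3,2,0], 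
  [0,1,3,4,3,3,1], [0,2,0,4,4,3], [0,2,3,1,0], [], [1,0,2,0,2,0,0], [], [], [2,3,4,3,4,1,0], 
  [0,2,1,0,1,3], [2,0,2,3,4,4,0], [], [2,3,4,1,0,1,3], [4,4,1,0,2,0,0], [4,0,1], [3,3,1], 
  [0,2,2,0,0,1,0], [3,3,4,1,3,4,1,0], [], [], [4,1,3,4,3,1], [2,3,4,0,4,4,1,0], [0,2,2,3,1,0,1], 
  [3,4,3,2,0,2,3], [1,0,2,3,3,3,1], [], [4,4,0,1,3,3,3], [0,0,4,0,0,1,3], [3,3,3,3], [], 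
  [3,2,1,0,0,1,0], [], [2,3,2,0,1], [4,0,2,3,1,0], [3,1,0,4,3,3,1,0], [1,3,3,3,3,2,1,0], [3,4,4,0,0], 
  [4,0,0,2,0,1], [], [], [3,4,4,0,4,0], [3,2,2,0,1], [], [2,2,1,0], [0,2,3,4,4,0,0,1], 
  [3,4,0,2,0,2,0,0], [2,2,0,2,2,1,3], [], [], [4,3,2,3,4,0,1], [2,0,2,0,2,3], [], [], [4,4,1,3,2,3], 
  [1,0,1,3,4,1,0], [], [4,0,4,3,2,0,1], [0,4,3,2,2,3,3], [], [0,4,4,0,2,1,3], [2,0,4,1,0,0], 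
  [3,2,0,2,1,3], [4,4,1,0,4,1,3], [4,0,0,4,0,1,0], [1,0,0,4,1,3], [3,2,0,4,3], [3,1,0,2,3,3,1], 
  [0,4,4,1,3], [3,3,3,2,0], [3,2,0,0,4,3,1], [], [], [1,0,4,0,1,3], [0,0,4,0], [4,1,0,1,3], 
  [1,0,4,3,3], [0,0,0,0,2,1,0], [], [0,2,0,1,0], [3,2,3,3,4,0,0], [1,0,2,1,3,3], [1,3,2,0,0,2,3], [], 
  [3,1,0,0,4,1,0,0], [2,3,3,2,3,2,3], [], [4,4,3,2,1,0], [1,3,4,4,3,2,3], [], [1,0,0,4,0,0], 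
  [2,3,3,1,0,2,0,0], [4,4,0,0,1,0], [2,0,2,0,4,3,1], [0,4,0,4,0,0], [], [1,3,2,3,2,0], [0,0,2,0,0], 
  [2,1,3,4,4,1,0], [], [], [], [3,2,3,2,2,0], [], [], [4,0,2,3,3,1], [], [2,0,2,0,0,1], [], 
  [4,3,3,4,1,0], [1,0,4,4,0,1,0], [], [], [3,2,3,1,0,2,0], [], [4,3,4,3,1,0,1], [1,0,2,0,4,4,0], 
  [4,4,0,4,0,1,0], [2,1,3,4,4,0], [0,2,3,2,2,0,0], [], [], [1,3,4,0,2,2,3], [4,0,4,1,0,0], 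
  [2,2,0,0,4,0], [4,3,3,3,3,3,1], [3,4,3,2,0,1,0], [3,4,3,3,2,0,0,1], [3,3,4,3,4,3,1], 
  [4,3,2,3,2,0,0], [0,2,0,1,3], [4,3,3,3,2,3], [4,0,2,1,0], [], [0,0,0,2,2,3,3], [], [4,0,0,2,1,3], 
  [], [2,0,4,4,0,1], [3,4,3,4,1,0], [3,2,2,0,0,0], [], [4,4,1,0,0,0,0], [2,1,0,0,1], [], 
  [3,1,0,4,1,3], [1,3,3,3], [4,3,3,2,3,3], [4,3,1,0], [0,2,1,3,4,0,0], [3,2,2,3,4,3,3], [], 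
  [1,3,4,0,2,3], [3,2,3,2,0,1,3], [2,3,2,1,3,2,0], [], [1,0,1,3,2,0], [0,0,4,3,3,3], [2,1,0,0,0,4,0], 
  [], [2,2,1,0,1,3,3,1], [4,0,1,3], [4,3,2,1,0,0], [], [], [3,3,2,3,2,3], [2,2,0,4,0,1], [2,0,2,0], 
  [3,3,3,1,0,1,3], [3,4,0,2,1,0,0], [0,0,0,4,1,3], [0,0,1,3,3,2,3], [], [1,3,2,3,2,1,0,1], 
  [4,0,0,4,0], [], [2,1,3,4,3,4,3], [3,1,0,0,0,0], [3,1,0,2,1,0,0], [3,2,2,3,4,4,0], [0,2,3,4,0,0,0], 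
  [1,0,2,3,1,0,1], [3,2,3,2,1,0], [0,0,1,0,0,1], [2,2,0,2,3], [2,0,4,3,3,3,1], [4,3,3,4,0], 
  [1,0,2,3,2,1,3], [], [3,1,0,0,4,0], [3,3,2,0,1,3,3], [], [3,4,0,4,4,1,0], [2,3,3,3,4,1,3], [], [], 
  [2,3,4,0,4,3,1], [3,4,3,1,0,2,3], [], [], [], [0,4,0,2,0,1], [2,2,1,3,2,0], [3,3,3,2,3,3,1], 
  [1,0,0,2,0], [3,2,0,2,1,0], [], [0,4,0,2,2,3], [0,4,3,2,0], [], [1,0,4,1,3,2,0], [3,4,0,0,0,1,3], 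
  [2,1,0,4,4,1,0], [], [], [], [2,1,3,4,1,0,0], [], [2,0,1,3,3,3,3], [2,3,2,2,1,0,0], 
  [3,2,3,4,1,0,0], [0,4,4,1,0,4,0], [3,2,2,0,1,0,0], [], [], [1,3,3,1], [], [], [1,0,0,4,0,0,0], [], 
  [], [], [], [], [], [3,3,3,2,2,3], [], [], [], [2,0,1,3,4,1,0], [0,0,2,3,2,2,0,1], [], [], [], [], 
  [], [], [3,3,3,4,1,3], [], [1,0,4,0,2,0,0,1], [], [], [2,1,0,2,0,1,0], [], [1,3,2,3,4,1,0], 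
  [4,3,1,0,2,1,0], [], [], [], [2,3,3,4,3,1], [], [3,4,0,4,4,0], [0,0,0,0,0,1], [4,3,4,0,4,0,0], [], 
  [], [], [], [], [], [3,3,2,1,3,2,0,0], [3,3,4,0,0], [], [2,2,3,3,4,0,1], [], [0,4,3,4,3,3,1], 
  [0,4,1,3,4,0,0], [3,2,0,0,2,2,3], [3,3,4,0,2,3,1], [2,1,3,3,1], [], [4,4,3,4,0,4,3], 
  [4,1,0,2,1,0,0], [], [], [2,3,4,0,1], [], [4,1,0,1,3,3], [4,3,2,3,3,1], [1,0,1,3,2,2,0], 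
  [3,3,1,0,2,0,0,1], [0,0,4,4,0], [], [0,1,3], [], [2,3,4,4,3,1], [], [], [], [3,3,2,0,0,2,3,1], [], 
  [4,0,0,0,2,2,0], [], [], [], [2,0,2,1,0,4,3,1], [0,2,2,0,1,0], [4,0,0,4,3,1], [0,0,2,0,1], [], 
  [4,1,3,3,2,0,0], [1,3,4,4,0,0,1], [], [], [0,0,0,4,3,3,1], [], [], [1,0,2,2,0,1], 
  [3,2,0,0,2,0,0,0], [4,4,0,0,0,1,3], [], [2,0,0,4,3,2,1,0], [2,3,2,0,2,3,1], [2,3,2,0,0], 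
  [4,3,4,4,3,3,3], [], [0,2,0,0,2,1,0], [0,0,2,1,0,4,3,1], [2,2,3,2,0,0,1], [], [], [2,0,4,0,2,2,3], 
  [1,0,4,0,0,0], [1,3,2,3,1], [0,2,0,0,0,0,0], [4,3,4,0,4,1,3], [], [], [4,0,2,0,1,3], [0,0,4,1,0,0], 
  [0,2,1,0], [0,2,2,1,3,3], [], [], [], [2,2,1,0,0,1], [2,2,3,3,4,3], [], [3,1,0,0,2,0,1,0], 
  [4,4,3,2,3,2,0], [0,2,1,3,2,0,1], [3,2,2,0,0], [2,2,1,0,2,3], [2,1,3,4,3,3,1], [2,0,2,3,3], 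
  [0,4,0,4,3,1], [0,4,1,0,4,0], [4,4,3,2,0,0], [1,0,2,2,0,0,0], [2,0,0,0,2,2,3], [], [], 
  [1,3,3,3,2,0,0], [], [1,3,4,0,0,4,3], [0,4,4,3,3,3,1], [], [2,0,4,0,1,3], [], [], [], 
  [0,2,3,3,2,0,0], [], [0,2,2,3,3,3,1], [3,2,3,3,2,3,3], [2,0,2,0,2,1,3], [], [1,3,3,2,1,3], 
  [4,3,2,3], [3,4,3,1], [], [1,3,3,3,1,0,2,0], [4,1,0,0,2,0], [0,4,3,2,1,0], [], [0,4,0,0,2,3,1], 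
  [4,4,0,0,0], [0,0,4,3,1], [1,0,0,2,1,0], [1,3,3,3,3,1], [2,1,3,3,4,4,0], [], [], [0,2,3,2,1,3], [], 
  [3,2,1,0,4,4,0], [4,4,0,2,0,1], [], [], [4,0,0,0,0,0], [2,1,0,0,4,0], [], [0,2,2,3,2,3,3], [], 
  [3,4,3,3,4,1,3], [2,3,3,2,0], [1,3,4,0,0,0,0,0], [2,0,2,3,2,2,0], [], [], [3,4,4,3,1,0,1], 
  [4,0,0,4,3,3,3], [3,2,3], [0,0,0,2,3,1], [1,3,4,0,4,0], [3,4,4,0,0,4,3,1], [1,3,4,1,0], 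
  [0,4,3,3,3,1,0], [3,2,3,3,3,1], [0,0,2,0,0,0], [0,4,3,3,2,2,0], [], [3,4,3,4,0,0], [], [], [], [], 
  [4,0,1,3,4,3,1], [4,3,2,2,3,1], [], [1,0,2,3,3,2,0], [3,2,3,1,0], [4,4,3,2,1,0,0], [3,3,4,0,1], [], 
  [0,4,0,2,0,0,1], [1,0,4,0,4,0], [3,3,3,3,3,3], [0,4,3,3,1,0,1], [], [3,3,3,2,2,0,1], [0,4,4,1,0,0], 
  [], [2,2,0,0,0,4,4,0], [], [4,0,1,0,0,1], [2,1,0,2,0,4,3], [3,4,4,1,3], [3,2,1,0,2,0,0,0], 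
  [3,2,0,1,0], [], [3,2,1,3,3,2,3], [2,2,3,3,3,3,3], [2,0,1,0,0,1,3], [2,0,0], [], [0,1,0,0,2,0,0], 
  [0,4,3,4,4,3], [1,3,4,4,0,4,0], [2,3,2,3,4,0], [], [4,3,4,3,3,2,1,0,1], [2,0,4,4,0,0], [], 
  [1,0,4,3,1,0], [4,0,0,2,0,0,0], [3,1,0,1,3,3], [3,3,4,3,1,0], [3,2,2,0,0,4,0,0], [3,2,0,0,2,0,1], 
  [2,3,4,4,3,3,3], [4,1,3,2,0,1], [1,3,3,2,3], [2,3,3,2,3,1], [0,4,0,4,0,1,0], [1,0,0,1], 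
  [4,0,0,4,0,1,3], [], [], [0,0,0,4,0,0], [], [], [2,2,0,4,0,2,0], [1,0,2,1,3,3,3], [2,1,3,3,4,1,0], 
  [4,4,0,4,3,3], [], [], [], [], [], [], [], [1,0,2,0,2,1,3], [], [0,0,0,1], [], [], [1,3,2,0,1,0], 
  [3,3,2,1,3,3,1], [2,2,0,4,3,2,0], [3,4,0,1,3,3], [4,4,0], [1,0,1], [], [], [3,2,2,0,1,0], [2,0,1], 
  [0,4,3,3,1], [], [], [3,2,0,0,2,1,0], [4,1,0,4,3], [3,1,0,2,0,1,0], [], [], [3,1,0,2,0,2,0], 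
  [0,2,1,0,2,3], [3,4,0,4,3,1], [4,3,4,0,2,0,0], [], [4,1,3,3,2,1,3], [3,2,3,3,2,0,0], 
  [3,2,2,3,3,3,1], [3,3,3,4,3,1], [1,3,3,2,0,0,1], [3,4,0,0,2,3,1], [], [], [4,3,4,3,3,3,1], 
  [2,2,3,4,0], [4,0,4,1,0,4,0,0], [], [4,0,0,2,1,0], [0,0,2,0,4,3,1], [2,3,3,3,4,3], [], 
  [0,1,3,3,4,3], [4,1,3,2,1,0], [3,2,3,4,3,1,0], [2,2,3,2,1,3,2,0], [3,4,0,0,1,3,3], [2,1,3,4,4,3], 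
  [], [4,3,2,3,2,0,1], [], [0,4,4,3,2,3,1], [2,3,1,0,0,0,0], [4,0,0,0,0,2,0], [], [1,3,2,0,0,2,0], 
  [0,1,0,0,1,3], [], [3,4,3,3,1,0,2,0], [], [3,3,1,0,1], [], [2,3,3,3,3], [], [3,2,1,0,2,3], [], 
  [4,1,0,0,4,3,1], [4,1,3,2,3], [], [4,1,3,3,4,0,0], [2,2,0,0,2,0,0], [4,3,3,3,3,1], 
  [0,4,0,0,0,1,0,0], [4,0,0,2,0,0,1], [0,0,2,3,3,4,0], [0,0,1,3,4,0,0], [0,2,3,4,4,1,0], [2,3,3,4,0], 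
  [2,2,0,2,1,0,1], [2,3,4,3,3,3], [0,2,3,3,4,0,1], [4,4,1,3,4,4,1,0], [2,3,2,2,3], [1,3,3,4,4,0], 
  [2,3,4,4,3,1,0], [], [3,2,3,3,3,3,1], [3,3,3,1,0], [], [1,0,2,0,4,4,3], [], [1,0,0,4,3,2,0], 
  [0,4,3,3,3,3], [], [0,0,0,2,0,2,1,3], [3,3,4,0,2,0,0], [1,3,3,4,3,1], [0,1,0,0,0,0,0], [], 
  [3,2,2,3,4,0,1], [4,4,3,2,2,0], [4,0,4,3,3,3], [1,0,1,3,2,0,0], [1,0,4,0,2,3], [], [3,3,4,0,4,3], 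
  [2,1,0,2,3,1], [], [3,4,1,0,4,3,1], [0,2,3,3,3,3,1], [4,3,3], [3,3,2,2,1,3], [], [3,1,0], 
  [0,2,1,3,4,1,0], [1,0,2,3], [], [], [2,3,1,0,2,3], [], [], [], [3,2,3,3,4,1,0], [3,4,0,1,3,2,0,0], 
  [], [], [], [4,1,0], [2,0,1,3,2,0,0], [0,2,2,0,4,1,3], [4,4,3,4,4,1,0], [4,0,0,4,4,1,3], 
  [3,2,3,2,3,3], [], [], [0,4,3,2,3,2,0], [4,3,4,4,3,1], [], [2,0,1,0,0,0,1,3], [], [3,3,2,1,3], 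
  [2,2,1,3,3,3,3], [3,4,0,1,0,0], [1,3,3,3,3,4,0,0], [3,3,3,3,2,2,0], [4,3,3,1,0], [2,3,4,3,1,0,1], 
  [4,0,2,0,0], [3,4,0,2,1,0,2,0], [3,3,2,3,1,0,1], [2,0,0,4,4,0], [], [], [], [2,0,2,1,3,3], 
  [3,3,2,3,3,3], [4,3,3,3,1,0,1], [1,3,3,4,4,3], [0,0,2,3], [1,3,3,2,0,2,3], [], [2,0,4,0,2,3], 
  [3,4,1,3,3], [], [0,2,2,3,4,0,1], [3,4,0,0,0,0,0,1], [3,4,4,0,2,0], [], [2,3,2,0,1,0], [], 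
  [2,3,2,0,0,4,3], [0,2,0,2,3,1], [4,0,0,2,3], [3,4,0,4,4,3], [0,1,3,3,2,0,0], [3,3,4,3], [], 
  [1,0,4,3,3,4,1,0], [2,2,3,3,3], [2,3,3,2,0,0,1], [], [3,3,4,3,3,4,3], [4,3,2,2,1,3], 
  [0,0,2,0,2,2,0,0], [], [0,2,2,0,0,0,0], [0,4,4,1,3,2,1,0], [4,0,4,3], [2,1,3,2,3,1], 
  [3,3,2,2,0,0,1], [2,0,2,2,3,4,0,0], [0,0,0,1,3,4,1,0], [3,2,2,1,0,0], [], [2,1,0,1], [2,0,1,3,4,3], 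
  [], [2,0,0,0,0,0,1], [1,0,2,1,3], [2,2,1,0,4,0], [2,2,0,4,4,0], [2,0,0,2,1,0,1], [], 
  [3,2,3,2,0,0,1], [], [1,3,4,1,3,2,0], [], [0,0,4,3,3], [], [1,0,4,4,1,0,0], [0,2,0], [2,2,1,3], 
  [4,0,2,3,3,3,2,0], [], [4,4,1,3,2,0,1], [4,0,0,2,0,2,0], [], [], [0,1,0], [0,4,4,0,1], 
  [2,3,2,3,1,0], [4,0,1,3,3,1], [], [2,0,0,4,3,3], [3,2,1,0,2,2,0,0,0], [3,2,1,3,3], [0,0,2,2,0], [], 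
  [0,1,3,2,1,3], [4,3,1,0,4,0,2,0], [], [], [], [0,0,0,0], [4,1,0,2,3,3,1], [3,2,3,3,4,3], [], 
  [4,1,3,3,2,1,0], [3,3,3,4,0,0,0], [], [0,0,4,3,4,0,0], [4,3,4,3,4,0,0], [], [], [], [], [], 
  [4,3,3,4,0,1,3], [], [], [], [], [], [], [0,1,3,4,3,2,0,0], [0,2,3,3,4,1,0], [], [], 
  [4,0,2,1,3,2,0], [0,4,0,1,3,2,0,0], [], [], [1,3,2,1,3,2,2,0], [1,0,2,3,2,3], [], [], 
  [0,0,1,3,4,1,0,0], [], [0,0,1,3,2,1,0], [], [], [4,4,1,0,4,4,0], [3,2,0,4,3,3,3], [0,1,0,0], 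
  [2,3,4,0,0,0,1], [1,0,0,0,2,1,0], [3,2,0,4,1,3], [3,4,0,0,4,0,1], [0,2,3,3,2,3], [1,3,3,2,3,3], 
  [4,4,0,2,0,2,0], [0,4,1,3,2,0], [2,3,3,2,2,0,1], [], [2,3,2,1,3,2,3,1], [], [2,0,0,2,0], 
  [2,2,1,3,4,1,0,0], [1,0,2,3,4,1,3], [], [3,4,3,1,0,1], [1,0,1,3,3,1], [1,0,4,0,2,0,1], 
  [4,4,3,1,0,4,0], [], [2,2,0,0,2,0,1], [0,2,3,2,3,3], [0,0,2,2,3,3,1], [], [3,4,1,3,2,3,3], 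
  [0,0,0,2,3,2,0], [2,1,3,4,0,2,3], [2,0,2,0,0,0,0,1], [1,0,4,4,3,3,3], [], [3,2,1,3,2,1,0], 
  [0,0,2,3,1,0], [], [3,3,4,1,0,2,3], [2,3,3,3,3,3], [2,3,4,1,3,2,1,0], [3,2,0,2,0,0], [], [], [], 
  [4,4,0,1,3,2,3], [0,2,0,0,1], [4,1,0,4,0,0], [4,3,2,0,0,0,0], [1,3,2,0,0,0,4,0], [2,0,0,0,4,4,0], 
  [], [2,1,3,3,2,3,1], [], [3,3,3,1,0,4,0], [2,1,3], [3,4,3,2,2,0], [0,4,0,1], [2,0,2,0,0,0], [3,1], 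
  [4,4,0,1,0], [3,3,2,0,4,3,1], [0,0,2,2,0,0,1,0], [0,4,0,1,0,0], [3,4,1,3,4,1,0], [], [], 
  [1,3,2,3,4,3,1,0], [], [0,4,1,3,4,3,1], [], [2,1,0,0,0,0,4,0], [3,2,2,1,0,1], [3,3,2,2,0], 
  [0,0,2,2,3,1,0,1], [], [4,3,2,0,2,3], [4,1,3,3,3,2,0,0], [3,2,3,2,0], [], [3,3,3,3,3,1], 
  [0,2,3,4,1,0], [2,0,4,0,2,0,1,3], [0,0,0,4,0,0,1,3], [3,4,1,3,4,3], [], [3,3,3], [3,4,0], [], 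
  [2,1,0,0,1,0], [0,4,0,2,1,0,2,0], [], [2,3,1,0,1], [1,3,4,3,3], [0,2,3,2,0,1], [], [0,4,0,2,3,1,0], 
  [1,0,4,3,3,1,0], [0,4,3,2,2,3], [0,4,0,1,3,4,3], [4,3,3,4,0,4,3,1], [4,4,0,0], [], [0,4,0,0,2,0,1], 
  [], [], [], [], [], [1,0,0,2,2,0], [4,4,0,4,0], [], [2,2,0,1], [], [4,1,0,2,3,2,3,1], 
  [0,1,3,2,3,4,0], [0,2,2,1,0], [2,0,1,0,0,0,0,0], [2,3,3,3], [4,0,2,0,2,0,0], [1,3,4,3,2,1,3], 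
  [2,3,2,3,2,3], [4,0,2,3,3,3,1], [4,4,0,0,4,3], [], [], [4,0,4,3,2,1,3], [3,4,0,2,1,3], 
  [0,0,0,0,2,3], [2,3,1], [0,2,0,2,0,2,3], [], [3,3,4,3,3,1,0,1], [4,4,3,1,0], [], [], 
  [0,4,4,1,3,2,3], [1,3,3,4,1,0], [], [], [3,3,1,0,2,3,1], [4,0,0,2,2,3,1,0], [2,0,2,3,1,0,1], 
  [0,4,1,3,3], [4,0,4,3,4,4,3], [], [2,2,0,0,2,3], [], [1,0,2,3,2,0,1], [0,2,0,4,1,0,0], 
  [2,1,3,4,1,3,3], [2,0,2,1,3], [], [3,2,3,4,1,3], [1,3,3,3,3,3,3,1], [4,1,3,3,4,4,3], [3,4,4,3,2,3], 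
  [3,4,1,0,2,0], [], [2,0,4,3], [], [4,4,3,2,0], [1,0,2,3,3,1], [0,0,4,4,1,3], [2,0,2,2,1,0], [], 
  [3,3,2,0], [1,0,0,2,2,1,0,0], [2,0,0,4,3,1], [0], [], [], [], [4,3,4,0,2,3], [3,4,0,4,1,3], 
  [0,1,3,3,3,3], [0,0,0,4,0], [0,4,1,0,1,3], [4,3,4,0,0,4,0], [0,0,0,4,3], [1,3,4,1,3,3], 
  [3,4,0,4,4,0,0], [0,4,4,0,0,0,1], [], [3,3,3,3,4,0], [], [0,0,2,0,1,0], [0,4,1,3,2,0,1,0], 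
  [2,3,3,4,0,0], [1,3,2,3,3], [0,4,0,4,4,3], [4,1,0,4,0,4,3], [3,2,1,0,4,3,1,0], [], [], 
  [1,0,0,4,1,0,0], [4,3], [2,0,4,0,1], [4,4,0,0,2,0,0], [1,0,4,3,3,4,3], [], [3,4,4,3,3,3], [], 
  [2,0,0,2,0,0,1], [4,3,4,3,4,1,0], [2,3,3,2,3,3,1], [], [3,4,3,3,2,0], [4,1,0,0,1], [4,3,2,1,3,2,0], 
  [], [2,2,0,2,1,3], [0,4,4,0,0,1,0], [4,1,3,4,3,4,1,0], [], [0,0,4,0,4,0,0], [], [], [], 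
  [4,3,3,4,3], [0,1,3,2,3,2,0], [2,2,3,2,0], [], [4,4,1,3,3,3,3], [3,4,3,4,3,3], [3,3,4,3,1,0,4,0], 
  [], [], [], [2,0,0,4,0,4,0,0], [], [], [2,3,2,2,0], [], [], [4,1,0,0,2,3], [], [2,2,3,2,1,0,1], 
  [2,2,0,4,4,1,0], [], [3,4,3,2,0,1], [3,4,4,3], [0,2,0,2,0,0,1], [], [0,0,4,0,4,3], [4,0,1,3,2,2,0], 
  [0,4,3,3,4,1,0], [3,4,3,3,2,1,0], [1,3,4,4,3,1], [], [0,4,3,1,0,2,0], [], [2,2,0,0,1], [2,0,0,4,0], 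
  [2,3,1,0,2,0], [1,0,0,4,4,0,0], [], [4,4,3,2,2,3,1], [1,0,0,2,1,3], [], [2,2,3,2,3,1], 
  [2,1,0,2,3,3], [2,3,4,1,0,0,2,0], [2,0,0,1,3,3], [0,2,2,1,0,0], [], [4,3,3,3,3,4,0], [], [], [], 
  [], [3,4,4,1,3,2,0,0], [0,0,4,3,3,2,0], [0,0,2,1,0,1], [4,4,0,0,2,0], [4,1,3,3,4,3], 
  [2,0,1,3,4,0,0], [2,1,0,4,3,2,0], [1,3,4,3,1,0,1], [], [4,3,2,0,1,0], [4,3,3,2,0,0,1], [], 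
  [3,4,3,4,3,1], [4,0,2,3,4,0], [1,3,2,2,3,3], [2,0,0,0,0,1,0,0], [0,1,3,2,3], [2,2,1,0,1,3], 
  [1,0,0,4,3,1,0], [1,3,3,3,1,0,1], [2,1,3,4,3,4,1,0], [3,2,2,3,3], [], [], [2,2,1,0,2,1,0], [], 
  [0,2,2,3,2,0,0], [], [3,4,0,0,4,0,0,0], [0,4,0,0,2,1,3], [], [4,3,3,2,1,3], [4,4,3,2,1,3], [], 
  [4,3,2,1,0,0,2,3], [4,3,4,1,0], [2,2,0,0,0], [0,2,3,2,0,0,1], [3,2,0,0,1,0,0], [], [1,3,2,0,0,4,3], 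
  [4,3,3,3,4,3], [0,2,1,0,0,1], [], [], [3,4,4,3,3,3,3], [2,1,3,2,3,4,0], [1,0,4,1,3], [4,3,4,0,0,0], 
  [0,1,3,3,3], [1,0,2,0,4,3], [], [], [0,4,3,1,0], [0,0,2,1,3,4,0,0], [0,0,0,0,4,3,3], [2,2,3,4,3,3], 
  [], [], [], [0,1,3,4,4,0,0], [4,0,2,2,0,4,0], [2,3,2,0,1,3], [4,3,3,4,4,3], [4,4,3,4,0,2,3], [], 
  [0,0,0,2,0], [], [1,3,3,2,0], [0,4,0,0,4,3], [0,0,2,2,1,3], [4,3,3,3,2,0,0], [4,3,4,0,0,4,3], 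
  [0,2,1,0,0,0,4,0], [], [], [2,2,0,1,3,3,1], [], [], [0,4,0,1,3], [2,1,0,0,0,0,0], [0,4,3,2,1,0,0], 
  [], [], [3,2,0,0,2,3], [], [3,2,3,2,3], [], [1,3,4,0,4,3], [], [], [0,2,0,2,0], [3,3,1,0,1,3], 
  [0,2,3,4,4,3], [], [4,0,2,1,0,0], [4,0,0,0,0], [0,0,0,0,4,1,3], [4,4,3,3,4,3], [], [0,1,3,2,2,0], 
  [], [4,0,2,3,4,1,3], [3,1,0,2,0,0], [1,0,4,3], [1,3,3,2,2,0,1], [4,0,2,3,2,3], [], [2,0,4,1,3,2,0], 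
  [4,0,0,0,2,3,1], [1,0,0,0,0], [], [1,0,2,1,0,0], [0,2,3,4,0], [], [2,2,3,4,4,0], [1,3,2,2,0,2,3], 
  [], [3,2,0,2,1,0,0], [1,0,2,1,3,2,0,0], [4,0,1,3,3,2,1,0], [2,3,2,1,0], [4,1,3,4,4,1,0], [], 
  [0,2,2,0,2,3], [0,2,1,3,3], [3,4,0,2,3], [3,2,1,0,2,1,0,1], [2,1,0,0,2,3], [0,4,3,3,4,0], 
  [1,3,3,2,2,0,0], [2,3,2,0,0,0,0], [3,3,4,0,4,0], [], [1,0,0,4,0], [], [3,2,0,1,3,3], 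
  [4,0,0,4,4,0,0], [], [], [3,4,0,0,1], [4,0,4,4,1,0], [4,1,3,2,0,2,3], [4,0,4,1,3,4,3], [], [], [], 
  [], [4,1,0,4,0,1,0], [], [], [4,3,1,0,2,3], [], [], [], [], [], [1,0,2,0,0,0,0,1], [0,0,0,0,0,0], 
  [2,3,4,3,3,1], [4,0,4,4,0,1], [3,1,0,2,1,0], [3,3,2,3,3,1], [], [0,2,3,3,4,3], [0,1,0,0,2,0], 
  [2,0,2,1,0], [], [], [], [], [4,3,3,4,3,1,0], [4,3,4,3,2,3,1], [0,0,4,3,2,0], [], [3,2,0,0,0,0], 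
  [1,3,4,3,2,0], [], [3,4,0,0,0], [4,0,0,0,1,3], [4,3,2,3,4,1,3], [], [], [], [2,3,2,0,2,0,0], [], 
  [], [], [4,1,0,2,3,4,0], [3,3,4,0,1,0], [], [], [], [1,0,1,3,4,0,0], [4,1,3,4,4,3], [], [], 
  [2,3,4,1,0,0], [4,3,2,3,3,3,1], [], [2,2,0,1,0,0], [], [1,3,2,3,3,3,3], [], [2,2,1,0,0,0,0], [], 
  [0,1,3,3,1], [], [], [], [], [], [0,1,0,0,4,0,0,0], [3,3,2,2,3,1], [], [], [], [], [], [], [], [], 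
  [], [], [], [], [3,3,2,2,3], [3,2,1,3,2,3,2,0], [], [], [], [], [], [0,1,3,3], [], [4,4,1,0,0,1,3], 
  [], [1,3,2,3,3,3,3,1], [], [2,2,0,1,0,0,1], [], [4,3,2,3,3,3], [2,1,0,0,4,0,0], [], [], 
  [2,0,1,3,2,1,0], [2,0,0,0,2,3], [], [], [], [3,3,4,1,3], [4,3,3,3,2,0], [], [], [], 
  [4,1,0,0,0,1,3], [], [], [], [2,0,0,0,2,2,0], [4,0,4,0,0,0,0], [3,4,0,0,0,1], [], [1,3,4,3,2,0,1], 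
  [3,2,0,0,0,0,1], [], [0,0,4,3,2,0,1], [4,3,4,3,2,3], [3,3,1,0,2,0], [], [], [], [], [2,0,2,1,0,1], 
  [4,4,0,2,3], [0,2,3,3,4,3,1], [], [3,3,2,3,3], [3,1,0,2,1,0,1], [4,0,4,4,0], [2,3,4,3,3], 
  [0,0,0,0,0,0,1], [1,0,2,0,0,0,0], [], [], [], [], [], [4,3,1,0,2,3,1], [], [], [4,1,0,4,1,3], [], 
  [], [], [], [3,2,1,3,2,0,0], [3,3,3,3,2,0,0], [4,1,3,3,4,4,0], [3,4,0,0], [], [], [2,2,1,0,4,4,0], 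
  [4,3,4,0,2,0], [], [1,0,0,4,0,1], [], [3,3,4,0,4,0,1], [0,0,4,1,3,4,0,0], [2,3,3,3,2,2,0], 
  [0,4,3,3,4,0,1], [2,0,0,2,2,3], [3,2,1,0,2,1,0], [3,4,0,2,3,1], [0,2,1,3,3,1], [0,2,2,0,2,3,1], [], 
  [0,0,0,1,0,0], [2,3,2,1,0,1], [3,3,2,0,4,4,3], [1,3,2,0,1,0,0], [0,4,1,0,2,1,0,0], [], 
  [0,2,0,0,4,1,3], [2,2,1,3,4,4,0], [], [1,3,3,3,2,0], [1,0,2,1,0,0,1], [], [1,0,0,0,0,1], 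
  [4,0,0,0,2,3], [0,4,1,0,1,3,3], [], [4,0,2,3,2,3,1], [1,3,3,2,2,0], [1,0,4,3,1], [3,1,0,2,0,0,1], 
  [3,4,4,0,1,0,0], [], [0,0,0,4,4,0], [], [4,4,3,3,4,3,1], [2,3,2,3,2,1,0], [0,0,1,3], 
  [4,0,2,1,0,0,1], [], [1,3,4,0,2,0], [3,3,1,0,0,1,0], [0,2,0,2,0,1], [], [], [0,2,2,0,4,0], [], 
  [3,2,3,2,3,1], [], [3,2,0,0,2,3,1], [], [], [4,1,3,2,0,0], [4,0,0,2,3,1,0], [0,4,0,0,1,0], [], [], 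
  [2,2,0,1,3,3], [], [], [4,0,4,0,2,0,0], [4,3,4,0,0,4,3,1], [3,2,1,3,3,3], [0,0,2,2,0,1,0], 
  [0,4,0,0,4,3,1], [4,4,3,3], [], [0,0,0,2,0,1], [], [0,1,3,3,1,0,4,0], [4,0,4,1,0,4,0], 
  [2,1,3,4,1,3], [4,1,3,4,0,4,3], [3,4,3,3,4,3,3], [], [], [], [2,2,3,4,3,3,1], [2,1,3,4,0,4,4,0], 
  [2,0,2,2,0,0,0], [0,4,3,1,0,1], [], [], [1,0,2,0,4,3,1], [0,1,3,3,3,1], [4,3,4,0,0,0,1], 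
  [1,0,4,0,1,0], [2,0,0,2,0,0,0], [1,3,3,1,0,2,0,0], [], [], [0,2,1,0,0], [4,3,3,3,4,3,1], 
  [3,3,2,2,0,2,0,0], [], [3,2,0,0,1,0,0,1], [0,2,3,2,0,0], [2,2,0,0,0,1], [4,3,4,1,0,1], 
  [3,4,0,4,4,0,4,0], [], [0,2,0,4,4,0], [4,3,3,2,0,1,0], [], [0,2,3,3,4,3,3], [3,4,3,1,0,0,1,3], [], 
  [2,2,0,1,3,4,1,0], [], [3,2,2,1,0,0,2,0], [], [], [3,2,2,3,3,1], [4,3,3,2,3,1,0], [1,3,3,3,1,0], 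
  [0,4,1,3,2,3,3], [2,2,1,0,0,1,0], [0,1,3,2,3,1], [1,0,4,4,0,2,0,0], [4,0,0,4,0,0], [4,1,3,3,3,2,0], 
  [3,4,3,4,3], [], [4,3,3,2,0,0], [4,3,2,1,3], [], [1,3,4,3,1,0], [0,4,0,2,0,1,3], [0,0,0,4,1,0,0], 
  [4,1,3,3,4,3,1], [4,4,0,0,2,0,1], [0,0,2,1,0], [3,4,4,1,0,2,0], [4,0,0,4,3,2,1,0], [], [], [], [], 
  [0,2,1,3,2,1,0], [], [4,1,0,2,0,1,0], [0,2,3,4,4,0], [3,1,0,0,1,3,3], [4,0,4,0,1,3], [2,2,3,2,3], 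
  [], [1,0,0,2,0,1,0], [4,4,3,2,2,3], [], [4,4,0,4,4,0], [4,1,0,2,3], [2,0,0,4,0,1], [2,2,0,0], [], 
  [0,2,2,1,0,2,3], [], [1,3,4,4,3], [3,4,3,3,2,1,0,1], [0,4,1,3,3,4,1,0], [0,2,0,2,3,3], 
  [1,3,3,2,1,0], [], [0,2,0,2,0,0], [3,4,4,3,1], [3,4,3,2,0], [], [1,3,2,2,3,4,0], [2,2,3,2,1,0], [], 
  [4,0,0,2,2,3], [], [], [2,3,2,2,0,1], [], [], [4,0,2,1,3,3,3], [], [], [], [3,3,3,3,4,0,0], 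
  [3,4,3,4,3,3,1], [4,3,2,0,0,0,0,0], [], [2,2,3,2,0,1], [2,0,4,4,3,3,3], [4,3,3,4,3,1], [], [], [], 
  [0,0,4,1,0,4,0,0], [], [2,3,3,3,4,0,0], [0,4,4,0,1,3], [2,2,0,2,0,1,0], [], [4,3,2,1,3,2,0,1], 
  [4,1,0,0], [3,2,2,1,3,3], [], [2,3,3,2,3,3], [2,1,3,3,3,4,0,0], [2,0,0,2,0,0], [], [3,4,4,3,3,3,1], 
  [], [0,1,3,3,2,1,3], [1,3,4,4,3,1,0], [2,0,4,0], [4,3,1], [3,4,3,2,0,4,3], [], [], [3,2,2,3,2,3,3], 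
  [4,0,1,3,2,1,0], [2,2,1,3,2,0,0], [3,3,3,2,3], [3,1,0,4,0], [0,0,4,3,2,1,0], [0,0,2,1,3], [], 
  [3,3,3,3,4,0,1], [], [0,4,4,0,0,0], [3,3,3,4,4,1,3], [0,4,3,2,2,0], [0,0,0,4,3,1], [3,1,0,0,2,0,0], 
  [0,4,1,0,0,1,0], [0,0,0,4,0,1], [0,1,3,3,3,3,1], [3,4,0,4,0,1,0], [4,3,4,0,2,3,1], [], [], [], 
  [0,1], [2,0,0,4,3], [0,0,2,3,2,1,3], [3,3,2,0,1], [], [2,1,0,4,4,0], [4,3,3,4,4,0], [1,0,2,3,3], 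
  [4,4,3,2,0,1], [], [2,0,4,3,1], [], [4,0,2,3,3,2,0], [2,0,4,4,1,3], [0,4,0,0,0,0,0], 
  [1,3,3,3,3,3,3], [3,2,3,4,0,1,0], [], [2,0,2,0,1,0], [3,2,3,4,4,1,0], [0,4,1,3,4,1,0], 
  [1,0,2,3,2,0], [], [4,3,3,4,1,3], [], [3,1,0,0,0,0,0], [0,2,3,3,2,0], [2,0,2,3,1,0], 
  [3,1,0,0,0,2,1,3], [3,3,1,0,2,3], [], [], [3,3,4,1,0], [2,1,0,0,0,4,4,0], [], [], [4,4,3,1,0,1], 
  [3,3,4,3,3,1,0], [], [1,3,3,4,3,4,0,0], [2,3], [3,4,1,0,4,4,0], [3,4,0,2,0,1,0], [0,1,3,4,0,4,0], 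
  [], [], [4,4,0,0,4,3,1], [4,0,2,3,3,3], [0,1,3,4,1,0], [2,3,2,0,4,4,3], [3,4,1,3,3,3,3], 
  [2,3,3,3,1], [3,1,0,4,3,2,0], [1,0,4,4,0], [0,0,0,2,0,0,0], [4,1,0,2,3,2,3], [], [2,2,0], [], 
  [4,4,0,4,0,1], [4,3,4,0,0], [], [], [], [], [], [0,4,0,0,2,0], [], [4,4,0,0,1], [4,3,3,4,0,4,3], 
  [0,4,0,1,3,4,3,1], [4,1,0,2,0,2,0], [4,0,2,2,0,0,1,0], [2,0,0,2,2,1,3], [], [0,2,3,2,0], 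
  [1,3,4,3,3,1], [2,3,1,0], [], [4,0,2,0,0,4,0], [2,1,0,1,3], [], [3,4,0,1], [3,3,3,1], [], 
  [3,4,1,3,4,3,1], [4,0,0,0,0,2,1,0], [0,0,0,2,3,4,1,0], [1,3,4,1,0,4,0], [3,3,3,3,3], [], 
  [3,2,3,2,0,1], [3,4,0,2,3,1,0], [4,3,2,0,2,3,1], [], [0,0,2,2,3,1,0], [3,3,2,2,0,1], [3,2,2,1,0], 
  [2,2,1,0,2,2,1,3], [], [0,4,1,3,4,3], [], [3,4,4,1,3,2,3], [], [], [3,2,0,4,1,0,0], 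
  [0,4,0,1,0,0,1], [4,1,3,2,3,2,0], [3,3,2,0,4,3], [4,4,1,3], [3], [2,1,0,2,0,0,0], [0,4,0], 
  [3,1,0,4,3,3], [2,0,1,0], [2,2,3,4,0,2,3], [], [2,1,3,3,2,3], [], [2,0,1,3,2,2,0], [4,3,2,0,2,3,3], 
  [2,3,2,1,0,1,3], [4,0,4,0,0], [0,2,0,0], [4,1,0,1,3,2,0,0], [], [], [], [3,2,0,2,0,0,1], 
  [3,4,3,3,4,1,0], [2,3,3,3,3,3,1], [1,0,0,2,2,3,3], [], [0,0,2,3,1,0,1], [2,3,2,2,0,0], [], 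
  [0,0,2,1,0,0,2,0], [2,0,2,0,0,0,0], [2,1,3,4,0,2,3,1], [2,1,3,3,2,3,3], [4,0,0,4,1,0,0], [], 
  [0,0,2,2,3,3], [1,3,4,0,1,0,0], [2,2,0,0,2,0], [], [4,3,3,4,0,0], [1,0,4,0,2,0], [1,0,1,3,3], 
  [3,4,3,1,0], [], [1,3,2,1,0,2,3], [2,2,0,0,4,0,0], [2,0,0,2,0,1], [], [2,3,2,1,3,2,3], [], 
  [2,3,3,2,2,0], [0,4,1,3,2,0,1], [0,1,0,0,0,4,0], [0,1,3,3,2,3], [0,2,3,3,2,3,1], [3,4,0,0,4,0], 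
  [3,3,1,0,0,0,0], [3,3,1,0,2,1,0,0], [2,3,4,0,0,0], [0,1,0,0,1], [1,0,0,4,0,0,2,0], [0,0,4,4,0,0], 
  [], [], [1,3,4,1,0,4,3], [], [1,3,3,4,1,0,0], [], [], [1,0,2,3,2,3,1], [2,2,1,0,2,0,0], [], [], 
  [0,2,2,0,4,0,2,0], [1,3,2,3,3,3], [], [], [0,2,1,3,3,4,1,0], [0,4,4,0,4,3,3], [], [], [], [], [], 
  [], [2,2,3,3,4,1,0], [], [], [], [], [], [3,3,3,3,4,1,3], [0,2,0,0,2,1,3], [], [1,3,3,3,4,0,0,0], 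
  [4,0,0,4,0,4,3], [], [3,2,3,3,4,3,1], [4,1,0,2,3,3], [0,0,0,0,1], [], [], [], [2,0,2,0,2,1,3,3], 
  [0,1,3,2,0,1,0], [], [4,1,3,4,0,0], [3,2,1,3,3,1], [4,4,0,2,0,0,0,0], [2,0,0,4,3,3,1], [], 
  [4,0,1,3,3], [2,3,2,3,1,0,1], [0,4,4,0], [1,3], [], [], [4,4,3,1,0,1,3], [4,4,1,3,2,0], [], 
  [0,2,1,3,3,3,3], [2,2,0,1,0], [0,2,0,1], [0,0,0,2,2,1,0], [], [0,0,4,3,3,1], [], [1,3,4,1,3,2,0,1], 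
  [], [3,2,3,2,0,0], [], [2,0,0,2,1,0], [2,2,0,4,4,0,1], [0,4,1,0,4,3], [1,0,2,0,1,0], [2,0,0,0,0,0], 
  [], [2,0,1,3,4,3,1], [2,1,0], [], [1,0,2,0,2,0], [4,0,2,1,0,2,3], [1,0,0,4,3,3,3], [3,3,2,2,0,0], 
  [2,1,3,2,3], [4,0,4,3,1], [3,4,4,3,2,0,0], [0,4,4,0,0,1,3], [], [1,0,1,3,3,2,0,0], [4,3,2,2,0,1,0], 
  [3,2,0,4,0,1,3], [], [2,3,3,2,0,0], [2,2,3,3,3,1], [0,0,0,2,2,0,0,0], [], [3,3,4,3,1], 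
  [0,1,3,3,2,0,0,1], [3,4,1,0,0,2,0], [4,0,0,2,3,1], [0,2,0,2,3], [3,1,0,0,2,1,0], [], [2,3,2,1,3], 
  [], [4,4,1,3,4,0,0], [3,4,0,0,0,0,0], [0,2,2,3,4,0], [], [3,2,3,3,2,0], [2,0,4,0,2,3,1], [], 
  [4,3,3,2,0,2,0,0], [0,0,2,3,1], [0,4,0,0,2,1,0], [4,3,3,3,1,0], [3,3,2,3,3,3,1], [4,3,3,2,2,0], [], 
  [], [], [2,1,3,2,2,0], [3,3,2,3,1,0], [0,4,0,4,0,4,3], [4,0,2,0,0,1], [2,3,4,3,1,0], [4,3,3,1,0,1], 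
  [3,3,3,3,2,2,0,1], [2,3,3,2,0,4,3], [4,0,0,1,3,3], [0,0,4,4,3,1,0], [3,3,2,0,1,0], [], 
  [2,1,0,0,4,0,0,0], [], [4,3,4,4,3], [1,0,4,4,1,0,4,0], [], [], [3,1,0,4,3,1,0], [3,3,3,4,3,1,0], 
  [4,3,2,0,2,1,3], [0,2,3,1,0,0,0,0], [4,0,4,0,2,0], [4,1,0,1], [], [], [], [4,3,3,4,3,4,0,0], 
  [0,0,1,0,0,1,3], [], [], [], [4,3,3,1,0,2,0], [], [], [1,0,2,3,1], [0,0,4,0,4,0], [3,1,0,1], [], 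
  [3,3,2,2,0,1,0], [4,3,3,1], [0,2,3,3,3,3], [3,4,1,0,4,3], [], [2,1,0,2,3], [3,3,4,0,4,3,1], [], 
  [0,1,3,2,3,1,0], [4,0,1,3,2,3], [4,0,4,3,3,3,1], [0,1,3,2,2,3], [3,2,2,3,4,0], [], [2,1,0,4,1,3], 
  [1,3,3,4,3], [3,4,1,3,2,1,0], [0,2,2,0,0,2,0,0], [], [0,4,3,3,3,3,1], [2,0,0,2,3,1,0], [], 
  [1,0,2,1,0,0,2,0], [], [3,3,3,1,0,1], [3,2,3,3,3,3], [], [4,1,0,0,2,0,0], [0,4,4,1,0], 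
  [2,3,2,2,3,1], [4,0,0,0,1,0,0], [0,2,3,3,4,0], [0,1,3,4,0,0], [2,2,0,2,1,0], [2,3,3,4,0,1], 
  [0,2,3,4,4,1,0,1], [2,3,3,3,4,0], [2,1,0,4,4,1,0,0], [4,0,0,2,0,0], [1,3,4,3,4,3,3], [4,3,3,3,3], 
  [0,0,2,0,2,1,3], [0,2,3,2,2,3], [], [4,1,3,2,3,1], [4,1,0,0,4,3], [], [0,2,3,4,1,3], [], 
  [2,3,3,3,3,1], [], [3,3,1,0], [], [1,0,4,0,0,2,3], [], [0,4,1,0,0,0,0], [1,3,2,0,0,2,0,1], [], 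
  [3,2,0,1,3,2,0,0], [2,2,0,4,1,3], [0,4,4,3,2,3], [], [4,3,2,3,2,0], [], [0,4,1,0,2,0], 
  [3,3,4,0,1,0,0], [2,1,3,3,1,0,4,0], [4,0,0,2,2,1,3], [3,4,0,2,0,0], [2,2,3,4,1,3], [], 
  [2,3,3,3,4,3,1], [0,0,2,0,4,3], [4,0,0,2,1,0,1], [], [4,0,4,0,4,0,0], [2,2,3,4,0,1], [4,3,4,3,3,3], 
  [], [], [3,4,0,0,2,3], [1,3,3,2,0,0], [3,3,3,4,3], [3,2,2,3,3,3], [3,2,3,3,2,0,0,1], 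
  [4,1,3,3,2,0,1,0], [], [4,4,1,3,2,1,0], [3,4,0,4,3], [1,0,4,3,3,4,0], [2,0,0,0,4,0], [], [], 
  [0,4,3,4,4,0], [4,1,0,4,3,1], [1,3,3,2,3,2,3], [], [], [0,4,3,3], [2,0], [3,2,2,1,3], [], [], 
  [1,0], [4,4,0,1], [4,0,4,3,2,2,0], [0,0,2,1,3,4,1,0], [3,3,2,1,3,3], [1,3,2,1,3], [], [], [0,0,0], 
  [], [0,2,3,1,0,2,3], [], [], [], [], [], [], [], [1,3,4,3,2,0,0], [2,3,3,4,1,0], [0,2,3,4,0,0,2,0], 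
  [4,0,1,3,2,0,0], [], [], [0,1,3,4,1,0,0], [], [], [2,2,0,2,0,2,3], [1,0,0], [0,4,0,4,1,3], 
  [2,3,3,2,3], [1,3,3,2,3,1], [4,1,3,2,0], [2,3,4,4,3,3,3,1], [3,2,0,0,2,0], [2,0,0,0,2,1,3], 
  [2,3,3,1,0,2,0], [2,2,3,4,1,0], [4,1,3,2,3,4,0], [2,3,2,3,3], [], [2,0,4,4,0,0,1], 
  [4,3,4,3,3,2,1,0], [], [4,0,4,4,1,3], [4,0,2,0,2,3], [0,4,3,4,4,3,1], [3,3,2,0,2,0,0], [], 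
  [2,0,0,1], [1,3,2,3,2,2,0], [2,2,3,3,3,3,3,1], [1,3,4,0,2,3,3], [], [3,2,1,3], [3,2,0,2,0,0,0], 
  [3,4,4,0,1,0], [2,1,0,2,0,4,3,1], [4,0,1,0,0], [], [2,2,0,1,3,2,2,0], [], [0,4,4,1,0,0,1], 
  [3,3,3,2,2,0], [], [0,4,3,3,1,0], [3,3,3,3,3,3,1], [2,3,4,1,0], [0,4,0,2,0,0], [], [3,3,4,0], 
  [4,0,2,1,0,2,0], [3,2,3,1,0,1], [0,2,0,1,0,0], [], [4,3,2,2,3], [4,0,1,3,4,3], [], [], [], [], 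
  [3,1,0,0,2,2,0], [], [0,2,0,2,1,3,3], [1,3,2,3,4,0], [3,2,3,3,3], [1,0,0,4,3,2,1,0], [4,0,4,0,4,0], 
  [3,4,4,0,0,4,3], [1,3,4,0,4,0,1], [0,0,0,2,3], [3,2,3,1], [1,0,2,2,3,4,0,0], [3,4,4,3,1,0], [], [], 
  [1,3,3,2,3,2,2,0], [0,2,0,4,0,2,3], [4,1,3,3], [3,2,2,0,0,2,3], [], [0,2,1,0,4,3,1,0], [], 
  [2,1,0,0,4,0,1], [4,0,0,0,0,0,1], [], [], [4,4,0,2,0], [2,2,1,3,2,3], [], [0,2,3,2,0,1,0], [], [], 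
  [2,0,4,4,1,0], [1,3,3,3,3], [1,0,0,2,1,0,1], [0,0,4,3], [4,4,0,0,0,1], [0,4,0,0,2,3], [], 
  [4,1,3,2,0,1,0], [4,0,4,4,3], [1,0,4,0,2,2,3], [], [3,4,3], [4,3,2,3,1], [1,3,3,2,0,1,0], [], 
  [2,0,2,0,2,0,1,0], [2,0,4,3,2,1,3], [0,2,2,3,3,3], [], [3,2,2,0,2,1,3], [], [], [], [3,4,3,3,4,3], 
  [], [0,4,4,3,3,3], [0,4,3,2,2,1,3], [], [2,3,4,0,2,3,1,0], [], [], [2,0,1,0,0,2,3], 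
  [2,2,3,4,0,4,3], [4,4,3,2,0,0,1], [3,3,4,4,3], [0,4,0,4,3], [2,0,2,3,3,1], [2,1,3,4,3,3], 
  [4,3,1,0,2,0], [3,2,2,0,0,1], [0,2,1,3,2,0], [3,1,0,0,4,4,0,0], [3,1,0,0,2,1,3], [], 
  [2,2,3,3,4,3,1], [2,2,1,0,0], [], [], [], [0,4,3,3,2,0], [0,2,1,0,1], [0,0,4,1,0,0,1], 
  [4,0,2,0,0,1,0], [], [], [0,4,3,4,3,2,0], [1,0,2,2,1,3,3], [1,3,2,3], [1,0,4,0,0,0,1], 
  [0,2,2,1,0,4,0], [], [], [2,2,3,2,0,0], [0,0,2,1,0,4,3], [2,2,3,1,0,1,3], [], [4,3,4,4,3,3,3,1], 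
  [2,3,2,0,0,1], [2,3,2,0,2,3], [1,0,0,0,4,3,3], [], [1,3,2,0,2,0,0], [3,2,1,3,2,3,4,0], [1,0,2,2,0], 
  [], [], [0,0,0,4,3,3], [], [], [1,3,4,4,0,0], [2,0,2,3,4,4,3], [], [0,0,2,0], [4,0,0,4,3], 
  [0,2,2,1,3], [2,0,2,1,0,4,3], [], [], [], [2,3,2,1,3,3], [], [3,3,2,0,0,2,3], [], [], [], 
  [2,3,4,4,3], [], [0,0,1,0], [], [1,3,2,2,0], [3,3,1,0,2,0,0], [1,0,0,0,4,4,0], [4,3,2,3,3], 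
  [4,1,0,1,3,3,1], [], [2,3,4,0], [], [], [0,2,0,0,4,3,3], [2,1,0,2,2,0,0,0], [], [2,1,3,3], 
  [3,3,4,0,2,3], [3,2,1,0,0,2,3], [0,0,0,2,2,0], [0,4,3,4,3,3], [], [2,2,3,3,4,0], [], [4,3,1,0,4,0], 
  [2,2,3,3,3,4,3], [], [], [], [], [], [], [4,0,2,1,0,1,3], [0,0,0,0,0], [3,4,0,4,4,0,1], [], 
  [2,3,3,4,3], [], [], [], [0,4,1,3,3,2,1,0], [2,3,3,2,1,0], [], [3,3,4,0,0,0], [], [], 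
  [1,0,4,0,2,0,0], [], [1,0,4,0,4,0,0], [], [], [], [], [], [], [0,0,2,3,2,2,0], [1,3,2,2,0,0,0], [], 
  [], [], [2,1,0,0,2,1,0], [], [], [], [], [], [], [0,1,0,0,0,1,3], [], [], [1,3,3], [], [], 
  [3,2,2,0,1,0,0,1], [3,4,3,2,3,3,3], [3,2,1,0,0,4,0,0], [1,3,4,3,4,3], [3,2,0,0,0,2,3], [], 
  [2,0,0,4,0,0], [], [], [], [2,3,3,4,4,0], [2,3,2,0,0,2,0], [1,0,4,1,3,2,0,1], [], [0,4,3,2,0,1], 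
  [3,3,3,1,0,2,0], [], [2,1,3,3,3,2,0], [0,4,4,3], [3,3,3,2,3,3], [2,2,1,3,2,0,1], [0,4,0,2,0], [], 
  [], [], [1,3,3,3,3,4,0], [2,3,4,0,4,3], [], [], [1,3,3,3,2,1,0], [0,0,0,1,3,2,1,0], [], 
  [3,4,3,4,0,2,0], [3,1,0,0,4,0,1], [], [1,0,2,3,2,0,1,0], [4,3,3,4,0,1], [2,0,4,3,3,3], 
  [2,2,0,2,3,1], [0,0,1,0,0], [3,2,3,2,1,0,1], [1,0,2,3,1,0], [2,0,0,4,1,3], [2,1,3,4,4,0,0], 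
  [0,1,0,0,0,2,1,0], [2,0,4,1,3], [4,3,1,0,0,4,0], [], [4,0,0,4,0,1], [1,3,2,3,2,1,0], [], 
  [1,0,4,3,4,1,0], [0,0,0,4,0,1,0], [4,3,4,0,1,3], [4,4,0,0,4,0,0], [2,0,2,0,1], [2,2,0,4,0], 
  [3,3,2,3,2,3,1], [], [], [0,2,1,0,2,0], [4,0,0,1,0], [2,2,1,0,1,3,3], [], [4,3,3,3,4,0], 
  [0,0,4,3,3,3,1], [2,3,4,0,0], [], [1,3,3,1,0,4,0], [4,0,2,2,0,2,0], [1,3,4,0,2,3,1], [], 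
  [3,2,2,3,4,3,3,1], [0,0,1,3,2,0], [4,3,1,0,1], [4,3,3,2,3,3,1], [1,3,3,3,1], [3,1,0,4,0,1,0], [], 
  [2,1,0,0], [4,1,0,0,1,3], [], [3,2,2,0,0,0,1], [3,4,3,4,1,0,1], [2,0,4,4,0], [], [2,3,3,4,3,3], [], 
  [0,0,0,2,2,3,3,1], [], [4,0,2,1,0,1], [4,1,3,2,3,3], [0,2,0,0,1,0], [4,3,2,3,2,0,0,1], 
  [3,3,4,3,4,3], [3,4,3,3,2,0,0], [3,4,3,2,1,3], [4,3,3,3,3,3], [2,2,0,0,4,0,1], [2,2,1,3,4,1,0], 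
  [2,3,3,2,3,2,2,0], [], [], [2,1,3,2,1,0], [2,3,4,4,0], [4,4,0,4,1,3], [3,2,2,3,2,3], [4,3,4,3,1,0], 
  [], [3,4,1,0,2,3], [], [], [1,0,4,4,1,3], [4,1,3,3,4,1,0], [], [2,0,2,0,0], [], [4,0,2,3,3], [], 
  [], [2,3,1,0,1,3], [], [], [], [2,0,0,2,2,1,0], [0,0,2,0,0,1], [1,3,2,3,2,0,1], [], 
  [0,4,1,0,4,0,0], [2,0,2,0,4,3], [4,4,0,1,3], [4,3,2,0,4,1,3,3], [3,4,1,0,0], [], [3,2,0,0,2,0,0], 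
  [4,4,3,2,1,0,1], [], [1,0,4,4,0,1,0,0], [0,0,1,3,3,4,0], [], [2,0,0,1,3,2,1,0], [3,3,3,3,2,3], 
  [3,3,1,0,4,0], [0,2,1,3], [], [1,0,0,2,2,0,4,0], [4,3,2,2,0], [4,1,0,0,1,0], [0,0,4,0,1], 
  [2,2,0,2,3,3], [], [1], [3,2,0,0,4,3], [1,0,2,3,4,0], [0,4,4,0,1,0], [3,1,0,2,3,3], [3,2,0,4,3,1], 
  [1,0,0,4,0,1,0], [4,0,0,4,1,3], [4,4,1,0,4,0,1,0], [4,3,4,4,1,0], [4,1,3,4,1,0], [3,1,0,2,3,2,0], 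
  [], [3,3,1,0,0,0,0,0], [4,0,4,3,2,0], [], [3,3,3,4,1,0], [4,4,1,3,2,3,1], [], [], [2,0,2,0,2,3,1], 
  [4,3,2,3,4,0], [], [], [2,0,0,0,0,4,0], [2,0,4,4,3,2,1,3], [0,2,3,4,4,0,0], [2,2,1,0,1], [], 
  [3,2,2,0], [3,4,4,0,4,0,1], [], [], [4,0,0,2,0], [3,4,4,0,0,1], [0,4,3,2,0,2,3], [4,3,2,3,3,4,3], 
  [4,0,2,3,1,0,1], [2,3,2,0], [], [3,2,1,0,1,3], [], [3,3,3,3,1], [2,3,4,3,2,2,0], [0,0,2,3,4,1,0], 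
  [], [1,0,2,3,3,3], [3,4,3,2,0,2,3,1], [0,2,2,3,1,0], [2,0,0,0,1,3,2,1,0], [4,1,3,4,3], [], [], 
  [0,4,4,0,2,0,0], [0,2,2,0,1,3], [3,3], [4,0], [4,3,2,1,0,4,0], [2,3,4,1,0,0,1,0], [], 
  [4,0,0,0,0,1,3], [3,4,0,4,0,0], [4,1,3,3,2,3,1,0], [], [], [1,0,2,0,2,0,0,1], [], [0,2,3,1,0,1], 
  [0,2,1,0,0,2,0], [0,1,3,4,3,3], [0,0,2,3,2,0,1], [0,2,2,3,3], [4,1,0,0,4,0], [], [3,1,0,4,0,2,0], 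
  [], [1,0,2,0,2,3], [], [], [4,0,4,3,3], [1,0,0,0,4,0], [3,3,4,0,0,4,0], [2,1,0,2,3,3,2,0], 
  [3,2,3,4,0,0,0], [0,4,4,0,0], [], [1,0,4,0,4,3], [], [0,0,4,0,0,2,0,1], [0,4,3,2,0,1,0,0], [], [], 
  [], [], [], [], [0,4,0,0,4,0,0,0], [], [], [4,4,0,2,3,3,1], [2,0,0,2,1,3], [2,2,0,0,0,0,0], 
  [2,1,0,0,2,0,0], [0,4,4,0,4,0], [], [0,2,3,4,3,4,3,1], [], [0,2,2,0,1], [1,0,4,4,0,4,0], [], 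
  [4,1,0,0,4,1,0,0], [], [4,3,4,0,2,1,3], [0,0,4,0,2,3], [2,1,3,3,3,3], [0,0,2,2,1,0], [], 
  [1,0,4,3,2,0,1], [0,2,3,3,3], [], [1,3,3,4,3,3], [3,2,0,0,0,0,0], [1,3,3,3,3,2,2,0], [3,2,1,0], 
  [2,2,0,0,0,2,3], [2,2,0,4,4,0,0,1], [3,2,1,3,2,3], [4,4,0,0,1,3], [0,2,2,1,0,2,0], [4,0,2,2,0,0,0], 
  [], [0,0,2,2,0,0,0], [], [0,4,1,0,0,0,0,0], [2,0,2,3], [3,3,1,0,0,2,1,0], [4,0,2,1,3], 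
  [0,2,0,0,1,0,0], [], [4,0,2,2,1,0], [4,4,1,0,1,3,3,1], [0,2,3,1], [2,0,2,0,2,0,0], [], [], 
  [3,2,1,3,2,2,0], [4,0,4,0,4,3], [3,4,3,3,1,0,1], [4,4,3,2,0,1,3], [0,4,4,3,1,0], [], 
  [0,2,2,3,4,0,0], [4,4,0,2,1,0], [], [2,2,3,2,0,1,0,0], [2,0,2,3,3,3,1], [3,4,1,0,1], [], [], [], 
  [], [], [3,1,0,2,3,1], [0,4,0,4,0], [1,0,0,0,2,0,1,0], [3,4,3,3,1], [2,3,2,3,3,2,0], 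
  [2,0,4,1,3,4,1,0], [1,3,2,3,1,0], [0,2,1,0,0,0,0], [1,3,2,2,3], [1,0,0,0,0,0,1], [0,1,3,4,3], [], 
  [0,2,2,0,0,2,3], [], [], [], [4,4,1,0], [4,3,3,1,0,4,0], [1,3,4,0,0], [3,2,2,0,2,1,0], 
  [2,3,4,4,1,0,1], [4,4,3,2,3,3], [3,4,3,3,3,3], [0,2,0,2,1,3], [], [], [2,3,4,1,3], [], [], 
  [4,0,0,0,2,2,3], [4,1,0,0,0,0], [4,4,0,2,3,2,1,3], [4,4,3,2,3], [], [4,1,0,2,0], [4,4,3,3,4,0,0], 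
  [4,0,0,0,4,1,3], [], [0,2,0,4,3], [3,4,0,0,2,1,0,1], [4,1,0,2,1,0], [], [], [0,4,4,3,2,0], 
  [1,3,2,1,3,3,1], [0,2,0,4,4,1,0,0], [2,0,4,3,1,0,1], [3,2,0,0,0,4,0], [], [4,3,4,4,0], [], [], 
  [3,2,0], [], [1,3,4,4,0], [1,3,4,0,2,1,3], [1,3,4,3,2,2,0], [], [0,0], [], [], [], [], 
  [4,1,0,1,3,3,3], [2,3,4,0,0,2,0], [], [1,3,4,1,0,0], [4,3,4,0,4,3], [4,0,4,1,3], [3,2,3,3,2,3], 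
  [3,4,1,3,2,0], [0,0,1,3,3,3,3], [0,0,0,0,4,0], [4,3,4,1,3,3], [0,0,4,1,0,1,3], [2,2,3,4,3,2,3], 
  [3,4,0,4,4,1,3], [1,0,0,2,0,0,1], [3,2,0,0,1], [0,0,0,0,4,3], [1,3,4,0,4,4,0], [2,3,2,3,2,0], 
  [4,0,4,4,0,0], [], [], [4,4,1,0,0,1], [], [3,2,3,4,1,0], [], [3,3,3,4,0], [2,0,1,0,0], [], 
  [0,0,0,2,0,1,0], [], [3,3,1,0,0,2,2,0], [], [1,0,2,0,0,0], [1,0,4,0,1], [4,0,4,3,3,4,3], 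
  [3,3,2,3,1], [2,0,2,2,3,1,0], [], [4,1,3,2,0,0,0,0], [2,3,1,0,2,3,2,0], [2,1,0,4,3,1,0], [], [], 
  [], [0,2,1,3,3,3,1], [], [3,2,0,4,4,1,0], [1,0,1,3,3,3], [0,4,3], [], [4,3,2,1,0,1], [], 
  [3,4,3,2,3,1], [4,0,2,0,2,3,3], [2,2,1,0,0,4,0], [], [], [], [], [4,4,3,3,3], [], [], 
  [2,2,1,0,0,2,0,0], [4,1,0,4,0,1], [3,2,0,2,3,3,1], [2,2,3,3,3,3], [2,1,3,2,0], [2,0,4,3,2,0,1], [], 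
  [], [], [4,3,3,2,0], [0,4,1,0,0,1], [], [4,3,4,3,2,0], [0,0,0,4,0,1,3], [], [], [0,2,1,0,4,3], 
  [0,2,2,0,2,1,3], [4,0,2,3,2,0,0], [2,3,4,4,0,1,3], [2,2,1,0,2,0,1,0], [3,1,0,2,2,0], [], [], 
  [4,3,3,3,4,3,3], [], [3,4,0,0,4,3], [], [], [], [], [], [0,4,3,3,4,3], [], [4,3,2,2,1,0], 
  [0,0,1,3,2,3,2,0], [], [3,2,3,4,0], [], [], [0,2,3,2,3], [4,4,3,4,0,0,0,1], [4,3,4,3,3], [], 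
  [3,4,3,1,0,4,0], [], [], [], [2,0,4,1,3,3], [], [], [], [3,2,3,3,2,1,0], [], [], [], [], [], [], 
  [0,2,3,2,2,0], [0,0,0,2,0,2,0], [], [], [], [], [1,0,0,0,1,3], [], [1,0,1,3], [0,2,2,3,2,1,0,1], 
  [4,4,1,0,4,0,1], [1,0,4,1,3,4,3], [3,2,0,0,4,0,0], [], [], [3,2,3,2,0,0,2,0], [4,3,2,0,1], 
  [4,0,2,2,3,1], [4,4,3], [4,3,2,1,0,1,3], [4,0,2,0], [], [0,0,4,0,0,0,0], [], [4,0,0,0,0,2,3], 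
  [4,0,4,3,4,3,3], [2,0,2,1,3,2,0,0], [4,1,3,4,3,1,0], [3,2,2,0,2,3,1], [1,3,3,2,3,2,1,0], 
  [4,3,3,2,1,0], [4,1,0,0,2,1,0], [2,3,4,3,2,3], [], [], [0,0,4,0,1,0], [3,4,3,4,0,1,3], 
  [4,3,2,0,0,1], [], [2,1,0,2,0], [3,4,0,0,1,0], [0,2,0,0,4,0], [0,4,3,3,3,1], [], [0,2,3,1,0,2,0], 
  [2,1,3,2,0,0,0,0], [0,1,3,2,0], [0,4,4,0,1,0,0,1], [], [3,2,1,0,0], [3,3,2,2,0,0,0,1], 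
  [2,3,4,3,2,0], [], [], [0,2,3,3,1], [2,0,0,1,0], [0,2,2,3,2,3,1], [1,3,3,3,2,2,0], [0,2,1,0,2,3,3], 
  [1,0,0,1,3,3,1], [], [4,0,2,3,2,0], [1,3,3,3,3,3,1], [0,0,2,2,1,0,0], [], [], [], [], 
  [3,4,0,2,3,3], [3,2,3,1,0,1,3], [], [], [2,3,2,3,3,3], [], [3,4,4,0,1,3], [3,3,4,1,0,0], [], 
  [4,4,1,3,2,0,0], [0,1,3,3,4,0], [1,3,2,0,2,2,0,0], [2,2,0,2,2,0,0], [], [0,0,0,2,1,0,1], 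
  [3,4,1,0,0,1,0], [], [2,3,3,2,2,3], [0,1,3,2,0,0], [3,3,1,0,2,3,3], [3,4,0,0,4,1,3], 
  [1,0,2,0,2,3,3], [4,4,0,2,0,1,0], [4,3,2,2,3,3,1], [3,4,0,4,3,2,0], [3,3,3,3,4,1,0], [], 
  [0,4,3,2,0,1,0], [], [2,1,0,0,0,2,2,0], [2,3,4,4,0,0], [], [], [3,4,0,0,2,0], [4,3,4,3,1], 
  [0,4,0,2,3,4,0], [], [3,3,2,1,0,1,3], [0,4,4,0,0,0,0], [], [3,1,0,2,3,3,3], [2,2,3,1,0], [], 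
  [4,4,0,2,0,0], [2,2,0,1,3], [0,1,3,2,3,2,0,0], [0,1,0,0,4,3,1,0], [2,1,3,3,3,4,0], [], 
  [4,3,3,4,0,1,3,3], [], [2,1,0,0,2,0], [2,2,3,3], [1,0,0,4,3], [], [], [], [3,1,0,0,0,4,0], 
  [2,2,0,4,4,3], [], [1,3,2,1,0,1], [4,3,2,0,1,0,0], [], [], [], [4,0,0,4,0,0,0], [4,0,2,1,3,3], 
  [3,2,2,0,0,0,0,0], [4,0,2,3,2,1,3], [2,3,4,3,4,3,1], [], [2,2,1,3,2,1,0], [], [0,4,0,2,3], 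
  [0,4,4,3,2,1,3], [], [], [1,0,1,3,4,3,3], [3,3,2,1,0], [4,1,3,4,3,2,3], [0,4,3,4,1,0], 
  [2,2,1,0,2,0], [0,2,2,0,0,0], [4,1,0,0,0,0,0], [3,2,0,2,3], [2,0,0,1,0,0], [], [4,4,0,1,3,3,1], [], 
  [3,3,2,1,3,2,2,0], [0,0,2,0,0,0,0], [2,3,2,2,1,0,2,0], [2,2,3,4,0,0], [1,0,4,4,0,0,0], 
  [0,0,2,1,0,0,1], [], [], [], [4,0,4,0], [3,3,4,3,3,1], [4,4,3,3,3,3], [2,1,0,0,0,0], [1,0,2,2,1,3], 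
  [1,3,4,3], [], [], [3,4,4,1,0], [1,0,4,1,0,0], [2,2,3,4,1,0,0], [4,4,1,0,0,4,0], [], [], [], 
  [0,0,4,0,0,0], [], [0,0,4,3,1,0], [0,2,0,1,3,3], [1,0,2,3,1,0,0,0,0], [3,4,1,0,2,1,0], [], 
  [2,0,4,4,1,0,0], [0,2,2,3,4,3,3], [], [], [], [1,0,4,4,1,0], [], [], [], [4,3,3,4,3,3,1], 
  [2,3,2,0,0,4,0,0], [1,0,4,0,0], [2,3,2,1,0,2,3], [2,1,0,2,0,0], [0,2,3,2,0,1,3], [1,0,2,3,2,0,0], 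
  [2,0,1,3,3,3], [3,3,2,0,0,1], [3,2,3,2,3,2,0], [], [], [0,0,0,0,2,0], [], [3,2,0,1,0,0], [], [], 
  [2,0,0,0,1], [0,0,4,0,0,4,3], [], [0,0,0,2,2,1,3], [], [], [2,1,3,3,3,1], [2,2,0,4,3,3,3], [], [], 
  [4,3,4,0,4,0,1], [], [], [], [], [1,0,2,3,4,1,0], [2,1,0,2,2,1,3], [3,2,1,3,2,0], [], [], [], 
  [0,0,4,0,1,3], [], [2,1,0,4,3], [0,2,1,0,0,0,0,0], [3,3,1,0,2,2,0], [], [], [4,0,1,3,2,1,3], [], 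
  [], [], [2,0,0,2,3], [], [], [2,3,2,3], [], [], [], [3,2,0,4,1,3,3], [], [], [], [], [], 
  [0,0,2,0,2,0], [], [], [3,1,0,1,3], [2,2,0,0,4,3], [0,4,3,4,1,0,1,3], [], [4,3,3,4,0,2,3], 
  [3,4,0,2,2,3,1], [3,4,0,2,0], [0,4,0,0,0,0], [], [4,3,4,1,3,2,0], [2,2,3,2,2,1,3], 
  [1,3,4,4,0,1,0,0], [3,2,3,4,3,2,3], [], [0,4,0,1,0], [0,0,1,3,2,2,0], [3,3,4,0,0,1,0], [4,3,3,3,1], 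
  [], [1,3,2,0], [4,4,0,1,0,0,1], [1,0,2,0,0], [], [2,3,3,1], [1,3,4,1,3], [4,4,1,3,4,4,0], [], 
  [3,4,0,2,3,2,0], [], [], [], [0,1,0,0,2,3], [1,3,2,3,4,1,3], [4,0,2,0,2,0,1], [3,3,3,4,1,0,0], 
  [1,3,3,4,0], [0,2,2,0,2,0,1], [], [], [1,3,2,0,0], [0,0,2,0,2,1,0], [2,3,1,0,2,1,0,0], 
  [0,0,2,3,4,0], [2,1,3,3,4,3], [], [2,2,3,2,1,0,0], [], [3,3,4,0,0,2,0], [], [4,4,0,0,0,0], [], [], 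
  [2,0,2,1,0,0], [1,3,2,3,2,0,0], [], [], [3,2,1,0,0,2,0], [0,2,3,2,1,0], [], [0,4,1,3,4,4,1,0], 
  [1,0,2,0,1], [], [], [3,4,0,2,1,3,3], [0,0,2,2,0,2,3], [0,0,2,1,3,3], [], [4,0,2,3], [], 
  [3,3,3,2,1,0], [2,1,0,2,1,0,1], [3,2,2,1,0,2,0], [3,3,2,0,2,3], [], [0,0,4,3,3,4,0], [0,2,0,0,0,0], 
  [2,3,4,1,0,4,0], [1,0,4,4,0,0], [], [3,4,0,4,0], [3,3,3,4,3,3,1], [3,2,1,0,0,0,0], [], [], 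
  [4,3,2,3,1,0], [], [], [0,4,0,0,0], [2,0,1,3,3], [1,3,3,3,4,3,3], [], [], [], [2,1,0,4,0], [], 
  [4,0,4,3,3,2,0], [4,0,0,1], [3,2,1,0,2,0,0], [3,2,0,1,3,3,3], [3,3,3,2,0,0,1], [], [], 
  [3,3,2,0,1,0,0], [], [], [], [], [], [], [], [], [4,4,1,0,0,2,0], [3,3,2,1,3,2,0], [], [], 
  [4,4,0,0,4,0], [], [2,1,3,4,3,1,0], [], [], [], [], [], [], [], [], [], [], [4,3,4,1,0,1,3], 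
  [1,3,4,3,4,0,0], [3,3,4,0,2,2,3,1], [], [0,0,0,0,0,0,0], [1,0,4,4,3,1,0], [4,0,1,0], 
  [2,1,0,1,3,3,1], [3,4,3,3,3,1], [1,0,2,1,0], [], [3,2,3,3,1], [], [], [], [1,0,0,2,3], 
  [2,3,3,3,2,2,3], [2,2,0,2,0,1], [], [0,2,0,2,1,0], [0,1,3,3,4,0,0], [0,4,4,0,4,0,0], [], [], 
  [2,0,1,3,2,0], [], [], [], [], [3,1,0,2,0,1], [], [1,3,2,0,2,1,0], [], [], [3,3,3,3,2,1,0], 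
  [2,0,0,4,0,0,0], [], [2,0,0,0,0], [], [0,4,3,2,0,1,3], [0,1,3,4,3,2,0], [], [], [4,0,0,0], [], [], 
  [3,2,1,0,4,0], [2,3,4,0,2,3], [2,0,2,3,2,1,3], [], [], [], [], [], [], [2,3,4,1,3,2,0], [], 
  [2,0,0,0,4,3], [], [], [], [], [], [1,0,4,3,3,3,2,0], [4,0,4,3,3,2,0,0], [], [3,4,0,1,0], 
  [3,2,1,0,1,3,3,1], [], [], [], [0,2,2,3,1], [], [1,3,3,4,0,0], [4,4,0,4,0,0], [2,0,4,0,2,0], [], 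
  [], [], [], [], [0,2,3,4,1,0,0], [], [4,3,2,0,1,3], [], [], [], [0,2,2,0,1,0,0], [], [], [], [], 
  [2,3,4,0,4,4,0], [], [], [0,2,2,1,0,0,0,0], [], [4,3,3,2,3,3,3], [], [2,2,3,1], [0,0,1,3,3,1], [], 
  [], [], [], [], [], [], [], [], [], [], [4,3,2,0,2,2,0,0], [3,2,2,3,1], [], [], [], [], [], [], [], 
  [], [], [], [], [], []]

/-- check of the table, entry by entry. -/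
def dodCheck : List (List ℕ) → ℕ → Bool
  | [], _ => true
  | w :: rest, k =>
    (pc (enc k) != 12 ||
      (List.range 24).all (fun i => (enc k).testBit (evalW w i) == d0.testBit i)) &&
    dodCheck rest (k + 1)

theorem dodCheck_sound (T : List (List ℕ)) (k0 : ℕ) (h : dodCheck T k0 = true) (j : ℕ)
    (hj : j < T.length) (h12 : pc (enc (k0 + j)) = 12) (i : ℕ) (hi : i < 24) :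
    (enc (k0 + j)).testBit (evalW (T.getD j []) i) = d0.testBit i := by
  induction T generalizing k0 j with
  | nil => simp at hj
  | cons w rest ih =>
    unfold dodCheck at h
    rw [Bool.and_eq_true] at h
    cases j with
    | zero =>
      have h1 := h.1
      simp only [Nat.add_zero] at h12 ⊢
      simp only [Bool.or_eq_true, bne_iff_ne, ne_eq, h12, not_true_eq_false, false_or,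
        List.all_eq_true, List.mem_range, beq_iff_eq] at h1
      simpa using h1 i hi
    | succ j =>
      have := ih (k0 + 1) h.2 j (by simpa using hj) (by rw [Nat.add_assoc, Nat.add_comm 1 j]; exact h12)
      rw [Nat.add_assoc, Nat.add_comm 1 j] at this
      simpa using this

theorem dodTab_length : dodTab.length = 4096 := by decide +kernel

theorem dodTab_check : dodCheck dodTab 0 = true := by decide +kernel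

/-- every dodecad is the image of `d0` under an element of the generated group. -/
theorem exists_smul_d0_eq {d : Finset GolayPt} (hd : d ∈ dodecads) : ∃ g ∈ H, g • fs d0 = d := by
  obtain ⟨⟨w, hw, rfl⟩, hc⟩ := hd
  obtain ⟨k, hk, e⟩ := exists_enc_of_mem hw
  rw [card_support₂, e] at hc
  rw [support₂_eq_fs, e]
  refine ⟨wordPerm (dodTab.getD k []), wordPerm_mem_H _, ?_⟩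
  apply smul_fs_eq
  intro p
  have := dodCheck_sound dodTab 0 dodTab_check k (by rw [dodTab_length]; exact hk)
    (by rw [Nat.zero_add]; exact hc) (idx p) (idx_lt p)
  rw [Nat.zero_add] at this
  rw [evalW_spec]
  exact this

/-- the group of the code is transitive on dodecads. -/
theorem dodecad_trans {d d' : Finset GolayPt} (hd : d ∈ dodecads) (hd' : d' ∈ dodecads) :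
    ∃ g ∈ M24, g • d = d' := by
  obtain ⟨g, hg, rfl⟩ := exists_smul_d0_eq hd
  obtain ⟨g', hg', rfl⟩ := exists_smul_d0_eq hd'
  refine ⟨g' * g⁻¹, M24.mul_mem (H_le_M24 hg') (M24.inv_mem (H_le_M24 hg)), ?_⟩
  rw [mul_smul, inv_smul_smul]

end Cfsg.Agent.Lib.Helper10
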