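import Mathlib
import Cfsg.Prelude.Def_FusionSystem
import Cfsg.Agent.S5076

set_option autoImplicit false

namespace Cfsg.Agent.Lib.Helper10

open Cfsg Cfsg.FusionSystem

/-- Criterion for simplicity of the fusion system of a finite group on a Sylow subgroup:
no proper nontrivial subgroup closed under fusion, and a self-normalizing Sylow subgroup. -/
theorem groupFusion_isSimple {G : Type*} [Group G] [Finite G] (p : ℕ) [Fact p.Prime] (S : Sylow p G)
    (hS1 : (S : Subgroup G) ≠ ⊥)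
    (hsc : ∀ T : Subgroup G, T ≤ (S : Subgroup G) → T ≠ ⊥ →
      (∀ x ∈ T, ∀ g : G, g * x * g⁻¹ ∈ (S : Subgroup G) → g * x * g⁻¹ ∈ T) → T = (S : Subgroup G))
    (hN : ∀ g : G, (∀ x ∈ (S : Subgroup G), g * x * g⁻¹ ∈ (S : Subgroup G)) → g ∈ (S : Subgroup G)) :
    (groupFusionSystem (S : Subgroup G)).IsSimple p := by
  refine ⟨Cfsg.Agent.S5076.result p S, hS1, ?_⟩
  intro T E hE
  obtain ⟨⟨-, -, hsub, hstrong, -, hfrat⟩, -⟩ := hE
  by_cases hT : T = ⊥
  · exact Or.inl hT
  right
  have hTS : T = (S : Subgroup G) := by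
    refine hsc T hstrong.1 hT ?_
    intro x hx g hg
    have hR : Subgroup.zpowers x ≤ T := by
      rw [Subgroup.zpowers_le]; exact hx
    have hmem : conjHom (Subgroup.zpowers x) g ∈
        (groupFusionSystem (S : Subgroup G)).Hom (Subgroup.zpowers x) := by
      refine ⟨hR.trans hstrong.1, ?_, g, fun y => rfl⟩
      rintro ⟨y, hy⟩
      obtain ⟨n, rfl⟩ := Subgroup.mem_zpowers_iff.mp hy
      show g * x ^ n * g⁻¹ ∈ (S : Subgroup G)
      have : g * x ^ n * g⁻¹ = (g * x * g⁻¹) ^ n := by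
        rw [conj_zpow]
      rw [this]
      exact Subgroup.zpow_mem _ hg n
    exact hstrong.2 _ hR _ hmem ⟨x, Subgroup.mem_zpowers x⟩
  subst hTS
  refine ⟨rfl, fun P => ?_⟩
  apply Set.Subset.antisymm (hsub P)
  intro φ hφ
  have hP : P ≤ (S : Subgroup G) := ((groupFusionSystem (S : Subgroup G)).le_of_mem hφ).1
  obtain ⟨α, hα, φ₀, hφ₀, hx⟩ := hfrat P hP φ hφ
  have hφ₀S : ∀ x : P, φ₀ x ∈ (S : Subgroup G) := (E.le_of_mem hφ₀).2
  -- every automorphism in Aut_F(S) is conjugation by an element of S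
  have key : ∀ α ∈ (groupFusionSystem (S : Subgroup G)).autGroup (S : Subgroup G),
      ∃ s ∈ (S : Subgroup G), ∀ y : (S : Subgroup G), ((α y : (S : Subgroup G)) : G) = s * y * s⁻¹ := by
    intro α hα
    unfold FusionSystem.autGroup at hα
    induction hα using Subgroup.closure_induction with
    | mem β hβ =>
      obtain ⟨-, -, g, hg⟩ := hβ
      refine ⟨g, hN g ?_, fun y => hg y⟩
      intro x hx
      have := hg ⟨x, hx⟩
      have h2 : ((β ⟨x, hx⟩ : (S : Subgroup G)) : G) ∈ (S : Subgroup G) := (β ⟨x, hx⟩).2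
      have h3 : g * x * g⁻¹ = ((β ⟨x, hx⟩ : (S : Subgroup G)) : G) := this.symm
      rw [h3]; exact h2
    | one => exact ⟨1, Subgroup.one_mem _, fun y => by simp⟩
    | mul β γ _ _ hβ hγ =>
      obtain ⟨s, hs, hs'⟩ := hβ
      obtain ⟨t, ht, ht'⟩ := hγ
      refine ⟨s * t, Subgroup.mul_mem _ hs ht, fun y => ?_⟩
      show ((β (γ y) : (S : Subgroup G)) : G) = _
      rw [hs', ht']
      simp only [mul_inv_rev, mul_assoc]
    | inv β _ hβ =>
      obtain ⟨s, hs, hs'⟩ := hβ
      refine ⟨s⁻¹, Subgroup.inv_mem _ hs, fun y => ?_⟩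
      have h1 := hs' (β⁻¹ y)
      have h2 : β (β⁻¹ y) = y := by simp
      rw [h2] at h1
      rw [h1]
      simp only [inv_inv, mul_assoc, inv_mul_cancel_left, inv_mul_cancel, mul_one]
  obtain ⟨s, hs, hs'⟩ := key α hα
  have hcomp := E.comp_mem hφ₀ (E.conj_mem (le_refl _) hs) hφ₀S
  have heq : (conjHom (S : Subgroup G) s).comp (φ₀.codRestrict (S : Subgroup G) hφ₀S) = φ := by
    ext x
    show s * φ₀ x * s⁻¹ = φ x
    rw [hx x (hφ₀S x), hs']
  rw [heq] at hcomp
  exact hcomp

/-- Transport of the criterion from one explicit Sylow subgroup to all of them. -/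
theorem groupFusion_isSimple_of_explicit {G : Type*} [Group G] [Finite G] (p : ℕ) [Fact p.Prime]
    (S0 : Subgroup G) (hcard : Nat.card S0 = p ^ (Nat.card G).factorization p)
    (h1 : S0 ≠ ⊥)
    (hsc : ∀ T : Subgroup G, T ≤ S0 → T ≠ ⊥ →
      (∀ x ∈ T, ∀ g : G, g * x * g⁻¹ ∈ S0 → g * x * g⁻¹ ∈ T) → T = S0)
    (hN : ∀ g : G, (∀ x ∈ S0, g * x * g⁻¹ ∈ S0) → g ∈ S0)
    (S : Sylow p G) : (groupFusionSystem (S : Subgroup G)).IsSimple p := by
  classical
  obtain ⟨g, hg⟩ := MulAction.exists_smul_eq G (Sylow.ofCard S0 hcard) S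
  have hmem : ∀ x : G, x ∈ (S : Subgroup G) ↔ g⁻¹ * x * g ∈ S0 := by
    intro x
    rw [← hg, Sylow.coe_subgroup_smul, Subgroup.mem_pointwise_smul_iff_inv_smul_mem]
    show (MulAut.conj g)⁻¹ x ∈ S0 ↔ _
    rw [← map_inv, MulAut.conj_apply, inv_inv]
  have hmem' : ∀ y : G, y ∈ S0 → g * y * g⁻¹ ∈ (S : Subgroup G) := by
    intro y hy
    rw [hmem]
    simpa [mul_assoc] using hy
  apply groupFusion_isSimple p S
  · obtain ⟨x, hx1⟩ := (Subgroup.ne_bot_iff_exists_ne_one).mp h1
    · intro hbot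
      have := hmem' x.1 x.2
      rw [hbot, Subgroup.mem_bot] at this
      apply hx1
      have h2 : (x : G) = 1 := by
        have h3 : (x : G) = g⁻¹ * (g * x * g⁻¹) * g := by group
        rw [h3, this]; group
      exact Subtype.ext h2
  · intro T hTS hTne hclosed
    set T0 : Subgroup G := T.comap (MulAut.conj g).toMonoidHom with hT0
    have hT0mem : ∀ y : G, y ∈ T0 ↔ g * y * g⁻¹ ∈ T := by
      intro y
      rw [hT0, Subgroup.mem_comap]
      rfl
    have hT0 : T0 = S0 := by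
      apply hsc
      · intro y hy
        have := (hmem _).mp (hTS ((hT0mem y).mp hy))
        have h3 : g⁻¹ * (g * y * g⁻¹) * g = y := by group
        rwa [h3] at this
      · obtain ⟨x, hx1⟩ := (Subgroup.ne_bot_iff_exists_ne_one).mp hTne
        intro hbot
        have hxm : g⁻¹ * (x : G) * g ∈ T0 := by
          rw [hT0mem]
          have h3 : g * (g⁻¹ * (x : G) * g) * g⁻¹ = x := by group
          rw [h3]; exact x.2
        rw [hbot, Subgroup.mem_bot] at hxm
        apply hx1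
        have h2 : (x : G) = 1 := by
          have h3 : (x : G) = g * (g⁻¹ * x * g) * g⁻¹ := by group
          rw [h3, hxm]; group
        exact Subtype.ext h2
      · intro y hy h hh
        rw [hT0mem] at hy ⊢
        have h3 : g * (h * y * h⁻¹) * g⁻¹ = (g * h * g⁻¹) * (g * y * g⁻¹) * (g * h * g⁻¹)⁻¹ := by
          group
        rw [h3]
        apply hclosed _ hy
        rw [← h3]
        exact hmem' _ hh
    apply le_antisymm hTS
    intro x hx
    have h4 := (hmem x).mp hx
    rw [← hT0, hT0mem] at h4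
    have h3 : g * (g⁻¹ * x * g) * g⁻¹ = x := by group
    rwa [h3] at h4
  · intro k hk
    rw [hmem]
    apply hN
    intro y hy
    have h5 := (hmem _).mp (hk _ (hmem' y hy))
    have h3 : g⁻¹ * (k * (g * y * g⁻¹) * k⁻¹) * g = g⁻¹ * k * g * y * (g⁻¹ * k * g)⁻¹ := by group
    rwa [h3] at h5

theorem factorization_of_eq (n p k m : ℕ) (hp : p.Prime) (h : n = p ^ k * m) (hm : ¬ p ∣ m) :
    n.factorization p = k := by
  have hm0 : m ≠ 0 := by
    rintro rfl
    exact hm (dvd_zero p)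
  rw [h, Nat.factorization_mul (pow_ne_zero k hp.ne_zero) hm0]
  simp [hp.factorization_pow, Nat.factorization_eq_zero_of_not_dvd hm]

/-- Version for a subgroup `M` of an ambient group, with all data in the ambient group. -/
theorem groupFusion_isSimple_sub {A : Type*} [Group A] (M : Subgroup A) [Finite M] (p : ℕ)
    [Fact p.Prime] (S0 : Subgroup A) (hle : S0 ≤ M) (k : ℕ) (hk : k ≠ 0)
    (hcardS : Nat.card S0 = p ^ k) (hcardM : (Nat.card M).factorization p = k)
    (hsc : ∀ T : Subgroup A, T ≤ S0 → T ≠ ⊥ →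
      (∀ x ∈ T, ∀ g ∈ M, g * x * g⁻¹ ∈ S0 → g * x * g⁻¹ ∈ T) → T = S0)
    (hN : ∀ g ∈ M, (∀ x ∈ S0, g * x * g⁻¹ ∈ S0) → g ∈ S0)
    (S : Sylow p M) : (groupFusionSystem (S : Subgroup M)).IsSimple p := by
  have hcard' : Nat.card (S0.subgroupOf M) = p ^ k := by
    rw [← hcardS]
    exact Nat.card_congr (Subgroup.subgroupOfEquivOfLe hle).toEquiv
  apply groupFusion_isSimple_of_explicit p (S0.subgroupOf M)
  · rw [hcard', hcardM]
  · intro hbot
    rw [hbot, Subgroup.card_bot] at hcard'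
    have hp : 1 < p := (Fact.out : p.Prime).one_lt
    have : 1 < p ^ k := Nat.one_lt_pow hk hp
    omega
  · intro T hTS hTne hclosed
    have hT' : T.map M.subtype = S0 := by
      apply hsc
      · rintro _ ⟨t, ht, rfl⟩
        exact Subgroup.mem_subgroupOf.mp (hTS ht)
      · intro h
        apply hTne
        exact (Subgroup.map_eq_bot_iff_of_injective T M.subtype_injective).mp h
      · rintro _ ⟨t, ht, rfl⟩ g hg hmem
        refine ⟨⟨g, hg⟩ * t * ⟨g, hg⟩⁻¹, ?_, rfl⟩
        apply hclosed t ht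
        rw [Subgroup.mem_subgroupOf]
        exact hmem
    apply le_antisymm hTS
    intro y hy
    have : (y : A) ∈ T.map M.subtype := by
      rw [hT']; exact Subgroup.mem_subgroupOf.mp hy
    obtain ⟨t, ht, hty⟩ := this
    have : t = y := Subtype.ext hty
    rwa [← this]
  · intro g hg
    rw [Subgroup.mem_subgroupOf]
    apply hN _ g.2
    intro x hx
    have := hg ⟨x, hle hx⟩ (Subgroup.mem_subgroupOf.mpr hx)
    exact Subgroup.mem_subgroupOf.mp this

end Cfsg.Agent.Lib.Helper10
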