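import Mathlib
import Cfsg.Prelude.Def_Solvable
import Cfsg.Agent.Lib.Helper72.G42Defs
import Cfsg.Agent.S0678

/-!
# K-G42 pack (S2553), leaf 255308 L7 `case7` (helper10)

`|Δ| = 7`: `K` fixes the point outside `Δ`, acts faithfully and transitively on `Δ` by even permutations and is
not solvable; S0678 gives `K ≅ A_7` or `K` simple of order 168.
-/

set_option autoImplicit false

namespace Cfsg.Agent.Lib.Helper10.G42

open Cfsg.Agent.Lib.Helper72.G42

/-- `K` preserves `Δ` (both directions). -/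
theorem g42l7_mem_iff {K N : Subgroup (Equiv.Perm (Fin 8))} {Δ : Finset (Fin 8)} (h : Cfg K N Δ)
    (k : Equiv.Perm (Fin 8)) (hk : k ∈ K) (x : Fin 8) : k x ∈ Δ ↔ x ∈ Δ := by
  -- forward-preservation for any element of K
  have key : ∀ k ∈ K, ∀ x ∈ Δ, k x ∈ Δ := by
    intro k hk x hx
    by_contra hkx
    -- all of N fixes x
    have hall : ∀ n ∈ N, n x = x := by
      intro n hn
      have h1 : k⁻¹ * n * k⁻¹⁻¹ ∈ N := h.hnorm k⁻¹ (K.inv_mem hk) n hn
      -- n = k * (k⁻¹ n k) * k⁻¹; use the conjugate k * m * k⁻¹ instead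
      have h2 : k * (k⁻¹ * n * k⁻¹⁻¹) * k⁻¹ = n := by group
      -- work with m := k⁻¹ * n * k : fixes x since n fixes k x
      have h3 : n (k x) = k x := h.hfix n hn (k x) hkx
      -- so (k⁻¹ n k) x = x ; every element of N is of this form
      -- we show directly: for m ∈ N, m x = x, using n := k m k⁻¹ ∈ N
      have h4 : k * n * k⁻¹ ∈ N := h.hnorm k hk n hn
      -- apply to the element k⁻¹ * n * k
      have h5 : (k⁻¹ * n * k⁻¹⁻¹) ∈ N := h1
      -- n = k⁻¹⁻¹ ... we need: n x = x. Write n = k⁻¹ * (k n k⁻¹) * k and use hfix on k n k⁻¹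
      have h6 : (k * n * k⁻¹) (k x) = k x := h.hfix _ h4 (k x) hkx
      have h7 : (k * n * k⁻¹) (k x) = k (n x) := by
        simp [Equiv.Perm.mul_apply]
      rw [h7] at h6
      exact k.injective h6
    -- but N is transitive on Δ with at least 2 points
    have hc : 1 < Δ.card := lt_of_lt_of_le (by norm_num) h.hcard
    obtain ⟨y, hy, hyx⟩ := Finset.exists_mem_ne hc x
    obtain ⟨n, hn, hnxy⟩ := h.htrans x hx y hy
    exact hyx (by rw [← hnxy, hall n hn])
  constructor
  · intro hkx
    have := key k⁻¹ (K.inv_mem hk) (k x) hkx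
    simpa using this
  · exact key k hk x

/-- An element of `K` moves only points of `Δ` when `|Δ| = 7`. -/
theorem g42l7_moved {K N : Subgroup (Equiv.Perm (Fin 8))} {Δ : Finset (Fin 8)} (h : Cfg K N Δ)
    (h7 : Δ.card = 7) (k : Equiv.Perm (Fin 8)) (hk : k ∈ K) (x : Fin 8) (hx : k x ≠ x) : x ∈ Δ := by
  by_contra hxΔ
  have hkx : k x ∉ Δ := fun hh => hxΔ ((g42l7_mem_iff h k hk x).mp hh)
  have hsub : ({x, k x} : Finset (Fin 8)) ⊆ Δᶜ := by
    intro y hy
    rw [Finset.mem_insert, Finset.mem_singleton] at hy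
    rw [Finset.mem_compl]
    rcases hy with rfl | rfl
    · exact hxΔ
    · exact hkx
  have hcard := Finset.card_le_card hsub
  rw [Finset.card_compl, h7, Finset.card_pair (Ne.symm hx)] at hcard
  simp at hcard

theorem case7 {K N : Subgroup (Equiv.Perm (Fin 8))} {Δ : Finset (Fin 8)} (h : Cfg K N Δ) (h7 : Δ.card = 7) :
    Nonempty (↥K ≃* ↥(alternatingGroup (Fin 7))) ∨ (IsSimpleGroup ↥K ∧ Nat.card ↥K = 168) := by
  classical
  -- the restriction homomorphism
  let φ : ↥K →* Equiv.Perm {x // x ∈ Δ} :=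
    { toFun := fun k => (k : Equiv.Perm (Fin 8)).subtypePerm (fun x => g42l7_mem_iff h k k.2 x)
      map_one' := by
        ext x
        simp
      map_mul' := by
        intro a b
        ext x
        rfl }
  have hφapp : ∀ (k : ↥K) (x : {x // x ∈ Δ}), ((φ k) x : Fin 8) = (k : Equiv.Perm (Fin 8)) x := by
    intro k x
    rfl
  have hφinj : Function.Injective φ := by
    rw [injective_iff_map_eq_one]
    intro k hk
    apply Subtype.ext
    ext x
    by_contra hx
    have hxΔ : x ∈ Δ := g42l7_moved h h7 k k.2 x (by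
      intro hh
      apply hx
      simp [hh])
    have := hφapp k ⟨x, hxΔ⟩
    rw [hk] at this
    apply hx
    simp only [Subgroup.coe_one, Equiv.Perm.coe_one, id_eq]
    rw [← this]
    rfl
  -- the image
  set G : Subgroup (Equiv.Perm {x // x ∈ Δ}) := φ.range with hG
  let e : ↥K ≃* ↥G := MonoidHom.ofInjective hφinj
  have hcardα : Fintype.card {x // x ∈ Δ} = 7 := by
    rw [Fintype.card_coe, h7]
  -- transitivity
  have : MulAction.IsPretransitive ↥G {x // x ∈ Δ} := by
    refine ⟨fun a b => ?_⟩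
    obtain ⟨n, hn, hnab⟩ := h.htrans a a.2 b b.2
    refine ⟨⟨φ ⟨n, h.hNK hn⟩, ⟨_, rfl⟩⟩, ?_⟩
    apply Subtype.ext
    exact hnab
  -- non-solvability
  have hKns : ¬ Group.IsSolvable ↥K := by
    intro hs
    have hKK : NormalizedBy K K := fun k hk m hm => K.mul_mem (K.mul_mem hk hm) (K.inv_mem hk)
    have hKbot := h.hsolv K le_rfl hKK hs
    apply h.hN1
    rw [eq_bot_iff, ← hKbot]
    exact h.hNK
  have hGns : ¬ Group.IsSolvable ↥G := by
    intro hs
    exact hKns (Group.isSolvable_of_isSolvable_injective (f := e.toMonoidHom) e.injective)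
  -- evenness
  have hGA : G ≤ alternatingGroup {x // x ∈ Δ} := by
    rintro g ⟨k, rfl⟩
    rw [Equiv.Perm.mem_alternatingGroup]
    have hs := Equiv.Perm.sign_subtypePerm (k : Equiv.Perm (Fin 8)) (p := fun x => x ∈ Δ)
      (fun x => g42l7_mem_iff h k k.2 x) (fun x hx => g42l7_moved h h7 k k.2 x hx)
    have hk1 : Equiv.Perm.sign (k : Equiv.Perm (Fin 8)) = 1 :=
      Equiv.Perm.mem_alternatingGroup.mp (h.hKA k.2)
    change Equiv.Perm.sign ((k : Equiv.Perm (Fin 8)).subtypePerm
      (fun x => g42l7_mem_iff h k k.2 x)) = 1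
    convert hs.trans hk1
  by_cases hA : alternatingGroup {x // x ∈ Δ} ≤ G
  · left
    have hEq : G = alternatingGroup {x // x ∈ Δ} := le_antisymm hGA hA
    have e7 : {x // x ∈ Δ} ≃ Fin 7 := Fintype.equivFinOfCardEq hcardα
    exact ⟨(e.trans (MulEquiv.subgroupCongr hEq)).trans (Equiv.altCongrHom e7)⟩
  · right
    obtain ⟨hc, hsimple⟩ := Cfsg.Agent.S0678.result hcardα G hGns hA
    refine ⟨?_, ?_⟩
    · have := hsimple
      exact e.isSimpleGroup
    · rw [Nat.card_congr e.toEquiv]
      exact hc
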