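import Mathlib
import Cfsg.Prelude.Def_Solvable
import Cfsg.Agent.Lib.Helper01.SZRel

/-!
# K-GAG pack (S4839), leaf 483913 G10 `lift_involution` (helper10)

Schur–Zassenhaus conjugacy lifts the involution of a dihedral section: `u ∉ N`, `u² ∈ N`, `uN` inverts
`xb ≠ 1` of odd order in `G/N`, `N` a normal 2-subgroup on which odd-order elements act fixed-point-freely.
Then there is an involution outside `N`.
-/

set_option autoImplicit false

open scoped Pointwise

namespace Cfsg.Agent.Lib.Helper10.Gag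

variable {G : Type*} [Group G] [Finite G]

omit [Finite G] in
theorem gag10_card_sup_dvd (M N : Subgroup G) [N.Normal] :
    Nat.card ↥(M ⊔ N) ∣ Nat.card M * Nat.card N := by
  have h1 : Nat.card ↥(N.subgroupOf (M ⊔ N)) * (N.subgroupOf (M ⊔ N)).index = Nat.card ↥(M ⊔ N) :=
    Subgroup.card_mul_index _
  have h2 : Nat.card ↥(N.subgroupOf (M ⊔ N)) = Nat.card N :=
    Nat.card_congr (Subgroup.subgroupOfEquivOfLe (le_sup_right : N ≤ M ⊔ N)).toEquiv
  have h3 : (N.subgroupOf (M ⊔ N)).index = N.relIndex M := by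
    change N.relIndex (M ⊔ N) = N.relIndex M
    exact Subgroup.relIndex_sup_right M N
  rw [← h1, h2, h3, mul_comm]
  exact Nat.mul_dvd_mul_right (Subgroup.relIndex_dvd_card N M) _

theorem lift_involution (N : Subgroup G) [N.Normal] (hN2 : IsPGroup 2 N)
    (u : G) (hu : u ∉ N) (hu2 : u * u ∈ N)
    (xb : G ⧸ N) (hxb1 : xb ≠ 1) (hodd : Odd (orderOf xb))
    (hinv : (u : G ⧸ N) * xb * (u : G ⧸ N)⁻¹ = xb⁻¹)
    (hfpf : ∀ y : G, y ≠ 1 → Odd (orderOf y) → ∀ n ∈ N, y * n = n * y → n = 1) :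
    ∃ s : G, s ∉ N ∧ s * s = 1 := by
  classical
  have : Fact (Nat.Prime 2) := ⟨Nat.prime_two⟩
  obtain ⟨x0, rfl⟩ := QuotientGroup.mk_surjective xb
  obtain ⟨j, hj⟩ := hN2.exists_card_eq
  set m := orderOf (x0 : G ⧸ N) with hm
  set x : G := x0 ^ (2 ^ j) with hx
  have hx0m : x0 ^ m ∈ N := by
    rw [← QuotientGroup.eq_one_iff, QuotientGroup.mk_pow]
    exact pow_orderOf_eq_one _
  have hxm : x ^ m = 1 := by
    have h2 : (⟨x0 ^ m, hx0m⟩ : N) ^ (2 ^ j) = 1 := by
      rw [← hj]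
      exact pow_card_eq_one'
    have h3 : (x0 ^ m) ^ (2 ^ j) = 1 := by
      have := congrArg Subtype.val h2
      simpa using this
    rw [hx, ← pow_mul, mul_comm, pow_mul]
    exact h3
  have hxodd : Odd (orderOf x) := Odd.of_dvd_nat hodd (orderOf_dvd_of_pow_eq_one hxm)
  have hxbar : ((x : G) : G ⧸ N) = (x0 : G ⧸ N) ^ (2 ^ j) := by
    rw [hx, QuotientGroup.mk_pow]
  have hxbar1 : ((x : G) : G ⧸ N) ≠ 1 := by
    intro h
    rw [hxbar] at h
    have hdvd : m ∣ 2 ^ j := orderOf_dvd_of_pow_eq_one h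
    have hcop : Nat.Coprime m (2 ^ j) :=
      Nat.Coprime.pow_right j (Nat.coprime_two_right.mpr hodd)
    have h1 : m = 1 := Nat.Coprime.eq_one_of_dvd hcop hdvd
    exact hxb1 (orderOf_eq_one_iff.mp h1)
  have hx1 : x ≠ 1 := by
    intro h
    apply hxbar1
    rw [h]
    rfl
  set X : Subgroup G := Subgroup.zpowers x with hX
  have hxX : x ∈ X := Subgroup.mem_zpowers x
  have hXcard : Nat.card X = orderOf x := Nat.card_zpowers x
  have hXN : ∀ y ∈ X, y ∈ N → y = 1 := by
    intro y hyX hyN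
    have h1 : orderOf y ∣ orderOf x := by
      rw [← hXcard]
      have := orderOf_dvd_natCard (⟨y, hyX⟩ : X)
      rwa [Subgroup.orderOf_mk] at this
    have h2 : orderOf y ∣ 2 ^ j := by
      rw [← hj]
      have := orderOf_dvd_natCard (⟨y, hyN⟩ : N)
      rwa [Subgroup.orderOf_mk] at this
    have hoddy : Odd (orderOf y) := Odd.of_dvd_nat hxodd h1
    have hcop : Nat.Coprime (orderOf y) (2 ^ j) :=
      Nat.Coprime.pow_right j (Nat.coprime_two_right.mpr hoddy)
    exact orderOf_eq_one_iff.mp (Nat.Coprime.eq_one_of_dvd hcop h2)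
  set M : Subgroup G := N ⊔ X with hM
  have hcop : (Nat.card N).Coprime (Nat.card X) := by
    rw [hj, hXcard]
    exact Nat.Coprime.pow_left j (Nat.coprime_two_left.mpr hxodd)
  have hcardM : Nat.card M = Nat.card N * Nat.card X := by
    apply Nat.dvd_antisymm
    · rw [mul_comm, hM, sup_comm]
      exact gag10_card_sup_dvd X N
    · exact Nat.Coprime.mul_dvd_of_dvd_of_dvd hcop (Subgroup.card_dvd_of_le le_sup_left)
        (Subgroup.card_dvd_of_le le_sup_right)
  -- the conjugate of X by u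
  set K : Subgroup G := MulAut.conj u • X with hK
  have hKcard : Nat.card K = Nat.card X :=
    Nat.card_congr (Subgroup.equivSMul (MulAut.conj u) X).symm.toEquiv
  have huxu : u * x * u⁻¹ ∈ M := by
    have h1 : ((u * x * u⁻¹ * x : G) : G ⧸ N) = 1 := by
      have e1 : ((u * x * u⁻¹ * x : G) : G ⧸ N) =
          (u : G ⧸ N) * (x : G ⧸ N) * (u : G ⧸ N)⁻¹ * (x : G ⧸ N) := by
        simp
      rw [e1, hxbar, ← conj_pow, hinv, inv_pow, inv_mul_cancel]
    have h2 : u * x * u⁻¹ * x ∈ N := (QuotientGroup.eq_one_iff _).mp h1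
    have h3 : u * x * u⁻¹ = (u * x * u⁻¹ * x) * x⁻¹ := by group
    rw [h3]
    exact M.mul_mem (Subgroup.mem_sup_left h2) (Subgroup.mem_sup_right (X.inv_mem hxX))
  have hKM : K ≤ M := by
    intro y hy
    rw [hK, Subgroup.mem_smul_pointwise_iff_exists] at hy
    obtain ⟨z, hzX, rfl⟩ := hy
    rw [hX, Subgroup.mem_zpowers_iff] at hzX
    obtain ⟨k, rfl⟩ := hzX
    rw [MulAut.smul_def, MulAut.conj_apply]
    have : u * x ^ k * u⁻¹ = (u * x * u⁻¹) ^ k := by
      rw [conj_zpow]
    rw [this]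
    exact M.zpow_mem huxu k
  have hsolv : Group.IsSolvable N := by
    have := hN2.isNilpotent
    infer_instance
  obtain ⟨g, hgM, hgK⟩ := Cfsg.Agent.Lib.Helper01.sz_conj_in M N X K le_sup_left le_sup_right hKM
    (by
      rw [Subgroup.normalizer_eq_top]
      exact le_top) hcardM hcop hKcard (Or.inl hsolv)
  rw [hM, Subgroup.mem_sup_of_normal_left] at hgM
  obtain ⟨n, hn, x', hx', rfl⟩ := hgM
  have hnK : MulAut.conj n • X = K := by
    rw [← hgK, map_mul, mul_smul, Subgroup.conj_smul_eq_self_of_mem hx']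
  -- s = n⁻¹ u normalizes X
  set s : G := n⁻¹ * u with hs
  have hsX : MulAut.conj s • X = X := by
    rw [hs, map_mul, mul_smul, ← hK, ← hnK, ← mul_smul, ← map_mul, inv_mul_cancel, map_one, one_smul]
  have hsN : s ∉ N := by
    intro h
    apply hu
    have : u = n * s := by rw [hs]; group
    rw [this]
    exact N.mul_mem hn h
  have hssN : s * s ∈ N := by
    rw [← QuotientGroup.eq_one_iff]
    have e1 : ((s * s : G) : G ⧸ N) = (u : G ⧸ N) * (u : G ⧸ N) := by
      have hn1 : ((n : G) : G ⧸ N) = 1 := (QuotientGroup.eq_one_iff n).mpr hn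
      rw [hs]
      simp [hn1]
    rw [e1, ← QuotientGroup.mk_mul]
    exact (QuotientGroup.eq_one_iff _).mpr hu2
  refine ⟨s, hsN, ?_⟩
  -- w = s*s normalizes X and lies in N, so commutes with x
  set w : G := s * s with hw
  have hwx : w * x * w⁻¹ ∈ X := by
    have h1 : MulAut.conj w • X = X := by
      rw [hw, map_mul, mul_smul, hsX, hsX]
    have h2 : MulAut.conj w • x ∈ MulAut.conj w • X := Subgroup.smul_mem_pointwise_smul_iff.mpr hxX
    rw [h1, MulAut.smul_def, MulAut.conj_apply] at h2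
    exact h2
  have hcomm1 : w * x * w⁻¹ * x⁻¹ = 1 := by
    apply hXN
    · exact X.mul_mem hwx (X.inv_mem hxX)
    · have h1 : x * w⁻¹ * x⁻¹ ∈ N := ‹N.Normal›.conj_mem _ (N.inv_mem hssN) x
      have h2 : w * x * w⁻¹ * x⁻¹ = w * (x * w⁻¹ * x⁻¹) := by group
      rw [h2]
      exact N.mul_mem hssN h1
  have hcomm : x * w = w * x := by
    have h1 : w * x * w⁻¹ = x := by
      have := mul_inv_eq_one.mp hcomm1
      exact this
    calc x * w = (w * x * w⁻¹) * w := by rw [h1]
      _ = w * x := by group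
  exact hfpf x hx1 hxodd w hssN hcomm

end Cfsg.Agent.Lib.Helper10.Gag
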