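import Cfsg.Prelude.Def_Sporadic_a

set_option autoImplicit false

namespace Cfsg.Agent.Lib.Helper10

open Cfsg

/-! ### Indexing the 24 points -/

/-- index of a point: residues `0..22`, the extra point is `23`. -/
def idx : GolayPt → ℕ
  | none => 23
  | some x => x.val

/-- the point with a given index. -/
def pt (n : ℕ) : GolayPt := if n = 23 then none else some (Fin.ofNat 23 n)

theorem idx_lt (p : GolayPt) : idx p < 24 := by
  revert p; decide

theorem pt_idx (p : GolayPt) : pt (idx p) = p := by
  revert p; decide

theorem idx_pt_fin : ∀ n : Fin 24, idx (pt n) = n := by decide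

theorem idx_pt {n : ℕ} (h : n < 24) : idx (pt n) = n := idx_pt_fin ⟨n, h⟩

theorem idx_injective : Function.Injective idx := fun p q h => by
  rw [← pt_idx p, ← pt_idx q, h]

/-! ### Words as bit masks -/

/-- the word with a given bit mask. -/
def vec (m : ℕ) : GolayPt → ZMod 2 := fun p => if m.testBit (idx p) then 1 else 0

theorem vec_apply (m : ℕ) (p : GolayPt) : vec m p = if m.testBit (idx p) then 1 else 0 := rfl

theorem vec_zero : vec 0 = 0 := by
  funext p; simp [vec]

theorem vec_xor (a b : ℕ) : vec (a ^^^ b) = vec a + vec b := by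
  funext p
  simp only [vec, Nat.testBit_xor, Pi.add_apply]
  cases a.testBit (idx p) <;> cases b.testBit (idx p) <;> decide

/-- the bit mask of a word. -/
def wmask (w : GolayPt → ZMod 2) : ℕ := Nat.ofBits (fun i : Fin 24 => decide (w (pt i) ≠ 0))

theorem zmod2_cases (a : ZMod 2) : a = 0 ∨ a = 1 := by
  revert a; decide

theorem testBit_wmask (w : GolayPt → ZMod 2) (p : GolayPt) :
    (wmask w).testBit (idx p) = decide (w p ≠ 0) := by
  unfold wmask
  rw [Nat.testBit_ofBits_lt _ _ (idx_lt p)]
  simp only [pt_idx]

theorem vec_wmask (w : GolayPt → ZMod 2) : vec (wmask w) = w := by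
  funext p
  rw [vec_apply, testBit_wmask]
  rcases zmod2_cases (w p) with h | h <;> simp [h]

theorem wmask_lt (w : GolayPt → ZMod 2) : wmask w < 2 ^ 24 := Nat.ofBits_lt_two_pow _

theorem testBit_wmask_nat (w : GolayPt → ZMod 2) (i : ℕ) :
    (wmask w).testBit i = (decide (i < 24) && decide (w (pt i) ≠ 0)) := by
  by_cases h : i < 24
  · have := testBit_wmask w (pt i)
    rw [idx_pt h] at this
    simp [this, h]
  · unfold wmask
    rw [Nat.testBit_ofBits_ge _ _ (not_lt.mp h)]
    simp [h]

theorem wmask_vec {m : ℕ} (hm : m < 2 ^ 24) : wmask (vec m) = m := by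
  apply Nat.eq_of_testBit_eq
  intro i
  rw [testBit_wmask_nat]
  by_cases h : i < 24
  · simp only [h, decide_true, Bool.true_and, vec_apply, idx_pt h]
    cases m.testBit i <;> simp
  · have : m.testBit i = false := by
      apply Nat.testBit_lt_two_pow
      exact lt_of_lt_of_le hm (Nat.pow_le_pow_right (by decide) (not_lt.mp h))
    simp [h, this]

theorem vec_injOn {a b : ℕ} (ha : a < 2 ^ 24) (hb : b < 2 ^ 24) (h : vec a = vec b) : a = b := by
  rw [← wmask_vec ha, ← wmask_vec hb, h]

theorem wmask_add (v w : GolayPt → ZMod 2) : wmask (v + w) = wmask v ^^^ wmask w := by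
  apply Nat.eq_of_testBit_eq
  intro i
  rw [Nat.testBit_xor, testBit_wmask_nat, testBit_wmask_nat, testBit_wmask_nat]
  by_cases h : i < 24
  · simp only [h, decide_true, Bool.true_and, Pi.add_apply]
    rcases zmod2_cases (v (pt i)) with h1 | h1 <;> rcases zmod2_cases (w (pt i)) with h2 | h2 <;>
      (simp [h1, h2]; try decide)
  · simp [h]

theorem wmask_zero : wmask 0 = 0 := by
  apply Nat.eq_of_testBit_eq
  intro i
  rw [testBit_wmask_nat]
  simp

/-! ### The code as a list of masks -/

/-- masks of the 24 generating words: the 23 translates of the squares, and the all-ones word. -/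
def genMask : List ℕ := [340831, 681662, 1363324, 2726648, 5453296, 2517985, 5035970, 1683333,
  3366666, 6733332, 5078057, 1767507, 3535014, 7070028, 5751449, 3114291, 6228582, 4068557,
  8137114, 7885621, 7382635, 6376663, 4364719, 16777215]

/-- a basis of the code in echelon form on the bits `0..11`. -/
def basis : List ℕ := [13062145, 4845570, 13938692, 7221256, 10170384, 11952160, 15515712,
  2019456, 4038912, 8077824, 11654144, 14919680]

/-- how each basis word is a sum of generating words. -/
def basisCombo : List (List ℕ) := [[0, 3, 5, 7, 9, 10, 23], [3, 4, 8], [0, 3, 4, 7, 10, 23],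
  [3, 4, 5, 6, 8, 10], [1, 3, 4, 5, 7, 9, 10, 23], [0, 1, 2, 4, 7, 8, 9, 10, 23],
  [0, 2, 3, 6, 7, 8, 10, 23], [4, 6, 7, 8, 9, 10], [0, 1, 6, 8, 10], [0, 2, 5, 6],
  [0, 1, 5, 6, 9, 10, 23], [0, 2, 5, 9, 10, 23]]

/-- xor of the members of `bs` selected by the bits `i, i+1, ...` of `m`. -/
def xorSel : List ℕ → ℕ → ℕ → ℕ
  | [], _, _ => 0
  | b :: bs, i, m => (if m.testBit i then b else 0) ^^^ xorSel bs (i + 1) m

/-- xor of a list. -/
def xorList : List ℕ → ℕ
  | [] => 0
  | b :: bs => b ^^^ xorList bs

/-- the code word with information bits `k`. -/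
def enc (k : ℕ) : ℕ := xorSel basis 0 k

/-- membership test for masks. -/
def inCode (m : ℕ) : Bool := enc m == m

theorem xorSel_xor (bs : List ℕ) (i a b : ℕ) :
    xorSel bs i (a ^^^ b) = xorSel bs i a ^^^ xorSel bs i b := by
  induction bs generalizing i with
  | nil => simp [xorSel]
  | cons c cs ih =>
    simp only [xorSel, ih, Nat.testBit_xor]
    cases a.testBit i <;> cases b.testBit i <;> simp <;>
      simp [Nat.xor_assoc, Nat.xor_comm, Nat.xor_left_comm]

theorem xorSel_zero (bs : List ℕ) (i : ℕ) : xorSel bs i 0 = 0 := by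
  induction bs generalizing i with
  | nil => simp [xorSel]
  | cons c cs ih => simp [xorSel, ih]

theorem xorSel_mod (bs : List ℕ) (i m : ℕ) :
    xorSel bs i (m % 2 ^ (i + bs.length)) = xorSel bs i m := by
  induction bs generalizing i with
  | nil => simp [xorSel]
  | cons c cs ih =>
    simp only [xorSel, List.length_cons]
    have h1 : (m % 2 ^ (i + (cs.length + 1))).testBit i = m.testBit i := by
      rw [Nat.testBit_mod_two_pow]; simp
    simp only [h1]
    have h2 := ih (i + 1)
    rw [show i + 1 + cs.length = i + (cs.length + 1) by ring] at h2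
    rw [h2]

theorem vec_xorSel_mem (S : Submodule (ZMod 2) (GolayPt → ZMod 2)) (bs : List ℕ)
    (h : ∀ b ∈ bs, vec b ∈ S) (i m : ℕ) : vec (xorSel bs i m) ∈ S := by
  induction bs generalizing i with
  | nil => simp [xorSel, vec_zero]
  | cons c cs ih =>
    simp only [xorSel, vec_xor]
    apply S.add_mem
    · split
      · exact h c (by simp)
      · rw [vec_zero]; exact S.zero_mem
    · exact ih (fun b hb => h b (by simp [hb])) (i + 1)

theorem vec_xorList_mem (S : Submodule (ZMod 2) (GolayPt → ZMod 2)) (bs : List ℕ)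
    (h : ∀ b ∈ bs, vec b ∈ S) : vec (xorList bs) ∈ S := by
  induction bs with
  | nil => simp [xorList, vec_zero]
  | cons c cs ih =>
    simp only [xorList, vec_xor]
    exact S.add_mem (h c (by simp)) (ih (fun b hb => h b (by simp [hb])))

/-- the set of words passing the membership test, as a submodule. -/
def testCode : Submodule (ZMod 2) (GolayPt → ZMod 2) where
  carrier := {w | enc (wmask w) = wmask w}
  add_mem' := by
    intro v w hv hw
    simp only [Set.mem_ofPred_eq, enc] at *
    rw [wmask_add, xorSel_xor, hv, hw]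
  zero_mem' := by
    simp only [Set.mem_ofPred_eq, enc, wmask_zero, xorSel_zero]
  smul_mem' := by
    intro a w hw
    simp only [Set.mem_ofPred_eq] at *
    rcases zmod2_cases a with h | h
    · subst h; simp only [zero_smul, enc, wmask_zero, xorSel_zero]
    · subst h; simpa using hw

theorem mem_testCode (w : GolayPt → ZMod 2) : w ∈ testCode ↔ enc (wmask w) = wmask w := Iff.rfl

theorem qrWord_eq : ∀ t : ZMod 23, ∀ p : GolayPt, qrWord t p = vec (genMask.getD t.val 0) p := by
  decide +kernel

theorem one_eq : ∀ p : GolayPt, (1 : GolayPt → ZMod 2) p = vec 16777215 p := by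
  decide +kernel

theorem genMask_lt : ∀ g ∈ genMask, g < 2 ^ 24 := by decide +kernel

theorem genMask_inCode : ∀ g ∈ genMask, enc g = g := by decide +kernel

theorem basis_lt : ∀ b ∈ basis, b < 2 ^ 24 := by decide +kernel

theorem basis_combo : ∀ j : Fin 12, xorList ((basisCombo.getD j []).map (fun i => genMask.getD i 0)) =
    basis.getD j 0 := by decide +kernel

theorem basisCombo_lt : ∀ l ∈ basisCombo, ∀ i ∈ l, i < 24 := by decide +kernel

theorem vec_genMask_mem {i : ℕ} (hi : i < 24) : vec (genMask.getD i 0) ∈ golayCode := by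
  unfold golayCode
  apply Submodule.subset_span
  by_cases h : i = 23
  · subst h
    right
    simp only [Set.mem_singleton_iff]
    funext p
    exact (one_eq p).symm
  · left
    refine ⟨(i : ZMod 23), ?_⟩
    funext p
    rw [qrWord_eq]
    have : ((i : ℕ) : ZMod 23).val = i := by
      rw [ZMod.val_natCast]
      exact Nat.mod_eq_of_lt (by omega)
    rw [this]

theorem vec_basis_mem : ∀ b ∈ basis, vec b ∈ golayCode := by
  intro b hb
  obtain ⟨j, hj, rfl⟩ := List.getElem_of_mem hb
  have hj' : j < 12 := hj
  have h := basis_combo ⟨j, hj'⟩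
  simp only at h
  rw [List.getD_eq_getElem _ _ hj] at h
  rw [← h]
  apply vec_xorList_mem
  intro g hg
  rw [List.mem_map] at hg
  obtain ⟨i, hi, rfl⟩ := hg
  apply vec_genMask_mem
  apply basisCombo_lt _ _ i hi
  rw [List.getD_eq_getElem _ _ (show j < basisCombo.length from hj')]
  exact List.getElem_mem _

theorem golayCode_eq_testCode : golayCode = testCode := by
  apply le_antisymm
  · unfold golayCode
    rw [Submodule.span_le]
    rintro w (⟨t, rfl⟩ | rfl)
    · have ht : t.val < 24 := lt_trans (ZMod.val_lt t) (by decide)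
      have hmem : genMask.getD t.val 0 ∈ genMask := by
        rw [List.getD_eq_getElem _ _ (show t.val < genMask.length from ht)]
        exact List.getElem_mem _
      have : qrWord t = vec (genMask.getD t.val 0) := funext (qrWord_eq t)
      rw [this]
      show enc (wmask (vec _)) = wmask (vec _)
      rw [wmask_vec (genMask_lt _ hmem)]
      exact genMask_inCode _ hmem
    · have : (1 : GolayPt → ZMod 2) = vec 16777215 := funext one_eq
      show enc (wmask (1 : GolayPt → ZMod 2)) = wmask (1 : GolayPt → ZMod 2)
      rw [this, wmask_vec (by decide)]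
      decide +kernel
  · intro w hw
    rw [mem_testCode] at hw
    rw [← vec_wmask w, ← hw]
    exact vec_xorSel_mem _ _ vec_basis_mem _ _

theorem mem_golayCode_iff (w : GolayPt → ZMod 2) : w ∈ golayCode ↔ enc (wmask w) = wmask w := by
  rw [golayCode_eq_testCode]; rfl

theorem vec_mem_golayCode_iff {m : ℕ} (hm : m < 2 ^ 24) : vec m ∈ golayCode ↔ enc m = m := by
  rw [mem_golayCode_iff, wmask_vec hm]

theorem enc_mod (m : ℕ) : enc (m % 4096) = enc m := xorSel_mod basis 0 m

theorem xorSel_lt (bs : List ℕ) (h : ∀ b ∈ bs, b < 2 ^ 24) (i m : ℕ) : xorSel bs i m < 2 ^ 24 := by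
  induction bs generalizing i with
  | nil => simp [xorSel]
  | cons c cs ih =>
    simp only [xorSel]
    apply Nat.xor_lt_two_pow
    · split
      · exact h c (by simp)
      · exact Nat.two_pow_pos 24
    · exact ih (fun b hb => h b (by simp [hb])) (i + 1)

theorem enc_lt (k : ℕ) : enc k < 2 ^ 24 := xorSel_lt basis basis_lt 0 k

theorem forall_lt_of_all (n : ℕ) (f : ℕ → Bool) (h : (List.range n).all f = true) :
    ∀ k < n, f k = true := by
  intro k hk
  rw [List.all_eq_true] at h
  exact h k (List.mem_range.mpr hk)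

theorem exists_enc_of_mem {w : GolayPt → ZMod 2} (hw : w ∈ golayCode) :
    ∃ k < 4096, wmask w = enc k := by
  refine ⟨wmask w % 4096, Nat.mod_lt _ (by decide), ?_⟩
  rw [enc_mod]
  exact ((mem_golayCode_iff w).mp hw).symm

/-- a property of masks checked on all 4096 code words holds for every word of the code. -/
theorem forall_code (P : ℕ → Prop) (h : ∀ k < 4096, P (enc k)) :
    ∀ w ∈ golayCode, P (wmask w) := by
  intro w hw
  obtain ⟨k, hk, e⟩ := exists_enc_of_mem hw
  rw [e]
  exact h k hk

/-- Boolean version of `forall_code`. -/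
theorem forall_code_bool (f : ℕ → Bool) (h : (List.range 4096).all (fun k => f (enc k)) = true) :
    ∀ w ∈ golayCode, f (wmask w) = true :=
  forall_code (fun m => f m = true) (forall_lt_of_all 4096 _ h)

end Cfsg.Agent.Lib.Helper10
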