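import Mathlib

set_option autoImplicit false

/-! Bit-coded vectors and matrices over `ZMod 2` (for explicit certificates). -/

namespace Cfsg.Agent.Lib.Helper10.H1Codes

/-- the vector with code `c` (bit `e i` is the `i`-th coordinate) -/
def vecC {ι : Type} (e : ι → ℕ) (c : ℕ) : ι → ZMod 2 :=
  fun i => if Nat.testBit c (e i) then 1 else 0

/-- the matrix whose `j`-th column has code `cols[e j]` -/
def matC {ι : Type} (e : ι → ℕ) (cols : List ℕ) : Matrix ι ι (ZMod 2) :=
  fun i j => if Nat.testBit (cols.getD (e j) 0) (e i) then 1 else 0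

/-- the code of a vector -/
def codeOf {ι : Type} [Fintype ι] (e : ι → ℕ) (w : ι → ZMod 2) : ℕ :=
  ∑ i, (w i).val * 2 ^ e i

/-- position function on `Fin m ⊕ Fin m` -/
def ePlus (m : ℕ) : Fin m ⊕ Fin m → ℕ :=
  Sum.elim (fun i => i.val) (fun i => m + i.val)

/-- position function on `(Fin m ⊕ Fin m) ⊕ Fin 2` -/
def eMinus (m : ℕ) : (Fin m ⊕ Fin m) ⊕ Fin 2 → ℕ :=
  Sum.elim (Sum.elim (fun i => i.val) (fun i => m + i.val)) (fun k => 2 * m + k.val)

end Cfsg.Agent.Lib.Helper10.H1Codes
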