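import Cfsg.Agent.Lib.Helper43.Dickson

set_option autoImplicit false

/-! A generation criterion for `Ω(Q)` in characteristic two: `Ω ≤ ⟨x, y⟩` when `y = r_a r_b`,
`x a = b = y a`, and the orbit of `a` under words in `x, y` covers all non-singular vectors. -/

namespace Cfsg.Agent.Lib.Helper10.OmegaGen

open Matrix Cfsg.Agent.Lib.Helper43 Cfsg.Agent.Lib.Helper19

variable {F : Type*} [Field F] {ι : Type} [Fintype ι] [DecidableEq ι]
variable (Q : QuadraticForm F (ι → F))

/-- conjugating a reflection by an isometry -/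
theorem conj_reflO (h : ↥(Cfsg.isometryGroup F ⇑Q)) (u : ι → F) (hu : Q u ≠ 0) :
    h * reflO Q u * h⁻¹ = reflO Q (linOf Q h u) := by
  have hu' : Q (linOf Q h u) ≠ 0 := by rw [linOf_isometry]; exact hu
  rw [mul_inv_eq_iff_eq_mul]
  apply linOf_injective
  rw [linOf_mul, linOf_mul, linOf_reflO Q u hu, linOf_reflO Q _ hu']
  exact conj_reflLin Q (linOf Q h) (linOf_isometry Q h) u

/-- the action of a positive word in two matrices on a vector (`false = X`, `true = Y`) -/
def actWord {R : Type*} [CommRing R] (X Y : Matrix ι ι R) : List Bool → (ι → R) → (ι → R)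
  | [], v => v
  | false :: w, v => X *ᵥ (actWord X Y w v)
  | true :: w, v => Y *ᵥ (actWord X Y w v)

theorem Q_actWord (x y : ↥(Cfsg.isometryGroup F ⇑Q)) (l : List Bool) (v : ι → F) :
    Q (actWord ((x : GL ι F) : Matrix ι ι F) ((y : GL ι F) : Matrix ι ι F) l v) = Q v := by
  induction l with
  | nil => rfl
  | cons c l ih =>
    cases c
    · show Q (((x : GL ι F) : Matrix ι ι F) *ᵥ _) = Q v
      rw [← linOf_apply, linOf_isometry, ih]
    · show Q (((y : GL ι F) : Matrix ι ι F) *ᵥ _) = Q v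
      rw [← linOf_apply, linOf_isometry, ih]

theorem reflO_inv (u : ι → F) (hu : Q u ≠ 0) : (reflO Q u)⁻¹ = reflO Q u :=
  inv_eq_of_mul_eq_one_right (reflO_mul_self Q u hu)

theorem step_mem (K : Subgroup ↥(Cfsg.isometryGroup F ⇑Q)) (h : ↥(Cfsg.isometryGroup F ⇑Q))
    (hK : h ∈ K) (a b w : ι → F) (ha : Q a ≠ 0) (hb : Q b ≠ 0) (hw : Q w ≠ 0)
    (hab : reflO Q a * reflO Q b ∈ K) (hha : linOf Q h a = b)
    (haw : reflO Q a * reflO Q w ∈ K) :
    reflO Q a * reflO Q (linOf Q h w) ∈ K := by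
  have h1 : reflO Q (linOf Q h w) = h * reflO Q w * h⁻¹ := (conj_reflO Q h w hw).symm
  have h2 : reflO Q b = h * reflO Q a * h⁻¹ := by rw [conj_reflO Q h a ha, hha]
  have h3 : reflO Q a * reflO Q (linOf Q h w) =
      (reflO Q a * reflO Q b) * (h * (reflO Q a * reflO Q w) * h⁻¹) := by
    have hbb : reflO Q b * reflO Q b = 1 := reflO_mul_self Q b hb
    calc reflO Q a * reflO Q (linOf Q h w)
        = reflO Q a * (reflO Q b * reflO Q b) * reflO Q (linOf Q h w) := by rw [hbb, mul_one]
      _ = (reflO Q a * reflO Q b) * (reflO Q b * reflO Q (linOf Q h w)) := by group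
      _ = (reflO Q a * reflO Q b) * (h * (reflO Q a * reflO Q w) * h⁻¹) := by
          rw [h1]; nth_rewrite 2 [h2]; group
  rw [h3]
  exact K.mul_mem hab (K.mul_mem (K.mul_mem hK haw) (K.inv_mem hK))

theorem prod_even_mem (S : Subgroup ↥(Cfsg.isometryGroup F ⇑Q))
    (hS : ∀ a b : ι → F, Q a ≠ 0 → Q b ≠ 0 → reflO Q a * reflO Q b ∈ S) :
    ∀ (n : ℕ) (l : List (ι → F)), (∀ u ∈ l, Q u ≠ 0) → l.length = 2 * n →
      (l.map (reflO Q)).prod ∈ S := by
  intro n
  induction n with
  | zero =>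
    intro l _ hlen
    have : l = [] := List.length_eq_zero_iff.1 (by omega)
    subst this
    simp only [List.map_nil, List.prod_nil]
    exact Subgroup.one_mem _
  | succ n ih =>
    intro l hl hlen
    match l, hl, hlen with
    | [], _, hlen => simp at hlen
    | [a], _, hlen => simp at hlen; omega
    | a :: b :: t, hl, hlen =>
      have ha : Q a ≠ 0 := hl a (by simp)
      have hb : Q b ≠ 0 := hl b (by simp)
      have ht : ∀ u ∈ t, Q u ≠ 0 := fun u hu => hl u (by simp [hu])
      have hlen' : t.length = 2 * n := by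
        simp only [List.length_cons] at hlen
        omega
      rw [List.map_cons, List.map_cons, List.prod_cons, List.prod_cons, ← mul_assoc]
      exact Subgroup.mul_mem _ (hS a b ha hb) (ih t ht hlen')

/-- Generation criterion. -/
theorem Omega_le_closure [Fintype F] [CharP F 2]
    (hQ : (QuadraticMap.polarBilin Q).Nondegenerate) (hgen : ReflGenerated Q)
    (x y : ↥(Cfsg.isometryGroup F ⇑Q)) (a b : ι → F) (ha : Q a ≠ 0) (hb : Q b ≠ 0)
    (hy : y = reflO Q a * reflO Q b)
    (hxa : ((x : GL ι F) : Matrix ι ι F) *ᵥ a = b) (hya : ((y : GL ι F) : Matrix ι ι F) *ᵥ a = b)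
    (horb : ∀ w, Q w ≠ 0 → ∃ l : List Bool,
      actWord ((x : GL ι F) : Matrix ι ι F) ((y : GL ι F) : Matrix ι ι F) l a = w) :
    Cfsg.Omega F ⇑Q ≤ Subgroup.closure ({x, y} : Set ↥(Cfsg.isometryGroup F ⇑Q)) := by
  set K := Subgroup.closure ({x, y} : Set ↥(Cfsg.isometryGroup F ⇑Q)) with hK
  have hxK : x ∈ K := Subgroup.subset_closure (by simp)
  have hyK : y ∈ K := Subgroup.subset_closure (by simp)
  have habK : reflO Q a * reflO Q b ∈ K := hy ▸ hyK
  have key : ∀ l : List Bool, reflO Q a * reflO Q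
      (actWord ((x : GL ι F) : Matrix ι ι F) ((y : GL ι F) : Matrix ι ι F) l a) ∈ K := by
    intro l
    induction l with
    | nil =>
      show reflO Q a * reflO Q a ∈ K
      rw [reflO_mul_self Q a ha]
      exact K.one_mem
    | cons c l ih =>
      have hw : Q (actWord ((x : GL ι F) : Matrix ι ι F) ((y : GL ι F) : Matrix ι ι F) l a) ≠ 0 := by
        rw [Q_actWord]; exact ha
      cases c
      · show reflO Q a * reflO Q (((x : GL ι F) : Matrix ι ι F) *ᵥ _) ∈ K
        rw [← linOf_apply]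
        exact step_mem Q K x hxK a b _ ha hb hw habK (by rw [linOf_apply]; exact hxa) ih
      · show reflO Q a * reflO Q (((y : GL ι F) : Matrix ι ι F) *ᵥ _) ∈ K
        rw [← linOf_apply]
        exact step_mem Q K y hyK a b _ ha hb hw habK (by rw [linOf_apply]; exact hya) ih
  have hpair : ∀ u w : ι → F, Q u ≠ 0 → Q w ≠ 0 → reflO Q u * reflO Q w ∈ K := by
    intro u w hu hw
    obtain ⟨lu, rfl⟩ := horb u hu
    obtain ⟨lw, rfl⟩ := horb w hw
    have h1 := key lu
    have h2 := key lw
    have : reflO Q (actWord ((x : GL ι F) : Matrix ι ι F) ((y : GL ι F) : Matrix ι ι F) lu a) *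
        reflO Q (actWord ((x : GL ι F) : Matrix ι ι F) ((y : GL ι F) : Matrix ι ι F) lw a) =
        (reflO Q a * reflO Q (actWord ((x : GL ι F) : Matrix ι ι F) ((y : GL ι F) : Matrix ι ι F) lu a))⁻¹ *
        (reflO Q a * reflO Q (actWord ((x : GL ι F) : Matrix ι ι F) ((y : GL ι F) : Matrix ι ι F) lw a)) := by
      rw [_root_.mul_inv_rev, reflO_inv Q a ha, reflO_inv Q _ hu]
      have haa : reflO Q a * reflO Q a = 1 := reflO_mul_self Q a ha
      calc _ = reflO Q (actWord ((x : GL ι F) : Matrix ι ι F) ((y : GL ι F) : Matrix ι ι F) lu a) *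
            (reflO Q a * reflO Q a) *
            reflO Q (actWord ((x : GL ι F) : Matrix ι ι F) ((y : GL ι F) : Matrix ι ι F) lw a) := by
              rw [haa, mul_one]
        _ = _ := by group
    rw [this]
    exact K.mul_mem (K.inv_mem h1) h2
  intro g hg
  have hk := commutator_le_ker_dickson Q hQ hgen hg
  obtain ⟨l, hl, rfl⟩ := exists_list_reflO Q hgen g
  rw [MonoidHom.mem_ker] at hk
  have h2 : dickson Q hQ hgen ((l.map (reflO Q)).prod) =
      Multiplicative.ofAdd ((l.length : ℕ) : ZMod 2) := dicksonFun_prod Q hQ l hl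
  rw [h2, ← ofAdd_zero, Multiplicative.ofAdd.apply_eq_iff_eq,
    ZMod.natCast_eq_zero_iff_even] at hk
  obtain ⟨k, hk⟩ := hk
  exact prod_even_mem Q K hpair k l hl (by omega)

end Cfsg.Agent.Lib.Helper10.OmegaGen
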