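import Cfsg.Agent.Lib.Helper10.CrossedHom
import Cfsg.Agent.Lib.Helper10.OmegaGen

set_option autoImplicit false

/-! Vanishing of `H¹(Ω(Q), natural module)` in characteristic two from an explicit finite
certificate (generators `x`, `y`, orbit table, relations). -/

namespace Cfsg.Agent.Lib.Helper10.H1Omega

open Matrix Cfsg.Agent.Lib.Helper43 Cfsg.Agent.Lib.Helper19 Cfsg.Agent.Lib.Helper10.H1
  Cfsg.Agent.Lib.Helper10.OmegaGen

variable {F : Type*} [Field F] {ι : Type} [Fintype ι] [DecidableEq ι]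

/-- the matrix of an element of `Ω`, as a monoid homomorphism -/
def matHom (R : (ι → F) → F) : ↥(Cfsg.Omega F R) →* Matrix ι ι F :=
  (Units.coeHom (Matrix ι ι F)).comp
    ((Cfsg.isometryGroup F R).subtype.comp (Cfsg.Omega F R).subtype)

theorem matHom_apply (R : (ι → F) → F) (g : ↥(Cfsg.Omega F R)) :
    matHom R g = (((g : ↥(Cfsg.isometryGroup F R)) : GL ι F) : Matrix ι ι F) := rfl

theorem matHom_injective (R : (ι → F) → F) : Function.Injective (matHom R) := by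
  intro g h hgh
  apply Subtype.ext
  apply Subtype.ext
  apply Units.ext
  exact hgh

theorem h1_vanishes [Fintype F] [CharP F 2] (Q : QuadraticForm F (ι → F))
    (hQ : (QuadraticMap.polarBilin Q).Nondegenerate) (hgen : ReflGenerated Q)
    (us : List (ι → F)) (hus : ∀ u ∈ us, Q u ≠ 0) (n : ℕ) (hlen : us.length = 2 * n)
    (a b : ι → F) (ha : Q a ≠ 0) (hb : Q b ≠ 0)
    (X Y D : Matrix ι ι F)
    (hX : (us.map (Cfsg.reflectionMatrix ⇑Q)).prod = X)
    (hY : Cfsg.reflectionMatrix ⇑Q a * Cfsg.reflectionMatrix ⇑Q b = Y)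
    (hXa : X *ᵥ a = b) (hYa : Y *ᵥ a = b)
    (horb : ∀ w, Q w ≠ 0 → ∃ l : List Bool, actWord X Y l a = w)
    (hD : (X - 1) * D = 1)
    (rels : List (List Bool × List Bool))
    (hrels : ∀ p ∈ rels, wprod X Y p.1 = wprod X Y p.2)
    (hcert : ∀ c : ι → F, (∀ p ∈ rels, cfold X Y c p.1 = cfold X Y c p.2) → c = 0)
    (f : ↥(Cfsg.Omega F ⇑Q) → (ι → F))
    (hf : ∀ g h : ↥(Cfsg.Omega F ⇑Q), f (g * h) =
      f g + (((g : ↥(Cfsg.isometryGroup F ⇑Q)) : GL ι F) : Matrix ι ι F) *ᵥ f h) :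
    ∃ v : ι → F, ∀ g : ↥(Cfsg.Omega F ⇑Q),
      f g = (((g : ↥(Cfsg.isometryGroup F ⇑Q)) : GL ι F) : Matrix ι ι F) *ᵥ v - v := by
  -- the generators
  set x : ↥(Cfsg.isometryGroup F ⇑Q) := (us.map (reflO Q)).prod with hxdef
  set y : ↥(Cfsg.isometryGroup F ⇑Q) := reflO Q a * reflO Q b with hydef
  have hxΩ : x ∈ Cfsg.Omega F ⇑Q := prod_even_mem_commutator Q hQ n us hus hlen
  have hyΩ : y ∈ Cfsg.Omega F ⇑Q := reflO_mul_reflO_mem_commutator Q hQ a b ha hb
  have hxM : ((x : GL ι F) : Matrix ι ι F) = X := by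
    rw [hxdef, val_prod_reflO Q us hus, hX]
  have hyM : ((y : GL ι F) : Matrix ι ι F) = Y := by
    rw [hydef, Subgroup.coe_mul, Units.val_mul, reflO_val Q a ha, reflO_val Q b hb, hY]
  have hle : Cfsg.Omega F ⇑Q ≤ Subgroup.closure ({x, y} : Set ↥(Cfsg.isometryGroup F ⇑Q)) := by
    apply Omega_le_closure Q hQ hgen x y a b ha hb hydef
    · rw [hxM]; exact hXa
    · rw [hyM]; exact hYa
    · rw [hxM, hyM]; exact horb
  set x' : ↥(Cfsg.Omega F ⇑Q) := ⟨x, hxΩ⟩ with hx'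
  set y' : ↥(Cfsg.Omega F ⇑Q) := ⟨y, hyΩ⟩ with hy'
  have hgen' : Subgroup.closure ({x', y'} : Set ↥(Cfsg.Omega F ⇑Q)) = ⊤ := by
    rw [eq_top_iff]
    intro g _
    have hmap : (Subgroup.closure ({x', y'} : Set ↥(Cfsg.Omega F ⇑Q))).map
        (Cfsg.Omega F ⇑Q).subtype =
        Subgroup.closure ({x, y} : Set ↥(Cfsg.isometryGroup F ⇑Q)) := by
      rw [MonoidHom.map_closure, Set.image_pair]
      rfl
    have hg : (g : ↥(Cfsg.isometryGroup F ⇑Q)) ∈
        (Subgroup.closure ({x', y'} : Set ↥(Cfsg.Omega F ⇑Q))).map (Cfsg.Omega F ⇑Q).subtype := by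
      rw [hmap]
      exact hle g.2
    obtain ⟨g', hg', hgg'⟩ := hg
    have : g' = g := Subtype.ext hgg'
    rw [← this]
    exact hg'
  have hMx : matHom ⇑Q x' = X := hxM
  have hMy : matHom ⇑Q y' = Y := hyM
  have hcr : IsCrossed (matHom ⇑Q) f := hf
  have hres := principal_of_cert (M := matHom ⇑Q) hcr x' y' hgen' D (by rw [hMx]; exact hD) rels
    (by
      intro p hp
      apply matHom_injective
      rw [map_wprod, map_wprod, hMx, hMy]
      exact hrels p hp)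
    (by rw [hMx, hMy]; exact hcert)
  exact hres

end Cfsg.Agent.Lib.Helper10.H1Omega
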