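import Cfsg.Agent.Lib.Helper10.H1Omega
import Cfsg.Agent.Lib.Helper10.H1Codes
import Cfsg.Agent.Lib.Helper43.OmegaCount
import Cfsg.Agent.Lib.Helper43.OrthModels

set_option autoImplicit false
set_option maxRecDepth 100000

namespace Cfsg.Agent.Lib.Helper10.H1OmegaP8

open Matrix Cfsg.Agent.Lib.Helper43 Cfsg.Agent.Lib.Helper19 Cfsg.Agent.Lib.Helper10.H1
  Cfsg.Agent.Lib.Helper10.OmegaGen Cfsg.Agent.Lib.Helper10.H1Codes Cfsg.Agent.Lib.Helper10.H1Omega

abbrev I := Fin 4 ⊕ Fin 4
def e : I → ℕ := ePlus 4
def R : (I → ZMod 2) → ZMod 2 := Cfsg.quadFormPlus 4 (ZMod 2)
def us : List (I → ZMod 2) := [vecC e 145, vecC e 84, vecC e 247, vecC e 25, vecC e 239, vecC e 23, vecC e 108, vecC e 139]
def a : I → ZMod 2 := vecC e 29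
def b : I → ZMod 2 := vecC e 91
def X : Matrix I I (ZMod 2) := matC e [37, 231, 36, 234, 176, 110, 93, 67]
def Y : Matrix I I (ZMod 2) := matC e [90, 2, 66, 8, 75, 102, 93, 219]
def D : Matrix I I (ZMod 2) := matC e [140, 131, 5, 61, 244, 4, 155, 20]
def tbl : List (List Bool) := [
  [],
  [],
  [],
  [],
  [],
  [],
  [],
  [],
  [],
  [],
  [],
  [],
  [],
  [],
  [],
  [],
  [],
  [false, true, false, false, false, false, false, false, false],
  [],
  [false, true, true, false, false, false, true, false, false, false],
  [],
  [true, true, false, false, false, false, false],
  [],
  [false, true, false, true, false, false, false],
  [],
  [false, false, false, false, false, true, false, false, false, false, false, false, false, false, false],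
  [],
  [false, false, false, true, false, false, false, false, false, false, false, false, false],
  [],
  [],
  [],
  [false, false, false],
  [],
  [],
  [false, true, false, false, false],
  [true, false, false, false, false, true, true, false, false, false, false, false],
  [],
  [],
  [false, true, true, false, true, true, false, false, false, false, false],
  [false, true, false, false, false, true, false, false],
  [],
  [],
  [false, false, true, false, true, false, false],
  [false, true, false, false, true, false, false, true, false, false],
  [],
  [],
  [false, false, false, true, false, true, false, false, false],
  [false, false, false, false, false, false],
  [],
  [false, false, false, false, true, true, false, false, false],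
  [true, true, false, false, false, false, false, false],
  [],
  [],
  [false, false, true, true, false, true, false, false],
  [false, false, false, true, false, false, false, false, false, false],
  [],
  [],
  [true, false, false, false, false, false, false, false],
  [true, false, false, false, false, true, false, false],
  [],
  [],
  [false, true, true, false, true, false, false],
  [false, true, false, false, false, true, true, false, false, false, false, false],
  [],
  [],
  [],
  [],
  [],
  [true, true, false, false, false],
  [false, false, false, false, false, true, true, false, true, true, false, false, false, false, false],
  [true, false],
  [false, false, false, false, true, false, true, false, false, false],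
  [],
  [],
  [],
  [],
  [false, false, true, true, false, false, false],
  [false, false, false, false, false, true, false, false],
  [true, false, false, false, false, false],
  [false, true, false, false, false, false, false, false, false, false],
  [],
  [true, false, true, false, true, false, false, false],
  [],
  [false, false, false, false, false],
  [false, false, false, false, true, false, true, false, true, false, false, false],
  [],
  [false, false, true, false, true, false, false, false],
  [],
  [],
  [true, false, false, false],
  [],
  [false],
  [false, false, false, false, false, false, true, true, false, true, true, false, false, false, false, false],
  [],
  [false, false, false, false, false, false, false, true, false, false],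
  [],
  [],
  [],
  [false, false, false, false, false, false, false],
  [false, false, false, true, false, true, false, false],
  [true, false, true, false, false, false],
  [false, false, false, false, true, true, false, false, false, false, false],
  [],
  [],
  [],
  [],
  [true, false, false, false, true, true, false, false, false, false, false],
  [false, false, true, false, false, false, false, false, false, false, false, false],
  [true, false, false, true, false, true, false, false],
  [false, false, true, false, false, false, true, false, false, false],
  [],
  [],
  [],
  [false, true, false, false, true, false, false],
  [false, false, true, true, false, false, false, true, false, false, false],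
  [],
  [true, false, false, false, false, false, false],
  [],
  [],
  [false, false, false, true, true, false, false, false, false, false],
  [],
  [false, true, true, false, false, false],
  [false, false, false, true, false, true, true, false, false, false, false, false],
  [],
  [false, false, false, false, true, false, false],
  [],
  [],
  [true, true, false, false, false, false, false, false, false],
  [],
  [],
  [],
  [],
  [],
  [],
  [],
  [],
  [false, false, true, false, false, false, true, false, false],
  [false, false, true, false, false, false],
  [false, false, false, false, false, false, false, false, false],
  [false, true, false, false, false, false, false, false, false, false, false],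
  [false, false, false, true, false, false, false],
  [false, false, false, false, true, false, false, false],
  [true, false, true, false, true, false, true, false, false, false],
  [true, false, false, false, false, false, false, false, false],
  [],
  [true, false, false, false, true, false, false, false],
  [],
  [false, false, false, true, true, false, false, false],
  [],
  [false, false, true, false, false, false, false, false, false, false],
  [],
  [false, false, true, true, false, false, false, true, false, false],
  [false, false, false, false, true, false, false, false, false, false, false, false, false, false],
  [],
  [false, false, false, false, false, false, false, true, true, false, false, false],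
  [],
  [true, true, false, true, false, false],
  [],
  [true, false, false],
  [],
  [],
  [],
  [false, false, false, false, true, true, false, true, false, false],
  [false, false, true, false, false],
  [],
  [],
  [false, false, true, false, false, true, false, false],
  [false, true, false, false, false, false, false, false],
  [false, false, false, false, false, true, false, false, false],
  [true, true, false, false, false, true, false, false],
  [],
  [],
  [true, false, true, true, false, false, false, false, false],
  [false, false, true, true, false, true, true, false, false, false, false, false],
  [],
  [],
  [],
  [false, true, true, false, false, false, false, false],
  [false, false, true, false, true, true, false, false, false, false, false],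
  [],
  [],
  [true, false, false, false, false, false, true, false, false, false],
  [false, false, false, false, false, false, true, false, false],
  [],
  [false, false, true, true, false, false, false, false, false],
  [],
  [],
  [true, true, false, false, true, false, false, true, false, false],
  [false, false, false, false],
  [],
  [],
  [true, false, false, false, false, true, true, false, true, false, false],
  [],
  [],
  [],
  [],
  [false, false, false, false, false, false, false, false, true, false, false],
  [false, false],
  [false, false, false, true, true, false, true, true, false, false, false, false, false],
  [true, false, true, false, false],
  [false, true, false, true, false, true, false, false, false],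
  [true, true, false, false, false, false, false, false, false, false],
  [true, true, false, false, false, true, false, false, false],
  [false, false, true, false, false, false, false, false, false],
  [],
  [],
  [],
  [],
  [],
  [true, false, false, false, false, false, false, false, false, false],
  [],
  [false, true, false, false, false, false, true, false, false],
  [false, false, false, false, false, false, false, false],
  [],
  [false, true, false, false, false, true, false, false, false],
  [],
  [true, true, false, false],
  [],
  [false, true, false, false],
  [],
  [],
  [false, false, false, false, true, true, false, true, true, false, false, false, false, false],
  [],
  [false, false, false, true, true, false, true, false, false],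
  [],
  [],
  [false, true, true, false, false, false, true, false, false],
  [false, true, false, true, true, false, false, false, false, false],
  [false, false, false, true, false, true, false, true, false, false, false],
  [true, false, false, true, false, false],
  [],
  [],
  [false, false, false, false, false, false, true, true, false, false, false],
  [false, true, false, false, true, true, false, false, false, false, false],
  [],
  [],
  [],
  [],
  [false, false, false, true, false, false, true, false, false],
  [false, false, false, true, false, false],
  [],
  [false, false, false, false, true, false, true, false, false],
  [true, false, false, false, true, false, false],
  [],
  [false, false, true, false, true, false, true, false, false, false],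
  [],
  [],
  [true, true, false, true, true, false, false, false, false, false],
  [false, true, false, true, false, false],
  [],
  [],
  [false, false, false, false, false, true, true, false, false, false],
  [],
  [true, false, false, true, false, false, true, false, false],
  [true, false, false, true, true, false, false, false, false, false],
  []
]
def rels : List (List Bool × List Bool) := [([], [true, true, true]), ([true, true], [false, false, true, false, false, true, false, false, true, false, false])]

theorem hus : ∀ u ∈ us, R u ≠ 0 := by decide +kernel
theorem ha : R a ≠ 0 := by decide +kernel
theorem hb : R b ≠ 0 := by decide +kernel
theorem hX : (us.map (Cfsg.reflectionMatrix R)).prod = X := by decide +kernel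
theorem hY : Cfsg.reflectionMatrix R a * Cfsg.reflectionMatrix R b = Y := by decide +kernel
theorem hXa : X *ᵥ a = b := by decide +kernel
theorem hYa : Y *ᵥ a = b := by decide +kernel
theorem horb : ∀ w : I → ZMod 2, R w ≠ 0 → actWord X Y (tbl.getD (codeOf e w) []) a = w := by
  decide +kernel
theorem hD : (X - 1) * D = 1 := by decide +kernel
theorem hrels : ∀ p ∈ rels, wprod X Y p.1 = wprod X Y p.2 := by decide +kernel
theorem hcert : ∀ c : I → ZMod 2, (∀ p ∈ rels, cfold X Y c p.1 = cfold X Y c p.2) → c = 0 := by
  decide +kernel

theorem main (f : ↥(Cfsg.Omega (ZMod 2) R) → (I → ZMod 2))
    (hf : ∀ g h : ↥(Cfsg.Omega (ZMod 2) R), f (g * h) =
      f g + (((g : ↥(Cfsg.isometryGroup (ZMod 2) R)) : GL I (ZMod 2)) : Matrix I I (ZMod 2)) *ᵥ f h) :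
    ∃ v : I → ZMod 2, ∀ g : ↥(Cfsg.Omega (ZMod 2) R),
      f g = (((g : ↥(Cfsg.isometryGroup (ZMod 2) R)) : GL I (ZMod 2)) : Matrix I I (ZMod 2)) *ᵥ v - v :=
  h1_vanishes (qfPlus 4 (ZMod 2)) (qfPlus_nondegenerate 4 (ZMod 2)) (reflGenerated_char_two _ (qfPlus_nondegenerate 4 (ZMod 2)) (Or.inr (by decide)))
    us hus 4 rfl a b ha hb X Y D hX hY hXa hYa
    (fun w hw => ⟨tbl.getD (codeOf e w) [], horb w hw⟩) hD rels hrels hcert f hf

end Cfsg.Agent.Lib.Helper10.H1OmegaP8
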