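import Cfsg.Agent.Lib.Helper10.Octad
import Cfsg.Agent.S0362

set_option autoImplicit false

namespace Cfsg.Agent.Lib.Helper10

open Cfsg
open scoped Pointwise

theorem dot_eq_card_inter (v w : GolayPt → ZMod 2) :
    ∑ i, v i * w i = ((support₂ v ∩ support₂ w).card : ZMod 2) := by
  rw [Finset.card_eq_sum_ones, Nat.cast_sum, ← Finset.sum_filter_add_sum_filter_not Finset.univ
    (fun i => i ∈ support₂ v ∩ support₂ w)]
  have h1 : ∀ i ∈ Finset.univ.filter (fun i => i ∈ support₂ v ∩ support₂ w), v i * w i = 1 := by
    intro i hi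
    simp only [Finset.mem_filter, Finset.mem_univ, true_and, Finset.mem_inter, mem_support₂] at hi
    rcases zmod2_cases (v i) with h | h <;> rcases zmod2_cases (w i) with h' | h' <;> simp_all
  have h2 : ∀ i ∈ Finset.univ.filter (fun i => ¬ i ∈ support₂ v ∩ support₂ w), v i * w i = 0 := by
    intro i hi
    simp only [Finset.mem_filter, Finset.mem_univ, true_and, Finset.mem_inter, mem_support₂] at hi
    rcases zmod2_cases (v i) with h | h <;> rcases zmod2_cases (w i) with h' | h' <;> simp_all
  rw [Finset.sum_congr rfl h1, Finset.sum_congr rfl h2]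
  have h3 : Finset.univ.filter (fun i => i ∈ support₂ v ∩ support₂ w) = support₂ v ∩ support₂ w := by
    ext i; simp
  rw [h3]
  simp

/-- supports of two code words meet evenly. -/
theorem even_card_inter {v w : GolayPt → ZMod 2} (hv : v ∈ golayCode) (hw : w ∈ golayCode) :
    Even (support₂ v ∩ support₂ w).card := by
  have h := Cfsg.Agent.S0362.result v w hv hw
  rw [dot_eq_card_inter] at h
  exact (ZMod.natCast_eq_zero_iff_even).mp h

theorem card_support₂_add (v w : GolayPt → ZMod 2) :
    (support₂ (v + w)).card + 2 * (support₂ v ∩ support₂ w).card =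
      (support₂ v).card + (support₂ w).card := by
  rw [support₂_add, Finset.card_union_of_disjoint]
  · have h1 := Finset.card_sdiff_add_card_inter (support₂ v) (support₂ w)
    have h2 := Finset.card_sdiff_add_card_inter (support₂ w) (support₂ v)
    rw [Finset.inter_comm] at h2
    omega
  · rw [Finset.disjoint_left]
    intro a ha hb
    rw [Finset.mem_sdiff] at ha hb
    exact ha.2 hb.1

/-- an octad and a dodecad meet in 2, 4 or 6 points. -/
theorem card_octad_inter_dodecad {o d : Finset GolayPt} (ho : o ∈ octads) (hd : d ∈ dodecads) :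
    (o ∩ d).card = 2 ∨ (o ∩ d).card = 4 ∨ (o ∩ d).card = 6 := by
  obtain ⟨v, hv, rfl, cv⟩ := (mem_octads_iff o).mp ho
  obtain ⟨⟨w, hw, rfl⟩, cw⟩ := hd
  have heven := even_card_inter hv hw
  have hadd := card_support₂_add v w
  have hmem := weight_mem (v + w) (golayCode.add_mem hv hw)
  simp only [List.mem_cons, List.not_mem_nil, or_false] at hmem
  obtain ⟨k, hk⟩ := heven
  have hle : (support₂ v ∩ support₂ w).card ≤ 8 := by
    rw [← cv]; exact Finset.card_le_card Finset.inter_subset_left
  omega

end Cfsg.Agent.Lib.Helper10
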