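import Mathlib
import Cfsg.Agent.S3444

/-!
# K-J1Spec pack (S3627), leaf 362701 (Tag `Glue`, helper10)
-/

set_option autoImplicit false

namespace Cfsg.Agent.Lib.Helper10.J1Spec

/-- the rotation subgroup of `D_38` is normal -/
theorem zpowers_r_normal : (Subgroup.zpowers (DihedralGroup.r (1 : ZMod 19))).Normal := by
  apply Subgroup.normal_of_index_eq_two
  have h1 : Nat.card (Subgroup.zpowers (DihedralGroup.r (1 : ZMod 19))) = 19 := by
    rw [Nat.card_zpowers, DihedralGroup.orderOf_r_one]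
  have h2 := Subgroup.card_mul_index (Subgroup.zpowers (DihedralGroup.r (1 : ZMod 19)))
  rw [h1, DihedralGroup.nat_card] at h2
  omega

/-- Leaf 362701 (Tag `Glue`). -/
theorem isospectral_prod_dihedral (J : Type) [Group J] [Finite J] (N : ℕ) :
    ∃ (H : Type) (_ : Group H) (_ : Fintype H), N < Fintype.card H ∧
      Set.range (orderOf : H → ℕ) =
        Set.range (orderOf : J × J × J × DihedralGroup 19 → ℕ) := by
  haveI := zpowers_r_normal
  let K : Subgroup (J × J × J × DihedralGroup 19) :=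
    (⊥ : Subgroup J).prod ((⊥ : Subgroup J).prod ((⊥ : Subgroup J).prod
      (Subgroup.zpowers (DihedralGroup.r (1 : ZMod 19)))))
  haveI hKn : K.Normal := by
    show ((⊥ : Subgroup J).prod ((⊥ : Subgroup J).prod ((⊥ : Subgroup J).prod
      (Subgroup.zpowers (DihedralGroup.r (1 : ZMod 19)))))).Normal
    infer_instance
  have hK1 : K ≠ ⊥ := by
    intro h
    have hmem : ((1 : J), (1 : J), (1 : J), DihedralGroup.r (1 : ZMod 19)) ∈ K := by
      refine Subgroup.mem_prod.mpr ⟨Subgroup.mem_bot.mpr rfl, Subgroup.mem_prod.mpr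
        ⟨Subgroup.mem_bot.mpr rfl, Subgroup.mem_prod.mpr ⟨Subgroup.mem_bot.mpr rfl, ?_⟩⟩⟩
      exact Subgroup.mem_zpowers _
    rw [h, Subgroup.mem_bot] at hmem
    have h4 : DihedralGroup.r (1 : ZMod 19) = 1 := (Prod.ext_iff.mp (Prod.ext_iff.mp (Prod.ext_iff.mp hmem).2).2).2
    have h5 := DihedralGroup.orderOf_r_one (n := 19)
    rw [h4, orderOf_one] at h5
    omega
  have hs : Group.IsSolvable K := by
    apply Group.isSolvable_of_comm
    intro a b
    apply Subtype.ext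
    obtain ⟨⟨a1, a2, a3, a4⟩, ha⟩ := a
    obtain ⟨⟨b1, b2, b3, b4⟩, hb⟩ := b
    obtain ⟨ha1, ha'⟩ := Subgroup.mem_prod.mp ha
    obtain ⟨ha2, ha''⟩ := Subgroup.mem_prod.mp ha'
    obtain ⟨ha3, ha4⟩ := Subgroup.mem_prod.mp ha''
    obtain ⟨hb1, hb'⟩ := Subgroup.mem_prod.mp hb
    obtain ⟨hb2, hb''⟩ := Subgroup.mem_prod.mp hb'
    obtain ⟨hb3, hb4⟩ := Subgroup.mem_prod.mp hb''
    simp only at ha1 ha2 ha3 ha4 hb1 hb2 hb3 hb4
    rw [Subgroup.mem_bot] at ha1 ha2 ha3 hb1 hb2 hb3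
    subst ha1 ha2 ha3 hb1 hb2 hb3
    obtain ⟨i, rfl⟩ := Subgroup.mem_zpowers_iff.mp ha4
    obtain ⟨j, rfl⟩ := Subgroup.mem_zpowers_iff.mp hb4
    show ((1 : J) * 1, (1 : J) * 1, (1 : J) * 1, _ * _) = ((1 : J) * 1, (1 : J) * 1, (1 : J) * 1, _ * _)
    rw [(Commute.refl (DihedralGroup.r (1 : ZMod 19))).zpow_zpow i j |>.eq]
  exact Cfsg.Agent.S3444.result K hK1 hs N

end Cfsg.Agent.Lib.Helper10.J1Spec
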