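import Mathlib
import Cfsg.Prelude.Def_Spor_J3
import Cfsg.Prelude.Def_KGroupFacts

set_option autoImplicit false
set_option linter.style.haveILetI false

/-! Transport of the Janko group `J3 F ω` along a ring isomorphism `F ≃+* F'` (possibly between
different universes): `J3 F ω ≃* J3 F' (e ω)`, hence any isomorphism invariant (order of the outer
automorphism group, ...) can be computed in a fixed model of the field with four elements. -/

namespace Cfsg.Agent.Lib.Helper10.J3T

open Cfsg.Spor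
open scoped MatrixGroups

universe u v

variable {F : Type u} [Field F] {F' : Type v} [Field F']

/-- The isomorphism of general linear groups induced by a ring isomorphism. -/
noncomputable def glEquiv (e : F ≃+* F') : GL F9 F ≃* GL F9 F' :=
  Units.mapEquiv (RingEquiv.mapMatrix e (m := F9)).toMulEquiv

theorem glEquiv_val (e : F ≃+* F') (g : GL F9 F) :
    ((glEquiv e g : GL F9 F') : Matrix F9 F9 F') = (g : Matrix F9 F9 F).map e := rfl

theorem glEquiv_symm_apply (e : F ≃+* F') (g : GL F9 F) :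
    glEquiv e.symm (glEquiv e g) = g := by
  apply Units.ext
  rw [glEquiv_val, glEquiv_val]
  ext i j
  simp

theorem omegaPow_map (e : F ≃+* F') (ω : F) (n : ZMod 3) :
    e (omegaPow F ω n) = omegaPow F' (e ω) n := by
  unfold omegaPow
  rw [map_pow]

theorem j3A_map (e : F ≃+* F') (ω : F) (Z : F9) : (j3A F ω Z).map e = j3A F' (e ω) Z := by
  unfold j3A
  rw [Matrix.diagonal_map (map_zero e)]
  congr 1
  funext z
  exact omegaPow_map e ω _

theorem j3E_map (e : F ≃+* F') (ω : F) (Z : F9) : (j3E F ω Z).map e = j3E F' (e ω) Z := by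
  unfold j3E
  rw [Matrix.diagonal_map (map_zero e)]
  congr 1
  funext z
  exact omegaPow_map e ω _

theorem j3Lam_map (e : F ≃+* F') (ω : F) (Z z : F9) : e (j3Lam F ω Z z) = j3Lam F' (e ω) Z z := by
  unfold j3Lam
  split_ifs <;> simp

theorem j3D_map (e : F ≃+* F') (ω : F) (Z : F9) : (j3D F ω Z).map e = j3D F' (e ω) Z := by
  ext w z
  simp only [j3D, Matrix.map_apply, Matrix.of_apply]
  split_ifs
  · exact j3Lam_map e ω Z z
  · exact map_zero e

theorem j3B_map (e : F ≃+* F') (Z : F9) : (j3B F Z).map e = j3B F' Z := by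
  ext w z
  simp only [j3B, Matrix.map_apply, Matrix.of_apply]
  split_ifs <;> simp

theorem j3C_map (e : F ≃+* F') (Z : F9) : (j3C F Z).map e = j3C F' Z := by
  ext w z
  simp only [j3C, Matrix.map_apply, Matrix.of_apply]
  split_ifs <;> simp

theorem gens_map (e : F ≃+* F') (ω : F) {M : Matrix F9 F9 F} (h : M ∈ j3Gens F ω) :
    M.map e ∈ j3Gens F' (e ω) := by
  unfold j3Gens at h ⊢
  rcases h with (((⟨Z, rfl⟩ | ⟨Z, rfl⟩) | ⟨Z, rfl⟩) | ⟨Z, hZ, rfl⟩) | ⟨Z, hZ, rfl⟩
  · exact Or.inl (Or.inl (Or.inl (Or.inl ⟨Z, (j3A_map e ω Z).symm⟩)))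
  · exact Or.inl (Or.inl (Or.inl (Or.inr ⟨Z, (j3E_map e ω Z).symm⟩)))
  · exact Or.inl (Or.inl (Or.inr ⟨Z, (j3D_map e ω Z).symm⟩))
  · exact Or.inl (Or.inr ⟨Z, hZ, j3B_map e Z⟩)
  · exact Or.inr ⟨Z, hZ, j3C_map e Z⟩

theorem map_threeJ3_le (e : F ≃+* F') (ω : F) :
    (threeJ3 F ω).map (glEquiv e).toMonoidHom ≤ threeJ3 F' (e ω) := by
  rw [Subgroup.map_le_iff_le_comap]
  unfold threeJ3
  rw [Subgroup.closure_le]
  intro g hg
  apply Subgroup.subset_closure
  show ((glEquiv e g : GL F9 F') : Matrix F9 F9 F') ∈ j3Gens F' (e ω)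
  rw [glEquiv_val]
  exact gens_map e ω hg

theorem map_threeJ3 (e : F ≃+* F') (ω : F) :
    (threeJ3 F ω).map (glEquiv e).toMonoidHom = threeJ3 F' (e ω) := by
  apply le_antisymm (map_threeJ3_le e ω)
  intro g' hg'
  have h1 := map_threeJ3_le e.symm (e ω)
  rw [RingEquiv.symm_apply_apply] at h1
  refine ⟨glEquiv e.symm g', h1 ⟨g', hg', rfl⟩, ?_⟩
  have := glEquiv_symm_apply e.symm g'
  rwa [RingEquiv.symm_symm] at this

/-- The isomorphism of triple covers. -/
noncomputable def threeEquiv (e : F ≃+* F') (ω : F) : threeJ3 F ω ≃* threeJ3 F' (e ω) :=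
  ((glEquiv e).subgroupMap (threeJ3 F ω)).trans (MulEquiv.subgroupCongr (map_threeJ3 e ω))

theorem map_center_equiv {G G' : Type*} [Group G] [Group G'] (e : G ≃* G') :
    (Subgroup.center G).map e.toMonoidHom = Subgroup.center G' := by
  ext x
  constructor
  · rintro ⟨z, hz, rfl⟩
    rw [SetLike.mem_coe, Subgroup.mem_center_iff] at hz
    rw [Subgroup.mem_center_iff]
    intro g
    obtain ⟨g0, rfl⟩ := e.surjective g
    show e g0 * e z = e z * e g0
    rw [← map_mul, ← map_mul, hz g0]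
  · intro hx
    rw [Subgroup.mem_center_iff] at hx
    refine ⟨e.symm x, ?_, by simp⟩
    rw [SetLike.mem_coe, Subgroup.mem_center_iff]
    intro g
    apply e.injective
    rw [map_mul, map_mul, MulEquiv.apply_symm_apply]
    exact hx (e g)

/-- The isomorphism of Janko groups. -/
theorem nonempty_J3_equiv (e : F ≃+* F') (ω : F) : Nonempty (J3 F ω ≃* J3 F' (e ω)) :=
  ⟨QuotientGroup.congr _ _ (threeEquiv e ω) (map_center_equiv (threeEquiv e ω))⟩

theorem card_out_congr {G G' : Type*} [Group G] [Group G'] (e : G ≃* G') :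
    Nat.card (Cfsg.Out G) = Nat.card (Cfsg.Out G') := by
  have h : (Cfsg.Inn G).map (MulAut.congr e).toMonoidHom = Cfsg.Inn G' := by
    ext β
    constructor
    · rintro ⟨_, ⟨g, rfl⟩, rfl⟩
      refine ⟨e g, ?_⟩
      apply MulEquiv.ext
      intro x
      simp [MulAut.congr]
    · rintro ⟨g', rfl⟩
      refine ⟨MulAut.conj (e.symm g'), ⟨_, rfl⟩, ?_⟩
      apply MulEquiv.ext
      intro x
      simp [MulAut.congr]
  exact Nat.card_congr (QuotientGroup.congr _ _ (MulAut.congr e) h).toEquiv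

/-- Reduction to a model in `Type`: if `P` is a property of groups invariant under isomorphism
that holds for `J3 F' ω'` for ALL four-element fields `F' : Type` and roots `ω'`, then it holds
for every four-element field in any universe. -/
theorem transport_to_type_zero (P : ∀ {G : Type u} [Group G], Prop) (P0 : ∀ {G : Type} [Group G], Prop)
    (hP : ∀ {G : Type u} [Group G] {G' : Type} [Group G'], (G ≃* G') → @P0 G' _ → @P G _)
    (h0 : ∀ (F' : Type) [Field F'] [Fintype F'] (_ : Fintype.card F' = 4) (ω' : F')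
      (_ : ω' ^ 2 + ω' + 1 = 0), @P0 (J3 F' ω') _)
    [Fintype F] (hF : Fintype.card F = 4) (ω : F) (hω : ω ^ 2 + ω + 1 = 0) : @P (J3 F ω) _ := by
  have : Fact (Nat.Prime 2) := ⟨Nat.prime_two⟩
  letI : Fintype (GaloisField 2 2) := Fintype.ofFinite _
  have hc : Fintype.card F = Fintype.card (GaloisField 2 2) := by
    rw [hF, Fintype.card_eq_nat_card, GaloisField.card 2 2 (by norm_num)]
    norm_num
  let e : F ≃+* GaloisField 2 2 := FiniteField.ringEquivOfCardEq hc
  obtain ⟨f⟩ := nonempty_J3_equiv e ω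
  refine hP f (h0 (GaloisField 2 2) (by rw [← hc, hF]) (e ω) ?_)
  rw [← map_pow, ← map_add, ← map_one e, ← map_add, hω, map_zero]

/-- The order of `Out (J3 F ω)` may be computed for fields in `Type`. -/
theorem card_out_J3_of_type_zero (n : ℕ)
    (h0 : ∀ (F' : Type) [Field F'] [Fintype F'] (_ : Fintype.card F' = 4) (ω' : F')
      (_ : ω' ^ 2 + ω' + 1 = 0), Nat.card (Cfsg.Out (J3 F' ω')) = n)
    [Fintype F] (hF : Fintype.card F = 4) (ω : F) (hω : ω ^ 2 + ω + 1 = 0) :
    Nat.card (Cfsg.Out (J3 F ω)) = n := by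
  have : Fact (Nat.Prime 2) := ⟨Nat.prime_two⟩
  letI : Fintype (GaloisField 2 2) := Fintype.ofFinite _
  have hc : Fintype.card F = Fintype.card (GaloisField 2 2) := by
    rw [hF, Fintype.card_eq_nat_card, GaloisField.card 2 2 (by norm_num)]
    norm_num
  let e : F ≃+* GaloisField 2 2 := FiniteField.ringEquivOfCardEq hc
  obtain ⟨f⟩ := nonempty_J3_equiv e ω
  rw [card_out_congr f]
  refine h0 (GaloisField 2 2) (by rw [← hc, hF]) (e ω) ?_
  rw [← map_pow, ← map_add, ← map_one e, ← map_add, hω, map_zero]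

end Cfsg.Agent.Lib.Helper10.J3T
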