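import Cfsg.Agent.Lib.Helper10.Dodecad
import Cfsg.Agent.Lib.Helper10.Count

set_option autoImplicit false

namespace Cfsg.Agent.Lib.Helper10

open Cfsg MulAction
open scoped Pointwise

/-! ### A general orbit-stabiliser lemma and a general multiple-transitivity lemma -/

theorem card_eq_orbit_mul' {X : Type*} [MulAction (Equiv.Perm GolayPt) X]
    (K : Subgroup (Equiv.Perm GolayPt)) (b : X) (T : Set X)
    (h1 : ∀ σ ∈ K, σ • b ∈ T) (h2 : ∀ c ∈ T, ∃ σ ∈ K, σ • b = c) :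
    Nat.card K = T.ncard * Nat.card ↥(K ⊓ stabilizer (Equiv.Perm GolayPt) b) := by
  have key : (stabilizer (Equiv.Perm GolayPt) b).subgroupOf K = stabilizer K b := by
    ext; rfl
  have horb : orbit K b = T := by
    ext c
    constructor
    · rintro ⟨g, rfl⟩
      exact h1 g.1 g.2
    · intro hc
      obtain ⟨σ, hσ, rfl⟩ := h2 c hc
      exact ⟨⟨σ, hσ⟩, rfl⟩
  have h1' : (stabilizer (Equiv.Perm GolayPt) b).relIndex K = T.ncard := by
    rw [Subgroup.relIndex, key, index_stabilizer, horb]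
  have h3 := Subgroup.relIndex_mul_relIndex (⊥ : Subgroup (Equiv.Perm GolayPt))
    (K ⊓ stabilizer (Equiv.Perm GolayPt) b) K bot_le inf_le_left
  rw [Subgroup.relIndex_bot_left, Subgroup.relIndex_bot_left, Subgroup.inf_relIndex_left, h1'] at h3
  rw [← h3, mul_comm]

/-- transitivity on injective `n`-tuples of points satisfying `D`, from transversals. -/
theorem multi_trans_generic (K : Subgroup (Equiv.Perm GolayPt)) (n : ℕ) (b : ℕ → GolayPt)
    (D : GolayPt → Prop)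
    (hlevel : ∀ k < n, ∀ c, D c → (∀ i < k, c ≠ b i) →
      ∃ u ∈ K, (∀ i < k, u (b i) = b i) ∧ u (b k) = c)
    (hD : ∀ g ∈ K, ∀ c, D c → D (g⁻¹ c))
    (x : Fin n ↪ GolayPt) (hx : ∀ i, D (x i)) : ∃ g ∈ K, ∀ i : Fin n, g (b i) = x i := by
  have key : ∀ k, k ≤ n → ∃ g ∈ K, ∀ i : Fin n, i.val < k → g (b i) = x i := by
    intro k
    induction k with
    | zero => intro _; exact ⟨1, K.one_mem, fun i hi => absurd hi (Nat.not_lt_zero _)⟩
    | succ k ih =>
      intro hk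
      obtain ⟨g, hg, hgx⟩ := ih (by omega)
      have hkn : k < n := by omega
      obtain ⟨u, hu, hu1, hu2⟩ := hlevel k hkn (g⁻¹ (x ⟨k, hkn⟩)) (hD g hg _ (hx _)) (by
        intro i hi h
        have h1 : g (b i) = x ⟨i, by omega⟩ := hgx ⟨i, by omega⟩ hi
        rw [← h] at h1
        simp only [Equiv.Perm.coe_inv, Equiv.apply_symm_apply] at h1
        have := x.injective h1
        simp only [Fin.mk.injEq] at this
        omega)
      refine ⟨g * u, K.mul_mem hg hu, ?_⟩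
      intro i hi
      rcases Nat.lt_succ_iff_lt_or_eq.mp hi with h | h
      · show g (u (b i)) = x i
        rw [hu1 i h]; exact hgx i h
      · show g (u (b i)) = x i
        rw [h, hu2]
        simp only [Equiv.Perm.coe_inv, Equiv.apply_symm_apply]
        congr 1
        exact Fin.ext h.symm
  obtain ⟨g, hg, h⟩ := key n le_rfl
  exact ⟨g, hg, fun i => h i i.isLt⟩

/-! ### Generators of the stabiliser of the dodecad `d0` -/

def m12Words : List (List ℕ) := [[2], [3, 2, 0, 1, 0, 0, 0], [4], [3, 3, 3, 1, 3, 4, 0]]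

def m12Tabs : List (List ℕ) := [
  [0, 18, 6, 3, 2, 21, 1, 5, 16, 12, 7, 19, 8, 9, 17, 15, 13, 11, 4, 22, 10, 20, 14, 23],
  [12, 3, 6, 9, 16, 19, 0, 10, 2, 13, 15, 21, 1, 18, 20, 14, 4, 11, 8, 5, 23, 22, 7, 17],
  [0, 6, 4, 3, 18, 7, 2, 10, 12, 13, 20, 17, 9, 16, 22, 15, 8, 14, 1, 11, 21, 5, 19, 23],
  [6, 12, 8, 1, 16, 19, 2, 22, 18, 3, 7, 17, 0, 9, 15, 10, 4, 23, 13, 5, 14, 11, 21, 20]]

noncomputable def gen12 (n : ℕ) : Equiv.Perm GolayPt := wordPerm (m12Words.getD n [])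

def tbl12 (n i : ℕ) : ℕ := (m12Tabs.getD n []).getD i i

theorem tbl12_check : ∀ n : Fin 4, ∀ i : Fin 24, evalW (m12Words.getD n []) i = tbl12 n i := by
  decide +kernel

theorem gen12_spec (n : ℕ) (p : GolayPt) : idx (gen12 n p) = tbl12 n (idx p) := by
  unfold gen12
  rw [evalW_spec]
  by_cases hn : n < 4
  · exact tbl12_check ⟨n, hn⟩ ⟨idx p, idx_lt p⟩
  · have h1 : m12Words.getD n [] = [] := by
      rw [List.getD_eq_default]; simp [m12Words]; omega
    have h2 : m12Tabs.getD n [] = [] := by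
      rw [List.getD_eq_default]; simp [m12Tabs]; omega
    rw [h1]
    unfold tbl12
    rw [h2]
    rfl

noncomputable def wordPerm12 : List ℕ → Equiv.Perm GolayPt
  | [] => 1
  | g :: w => gen12 g * wordPerm12 w

def evalW12 : List ℕ → ℕ → ℕ
  | [], i => i
  | g :: w, i => tbl12 g (evalW12 w i)

theorem evalW12_spec (w : List ℕ) (p : GolayPt) : idx (wordPerm12 w p) = evalW12 w (idx p) := by
  induction w with
  | nil => rfl
  | cons g w ih =>
    show idx (gen12 g (wordPerm12 w p)) = tbl12 g (evalW12 w (idx p))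
    rw [gen12_spec, ih]

theorem wordPerm12_pt {w : List ℕ} {i j : ℕ} (hi : i < 24) (h : evalW12 w i = j) :
    wordPerm12 w (pt i) = pt j := by
  have := evalW12_spec w (pt i)
  rw [idx_pt hi, h] at this
  rw [← this, pt_idx]

/-- the stabiliser of the dodecad `d0` in the group of the code. -/
def K12 : Subgroup (Equiv.Perm GolayPt) := M24 ⊓ stabilizer (Equiv.Perm GolayPt) (fs d0)

theorem mem_K12 (σ : Equiv.Perm GolayPt) : σ ∈ K12 ↔ σ ∈ M24 ∧ σ • fs d0 = fs d0 := by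
  unfold K12
  exact Subgroup.mem_inf

theorem tbl12_pres : ∀ n : Fin 4, ∀ i : Fin 24, d0.testBit (tbl12 n i) = d0.testBit i := by
  decide +kernel

theorem gen12_mem (n : ℕ) : gen12 n ∈ K12 := by
  rw [mem_K12]
  refine ⟨wordPerm_mem_M24 _, ?_⟩
  apply smul_fs_eq
  intro p
  rw [gen12_spec]
  by_cases hn : n < 4
  · exact tbl12_pres ⟨n, hn⟩ ⟨idx p, idx_lt p⟩
  · have h2 : m12Tabs.getD n [] = [] := by
      rw [List.getD_eq_default]; simp [m12Tabs]; omega
    unfold tbl12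
    rw [h2]
    rfl

theorem wordPerm12_mem (w : List ℕ) : wordPerm12 w ∈ K12 := by
  induction w with
  | nil => exact K12.one_mem
  | cons g w ih => exact K12.mul_mem (gen12_mem g) ih

theorem pres_of_mem_K12 {σ : Equiv.Perm GolayPt} (h : σ ∈ K12) : Pres σ d0 :=
  pres_of_smul_eq ((mem_K12 σ).mp h).2

/-! ### The order of `K12` -/

/-- weight 12 test. -/
def isW12 (m : ℕ) : Bool := pc m == 12

theorem dodecads_eq : dodecads =
    {s : Finset GolayPt | ∃ w ∈ golayCode, support₂ w = s ∧ isW12 (wmask w) = true} := by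
  ext s
  simp only [Set.mem_ofPred_eq, isW12, beq_iff_eq]
  constructor
  · rintro ⟨⟨w, hw, rfl⟩, hc⟩
    exact ⟨w, hw, rfl, by rw [← card_support₂]; exact hc⟩
  · rintro ⟨w, hw, rfl, hc⟩
    exact ⟨⟨w, hw, rfl⟩, by rw [card_support₂]; exact hc⟩

theorem count_dodecads :
    ((List.range 4096).filter (fun k => isW12 (enc k))).length = 2576 := by
  decide +kernel

theorem ncard_dodecads : dodecads.ncard = 2576 := by
  rw [dodecads_eq, ncard_code_filter]
  exact count_dodecads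

/-- the stabiliser of any dodecad has order 95040. -/
theorem card_stabilizer_dodecad {d : Finset GolayPt} (hd : d ∈ dodecads) :
    Nat.card ↥(M24 ⊓ stabilizer (Equiv.Perm GolayPt) d) = 95040 := by
  have h := card_eq_orbit_mul' M24 d dodecads (fun σ hσ => smul_mem_dodecads hσ hd)
    (fun c hc => dodecad_trans hd hc)
  rw [card_M24, ncard_dodecads] at h
  omega

theorem card_K12 : Nat.card K12 = 95040 := card_stabilizer_dodecad fs_d0_mem

/-! ### The stabiliser chain of `K12` on the dodecad, and of the point stabiliser on the complement -/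

def trans12 : List (List (List ℕ)) := [
  [[],
   [1, 1],
   [2, 3],
   [1, 1, 1],
   [2, 2, 3],
   [],
   [3],
   [],
   [0, 1],
   [2, 1],
   [],
   [],
   [1],
   [1, 2, 1],
   [],
   [],
   [0, 0, 1],
   [],
   [3, 0, 1],
   [],
   [],
   [],
   [],
   []],
  [[],
   [],
   [2, 2],
   [3, 3, 0, 3, 0, 0],
   [0, 0],
   [],
   [2],
   [],
   [3, 3, 0, 3, 2],
   [0, 3, 3, 0, 3],
   [],
   [],
   [1, 0, 3, 3],
   [3, 3, 0, 3],
   [],
   [],
   [1, 2, 1, 1, 0],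
   [],
   [0],
   [],
   [],
   [],
   [],
   []],
  [[],
   [],
   [],
   [2, 1, 1, 2, 3],
   [1, 0, 3, 3, 0],
   [],
   [3, 2, 3, 2, 3],
   [],
   [3, 3, 0, 3, 0],
   [1, 0, 1, 0, 1],
   [],
   [],
   [3, 2, 3, 3, 3, 0],
   [0, 3, 2, 1, 0, 1, 1, 0],
   [],
   [],
   [2, 1, 1, 1, 0, 1],
   [],
   [0, 3, 0, 1, 1, 1, 1, 0],
   [],
   [],
   [],
   [],
   []],
  [[],
   [],
   [],
   [],
   [2, 2, 3, 2, 3, 3, 3, 2, 2],
   [],
   [1, 1, 2, 2, 1, 1, 2, 2],
   [],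
   [0, 0, 1, 1, 1, 0, 1, 0, 0],
   [0, 0, 3, 3, 0, 0, 3, 3],
   [],
   [],
   [1, 2, 3, 2, 3, 3, 3, 3, 0, 1],
   [0, 1, 0, 3, 0, 3, 3, 2],
   [],
   [],
   [3, 0, 1, 0, 3, 3, 2, 2, 1, 0, 0],
   [],
   [0, 1, 1, 2, 1, 2, 3, 2],
   [],
   [],
   [],
   [],
   []],
  [[],
   [],
   [],
   [],
   [],
   [],
   [1, 2, 3, 3, 0, 1, 1, 0, 1, 1, 1, 2],
   [],
   [1, 1, 0, 1, 2, 1, 1, 1, 2, 3, 0, 1],
   [0, 3, 3, 3, 2, 3, 3, 2, 1, 1, 0, 3],
   [],
   [],
   [1, 1, 0, 0, 3, 0, 3, 3, 3, 2, 1, 0, 0],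
   [1, 0, 1, 1, 1, 1, 2, 1, 2],
   [],
   [],
   [3, 2, 1, 0, 3, 3, 3, 0, 3, 2, 3, 3],
   [],
   [0, 3, 0, 3, 3, 3, 3, 2, 3],
   [],
   [],
   [],
   [],
   []]]

def trans11 : List (List (List ℕ)) := [
  [[],
   [],
   [],
   [],
   [],
   [],
   [],
   [2],
   [],
   [],
   [2, 2],
   [3, 3, 0, 3],
   [],
   [],
   [1, 2, 1, 1, 2],
   [1, 2, 1, 1, 0],
   [],
   [2, 3, 3, 0, 3],
   [],
   [3, 3, 0, 3, 0],
   [0, 0],
   [0],
   [1, 1, 2, 3],
   [1, 0, 3, 3, 2]],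
  [[],
   [],
   [],
   [],
   [],
   [],
   [],
   [],
   [],
   [],
   [0, 3, 0, 0, 1, 2, 1],
   [0, 0, 1, 2, 1, 1],
   [],
   [],
   [2, 1, 1, 1, 0, 1, 0, 0],
   [1, 1, 2, 1, 2, 3],
   [],
   [2, 2, 3, 3, 0, 3, 0, 0],
   [],
   [2, 1, 1, 2, 3, 0],
   [3, 3, 0, 3, 2, 2],
   [3, 2, 1, 0, 1, 1],
   [3, 0, 3, 2, 2, 1, 2],
   [0, 3, 2, 1, 1, 1, 2, 1]],
  [[],
   [],
   [],
   [],
   [],
   [],
   [],
   [],
   [],
   [],
   [],
   [1, 1, 0, 1, 0, 3, 3, 3],
   [],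
   [],
   [1, 1, 1, 2, 3, 2, 3, 3],
   [2, 1, 1, 2, 1, 2, 3, 0],
   [],
   [2, 1, 0, 3, 0, 3, 3, 0],
   [],
   [1, 0, 3, 0, 1, 1, 0, 1, 1, 0],
   [1, 0, 0, 3, 0, 3, 2, 3],
   [1, 0, 1, 2, 1, 2, 2, 3],
   [0, 0, 3, 0, 3, 2, 3, 3, 3, 0, 1],
   [0, 1, 0, 1, 1, 1, 1, 2, 1, 0]]]

/-- base points on the dodecad `d0`. -/
def base12 : List ℕ := [0, 1, 2, 3, 4]

/-- base points off the dodecad `d0`. -/
def base11 : List ℕ := [5, 7, 10]

def word12 (k c : ℕ) : List ℕ := (trans12.getD k []).getD c []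
def word11 (k c : ℕ) : List ℕ := (trans11.getD k []).getD c []

theorem trans12_check : ∀ k : Fin 5, ∀ c : Fin 24, d0.testBit c = true →
    (∀ i : Fin 5, i.val < k.val → c.val ≠ base12.getD i 0) →
    (∀ i : Fin 5, i.val < k.val → evalW12 (word12 k c) (base12.getD i 0) = base12.getD i 0) ∧
      evalW12 (word12 k c) (base12.getD k 0) = c := by
  decide +kernel

theorem trans11_check : ∀ k : Fin 3, ∀ c : Fin 24, d0.testBit c = false →
    (∀ i : Fin 3, i.val < k.val → c.val ≠ base11.getD i 0) →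
    evalW12 (word11 k c) 0 = 0 ∧
    (∀ i : Fin 3, i.val < k.val → evalW12 (word11 k c) (base11.getD i 0) = base11.getD i 0) ∧
      evalW12 (word11 k c) (base11.getD k 0) = c := by
  decide +kernel

/-- the `i`-th base point on the dodecad. -/
def bpt12 (i : ℕ) : GolayPt := pt (base12.getD i 0)

/-- the `i`-th base point off the dodecad. -/
def bpt11 (i : ℕ) : GolayPt := pt (base11.getD i 0)

theorem base12_lt : ∀ i : Fin 5, base12.getD i 0 < 24 := by decide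
theorem base11_lt : ∀ i : Fin 3, base11.getD i 0 < 24 := by decide

theorem level12 (k : ℕ) (hk : k < 5) (c : GolayPt) (hc : c ∈ fs d0) (hne : ∀ i < k, c ≠ bpt12 i) :
    ∃ u ∈ K12, (∀ i < k, u (bpt12 i) = bpt12 i) ∧ u (bpt12 k) = c := by
  obtain ⟨h1, h2⟩ := trans12_check ⟨k, hk⟩ ⟨idx c, idx_lt c⟩ ((mem_fs d0 c).mp hc) (by
    intro i hi h
    apply hne i hi
    show c = pt (base12.getD i 0)
    rw [← h, pt_idx])
  refine ⟨wordPerm12 (word12 k (idx c)), wordPerm12_mem _, ?_, ?_⟩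
  · intro i hi
    exact wordPerm12_pt (base12_lt ⟨i, by omega⟩) (h1 ⟨i, by omega⟩ hi)
  · have := wordPerm12_pt (base12_lt ⟨k, hk⟩) h2
    rw [pt_idx] at this
    exact this

/-- the stabiliser of `d0` is transitive on injective 5-tuples of points of `d0`. -/
theorem five_trans12 (x : Fin 5 ↪ GolayPt) (hx : ∀ i, x i ∈ fs d0) :
    ∃ g ∈ K12, ∀ i : Fin 5, g (bpt12 i) = x i := by
  apply multi_trans_generic K12 5 bpt12 (fun c => c ∈ fs d0) level12 _ x hx
  intro g hg c hc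
  have hP := pres_of_mem_K12 (K12.inv_mem hg) c
  rw [mem_fs] at hc ⊢
  rw [hP]; exact hc

/-- the stabiliser of `d0` and of the point `0` of `d0`. -/
def K11 : Subgroup (Equiv.Perm GolayPt) := K12 ⊓ stabilizer (Equiv.Perm GolayPt) (pt 0)

theorem mem_K11 (σ : Equiv.Perm GolayPt) : σ ∈ K11 ↔ σ ∈ K12 ∧ σ (pt 0) = pt 0 := by
  unfold K11
  rw [Subgroup.mem_inf, mem_stabilizer_iff]
  rfl

theorem level11 (k : ℕ) (hk : k < 3) (c : GolayPt) (hc : c ∉ fs d0) (hne : ∀ i < k, c ≠ bpt11 i) :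
    ∃ u ∈ K11, (∀ i < k, u (bpt11 i) = bpt11 i) ∧ u (bpt11 k) = c := by
  have hc' : d0.testBit (idx c) = false := by
    rw [mem_fs] at hc
    simpa using hc
  obtain ⟨h0, h1, h2⟩ := trans11_check ⟨k, hk⟩ ⟨idx c, idx_lt c⟩ hc' (by
    intro i hi h
    apply hne i hi
    show c = pt (base11.getD i 0)
    rw [← h, pt_idx])
  refine ⟨wordPerm12 (word11 k (idx c)), ?_, ?_, ?_⟩
  · rw [mem_K11]
    exact ⟨wordPerm12_mem _, wordPerm12_pt (by decide) h0⟩
  · intro i hi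
    exact wordPerm12_pt (base11_lt ⟨i, by omega⟩) (h1 ⟨i, by omega⟩ hi)
  · have := wordPerm12_pt (base11_lt ⟨k, hk⟩) h2
    rw [pt_idx] at this
    exact this

/-- the stabiliser of `d0` and `0` is transitive on injective triples of points off `d0`. -/
theorem three_trans11 (x : Fin 3 ↪ GolayPt) (hx : ∀ i, x i ∉ fs d0) :
    ∃ g ∈ K11, ∀ i : Fin 3, g (bpt11 i) = x i := by
  apply multi_trans_generic K11 3 bpt11 (fun c => c ∉ fs d0) level11 _ x hx
  intro g hg c hc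
  have hP := pres_of_mem_K12 (K12.inv_mem ((mem_K11 g).mp hg).1) c
  rw [mem_fs] at hc ⊢
  rw [hP]; exact hc

end Cfsg.Agent.Lib.Helper10
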