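import Cfsg.Agent.Lib.Helper10.M12b

set_option autoImplicit false

namespace Cfsg.Agent.Lib.Helper10

open Cfsg MulAction
open scoped Pointwise

theorem bpt12_zero : bpt12 0 = pt 0 := rfl

theorem bpt12_mem (i : ℕ) (hi : i < 5) : bpt12 i ∈ fs d0 := by
  rw [mem_fs]
  unfold bpt12
  rw [idx_pt (base12_lt ⟨i, hi⟩)]
  exact base12_mem ⟨i, hi⟩

/-- the group of the code is transitive on pairs (dodecad, point of it). -/
theorem exists_flag {d : Finset GolayPt} (hd : d ∈ dodecads) {p : GolayPt} (hp : p ∈ d) :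
    ∃ h ∈ M24, h • fs d0 = d ∧ h (pt 0) = p := by
  obtain ⟨h', hh', rfl⟩ := exists_smul_d0_eq hd
  have hp' : h'⁻¹ p ∈ fs d0 := by
    have := Finset.inv_smul_mem_iff.mpr hp
    exact this
  obtain ⟨u, hu, _, hu2⟩ := level12 0 (by decide) (h'⁻¹ p) hp' (fun i hi => absurd hi (Nat.not_lt_zero _))
  refine ⟨h' * u, M24.mul_mem (H_le_M24 hh') ((mem_K12 u).mp hu).1, ?_, ?_⟩
  · rw [mul_smul, ((mem_K12 u).mp hu).2]
  · show h' (u (pt 0)) = p
    rw [← bpt12_zero, hu2]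
    simp

theorem conj_mem_K12 {h : Equiv.Perm GolayPt} (hh : h ∈ M24) {σ : Equiv.Perm GolayPt}
    (hσ : σ ∈ M24) (hd : σ • (h • fs d0) = h • fs d0) : h⁻¹ * σ * h ∈ K12 := by
  rw [mem_K12]
  refine ⟨M24.mul_mem (M24.mul_mem (M24.inv_mem hh) hσ) hh, ?_⟩
  rw [mul_smul, mul_smul, hd, inv_smul_smul]

theorem conj_of_K12 {h : Equiv.Perm GolayPt} (hh : h ∈ M24) {k : Equiv.Perm GolayPt}
    (hk : k ∈ K12) : h * k * h⁻¹ ∈ M24 ∧ (h * k * h⁻¹) • (h • fs d0) = h • fs d0 := by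
  rw [mem_K12] at hk
  refine ⟨M24.mul_mem (M24.mul_mem hh hk.1) (M24.inv_mem hh), ?_⟩
  rw [mul_smul, mul_smul, inv_smul_smul, hk.2]

theorem card_K11 : Nat.card K11 = 7920 := by
  have h0 := chain12_step 0 (by decide)
  have hK : Nat.card (fixL K12 (bsL12 0)) = 95040 := card_K12
  rw [hK] at h0
  have : Nat.card (fixL K12 (bsL12 (0 + 1))) = Nat.card K11 := rfl
  rw [this] at h0
  omega

end Cfsg.Agent.Lib.Helper10
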