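import Cfsg.Agent.Lib.Helper10.CentC
import Cfsg.Agent.Lib.Helper10.M12c
import Cfsg.Prelude.Def_Spor_Mathieu

set_option autoImplicit false

namespace Cfsg.Agent.Lib.Helper10

open Cfsg MulAction
open scoped Pointwise

/-! ### `M12`, `M11` and the groups `K12`, `K11` -/

theorem squareDodecad_eq_fs : Spor.squareDodecad = fs d0 := by
  unfold Spor.squareDodecad
  have : qrWord 0 = vec d0 := funext (qrWord_eq 0)
  rw [this, support₂_vec]

theorem M12_eq_K12 : Spor.M12 = K12 := by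
  unfold Spor.M12 K12
  rw [squareDodecad_eq_fs]

theorem M11_eq_K11 : Spor.M11 = K11 := by
  unfold Spor.M11 K11
  rw [M12_eq_K12]
  rfl

theorem mem_M12_iff (σ : Equiv.Perm GolayPt) : σ ∈ Spor.M12 ↔ σ ∈ M24 ∧ Pres σ d0 := by
  rw [M12_eq_K12, mem_K12]
  constructor
  · rintro ⟨h1, h2⟩
    exact ⟨h1, pres_of_smul_eq h2⟩
  · rintro ⟨h1, h2⟩
    exact ⟨h1, smul_eq_of_pres h2⟩

theorem mem_M11_iff (σ : Equiv.Perm GolayPt) :
    σ ∈ Spor.M11 ↔ σ ∈ M24 ∧ Pres σ d0 ∧ σ (pt 0) = pt 0 := by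
  unfold Spor.M11
  rw [Subgroup.mem_inf, mem_M12_iff]
  constructor
  · rintro ⟨⟨h1, h2⟩, h3⟩
    exact ⟨h1, h2, mem_stabilizer_iff.mp h3⟩
  · rintro ⟨h1, h2, h3⟩
    exact ⟨⟨h1, h2⟩, mem_stabilizer_iff.mpr h3⟩

theorem M12_le_M24 : Spor.M12 ≤ M24 := fun σ h => ((mem_M12_iff σ).mp h).1
theorem M11_le_M12 : Spor.M11 ≤ Spor.M12 := inf_le_left
theorem M11_le_M24 : Spor.M11 ≤ M24 := le_trans M11_le_M12 M12_le_M24

theorem card_M12 : Nat.card Spor.M12 = 95040 := by
  rw [M12_eq_K12]; exact card_K12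

theorem card_M11 : Nat.card Spor.M11 = 7920 := by
  rw [M11_eq_K11]; exact card_K11

/-- a table preserving the dodecad of squares. -/
def presTab (T : ℕ → ℕ) : Bool := (List.range 24).all fun i => d0.testBit (T i) == d0.testBit i

theorem pres_of_presTab {σ : Equiv.Perm GolayPt} {T : ℕ → ℕ} (hT : IsTab σ T)
    (h : presTab T = true) : Pres σ d0 := by
  intro p
  rw [hT p]
  unfold presTab at h
  rw [List.all_eq_true] at h
  have := h (idx p) (List.mem_range.mpr (idx_lt p))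
  rwa [beq_iff_eq] at this

theorem presTab_of_pres {σ : Equiv.Perm GolayPt} {T : ℕ → ℕ} (hT : IsTab σ T)
    (h : Pres σ d0) : presTab T = true := by
  unfold presTab
  rw [List.all_eq_true]
  intro i hi
  rw [beq_iff_eq]
  have h1 := h (pt i)
  have hi' := List.mem_range.mp hi
  rw [hT (pt i), idx_pt hi'] at h1
  exact h1

/-! ### The extra generators -/

/-- a word for the involution centralising the cube twist in `M12`. -/
def wT12 : List ℕ := [0,2,3,1,2,3,2,3,4,3,2,2,3,4,0,0,0,2,0,0,0,2,2,3,4,0,2,2,3,2,3,3,3,2,3,2,3,2,2,4,3,4,3,3,2,2,3,2,0,4,3,4,3,4]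
def tblT12L : List ℕ := [3,12,13,0,16,19,9,11,18,6,17,7,1,2,20,23,4,10,8,5,14,22,21,15]
def tblT12 (i : ℕ) : ℕ := tblT12L.getD i i
noncomputable def t12 : Equiv.Perm GolayPt := wordPerm wT12

theorem tblT12_check : ∀ i : Fin 24, evalW wT12 i = tblT12 i := by decide +kernel

theorem isTab_t12 : IsTab t12 tblT12 := by
  intro p
  show idx (wordPerm wT12 p) = _
  rw [evalW_spec]
  exact tblT12_check ⟨idx p, idx_lt p⟩

/-- a word for an element of order four of `M11` normalising the cube twist. -/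
def wS11 : List ℕ := [0,2,3,1,0,0,4,0,3,2,0,4,3,3,0,2,0,0,4,0,4,3,2,0,4,4,3,2,2,0,2,0,2,3,4,0,4,4,0,0,2,0,2]
def tblS11L : List ℕ := [0,1,18,3,6,11,2,14,16,13,19,20,12,8,10,23,9,5,4,7,17,22,21,15]
def tblS11 (i : ℕ) : ℕ := tblS11L.getD i i
noncomputable def s11 : Equiv.Perm GolayPt := wordPerm wS11

theorem tblS11_check : ∀ i : Fin 24, evalW wS11 i = tblS11 i := by decide +kernel

theorem isTab_s11 : IsTab s11 tblS11 := by
  intro p
  show idx (wordPerm wS11 p) = _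
  rw [evalW_spec]
  exact tblS11_check ⟨idx p, idx_lt p⟩

theorem gM_mem_M11 : gM ∈ Spor.M11 := by
  rw [mem_M11_iff]
  exact ⟨gM_mem, pres_of_presTab isTab_gM (by decide +kernel), isTab_gM.apply_pt (by decide)⟩

theorem cubeTwist_mem_M11 : cubeTwist ∈ Spor.M11 := by
  rw [mem_M11_iff]
  exact ⟨H_le_M24 (gen_mem_H 2), pres_of_presTab isTab_cubeTwist (by decide +kernel),
    isTab_cubeTwist.apply_pt (by decide)⟩

theorem s11_mem_M11 : s11 ∈ Spor.M11 := by
  rw [mem_M11_iff]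
  exact ⟨wordPerm_mem_M24 wS11, pres_of_presTab isTab_s11 (by decide +kernel),
    isTab_s11.apply_pt (by decide)⟩

theorem t12_mem_M12 : t12 ∈ Spor.M12 := by
  rw [mem_M12_iff]
  exact ⟨wordPerm_mem_M24 wT12, pres_of_presTab isTab_t12 (by decide +kernel)⟩

theorem gM_mem_M12 : gM ∈ Spor.M12 := M11_le_M12 gM_mem_M11
theorem cubeTwist_mem_M12 : cubeTwist ∈ Spor.M12 := M11_le_M12 cubeTwist_mem_M11

/-! ### Stabiliser chains inside `K12` -/

theorem chain12_step' (K : Subgroup (Equiv.Perm GolayPt)) (hK : K ≤ K12) (k : ℕ) (hk : k < 5)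
    (hlev : ∀ c : GolayPt, c ∈ fs d0 → (∀ i < k, c ≠ bpt12 i) →
      ∃ u ∈ K, (∀ i < k, u (bpt12 i) = bpt12 i) ∧ u (bpt12 k) = c) :
    Nat.card (fixL K (bsL12 k)) = (12 - k) * Nat.card (fixL K (bsL12 (k + 1))) := by
  rw [← card_tg12 k hk]
  apply card_eq_orbit_mul (fixL K (bsL12 k)) (bpt12 k) (tg12 k)
  · intro σ hσ
    rw [mem_fixL] at hσ
    have hP := pres_of_mem_K12 (hK hσ.1) (bpt12 k)
    simp only [tg12, Finset.mem_filter, Finset.mem_univ, true_and]
    apply okT12_of ⟨k, hk⟩ ⟨idx (σ (bpt12 k)), idx_lt _⟩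
    · show d0.testBit (idx (σ (bpt12 k))) = true
      rw [hP]
      unfold bpt12
      rw [idx_pt (base12_lt ⟨k, hk⟩)]
      exact base12_mem ⟨k, hk⟩
    · intro i hi e
      have h1 : σ (bpt12 k) = bpt12 i := by
        show σ (bpt12 k) = pt (base12.getD i 0)
        rw [← e, pt_idx]
      have h2 : σ (bpt12 i) = bpt12 i :=
        hσ.2 _ ((mem_bsL12 k _).mpr ⟨i, hi, rfl⟩)
      rw [← h2] at h1
      have hki : k = i.val := bpt12_injective hk i.isLt (σ.injective h1)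
      have hi' : i.val < k := hi
      omega
  · intro c hc
    simp only [tg12, Finset.mem_filter, Finset.mem_univ, true_and] at hc
    obtain ⟨hc1, hc2⟩ := okT12_elim ⟨k, hk⟩ ⟨idx c, idx_lt c⟩ hc
    obtain ⟨u, hu, hu1, hu2⟩ := hlev c ((mem_fs d0 c).mpr hc1) (by
      intro i hi e
      apply hc2 ⟨i, by omega⟩ hi
      show idx c = base12.getD i 0
      rw [e]
      unfold bpt12
      rw [idx_pt (base12_lt ⟨i, by omega⟩)])
    refine ⟨u, ?_, hu2⟩
    rw [mem_fixL]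
    refine ⟨hu, fun b hb => ?_⟩
    obtain ⟨i, hi, rfl⟩ := (mem_bsL12 k b).mp hb
    exact hu1 i hi

theorem fixL_five_eq_bot (K : Subgroup (Equiv.Perm GolayPt)) (hK : K ≤ K12) :
    fixL K (bsL12 5) = ⊥ := by
  rw [eq_bot_iff]
  intro σ hσ
  rw [mem_fixL] at hσ
  rw [Subgroup.mem_bot]
  apply eq_one_of_fixes_base12 (hK hσ.1)
  intro i hi
  exact hσ.2 _ ((mem_bsL12 5 _).mpr ⟨i, hi, rfl⟩)

theorem wprod_mem_of (v : ℕ → Equiv.Perm GolayPt) (K : Subgroup (Equiv.Perm GolayPt))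
    (hv : ∀ k, v k ∈ K) (w : List ℕ) : wprod v w ∈ K := by
  induction w with
  | nil => exact K.one_mem
  | cons g w ih => exact K.mul_mem (hv g) ih

/-- a level of transversal words given by tables. -/
theorem level_of_tab (v : ℕ → Equiv.Perm GolayPt) (T : ℕ → ℕ → ℕ) (hT : ∀ k, IsTab (v k) (T k))
    (K : Subgroup (Equiv.Perm GolayPt)) (hv : ∀ k, v k ∈ K) (tab : List (List (List ℕ)))
    (k0 : ℕ)
    (hcheck : ∀ k : Fin 5, k0 ≤ k.val → ∀ c : Fin 24, okT12 k c = true →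
      (∀ i : Fin 5, i.val < k.val →
        wtab T ((tab.getD k []).getD c []) (base12.getD i 0) = base12.getD i 0) ∧
      wtab T ((tab.getD k []).getD c []) (base12.getD k 0) = c)
    (k : ℕ) (hk : k < 5) (hk0 : k0 ≤ k) (c : GolayPt) (hc : c ∈ fs d0)
    (hne : ∀ i < k, c ≠ bpt12 i) :
    ∃ u ∈ K, (∀ i < k, u (bpt12 i) = bpt12 i) ∧ u (bpt12 k) = c := by
  have hok : okT12 k (idx c) = true := by
    apply okT12_of ⟨k, hk⟩ ⟨idx c, idx_lt c⟩ ((mem_fs d0 c).mp hc)
    intro i hi e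
    apply hne i hi
    show c = pt (base12.getD i 0)
    rw [← e]
    exact (pt_idx c).symm
  obtain ⟨h1, h2⟩ := hcheck ⟨k, hk⟩ hk0 ⟨idx c, idx_lt c⟩ hok
  simp only at h1 h2
  set w := (tab.getD k []).getD (idx c) [] with hw
  have hTw := isTab_wprod v T hT w
  have hmem : wprod v w ∈ K := wprod_mem_of v K hv w
  refine ⟨wprod v w, hmem, ?_, ?_⟩
  · intro i hi
    show wprod v w (pt (base12.getD i 0)) = pt (base12.getD i 0)
    rw [hTw.apply_pt (base12_lt ⟨i, by omega⟩), h1 ⟨i, by omega⟩ hi]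
  · show wprod v w (pt (base12.getD k 0)) = c
    rw [hTw.apply_pt (base12_lt ⟨k, hk⟩), h2, pt_idx]

/-! ### Generation of `M12` -/

noncomputable def v12 : ℕ → Equiv.Perm GolayPt
  | 0 => gM
  | 1 => cubeTwist
  | 2 => t12
  | _ => 1

def T12 : ℕ → ℕ → ℕ
  | 0 => tblM
  | 1 => tbl 2
  | 2 => tblT12
  | _ => id

theorem isTab_v12 (k : ℕ) : IsTab (v12 k) (T12 k) := by
  match k with
  | 0 => exact isTab_gM
  | 1 => exact isTab_cubeTwist
  | 2 => exact isTab_t12
  | (n + 3) => exact IsTab.one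

/-- the group generated by `gM`, the cube twist and `t12`. -/
def G12 : Subgroup (Equiv.Perm GolayPt) := Subgroup.closure {gM, cubeTwist, t12}

theorem v12_mem (k : ℕ) : v12 k ∈ G12 := by
  match k with
  | 0 => exact Subgroup.subset_closure (Or.inl rfl)
  | 1 => exact Subgroup.subset_closure (Or.inr (Or.inl rfl))
  | 2 => exact Subgroup.subset_closure (Or.inr (Or.inr rfl))
  | (n + 3) => exact G12.one_mem

theorem G12_le_M12 : G12 ≤ Spor.M12 := by
  unfold G12
  rw [Subgroup.closure_le]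
  rintro σ (rfl | rfl | rfl)
  · exact gM_mem_M12
  · exact cubeTwist_mem_M12
  · exact t12_mem_M12

def transTab12g : List (List (List ℕ)) := [
  [[],
   [1,0,2],
   [0,1,0,2],
   [2],
   [0,0,1,0,2],
   [],
   [0,2],
   [],
   [1,0,0,2],
   [2,0,2],
   [],
   [],
   [0,0,2],
   [2,0,1,0,2],
   [],
   [],
   [0,1,0,0,2],
   [],
   [1,1,0,2],
   [],
   [],
   [],
   [],
   []],
  [[],
   [],
   [0],
   [0,0,1],
   [0,0],
   [],
   [1,0],
   [],
   [0,0,0],
   [1,0,1],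
   [],
   [],
   [0,1,0],
   [0,1],
   [],
   [],
   [0,0,0,0],
   [],
   [1],
   [],
   [],
   [],
   [],
   []],
  [[],
   [],
   [],
   [1,0,2,0,0,0,2,0,2,0],
   [1,0,2,1,0,0,0,2,0,2,0],
   [],
   [1,1,0],
   [],
   [0,0,1,0],
   [1,1,1,0,0],
   [],
   [],
   [2,1,1,0,0,2,1,0,0,2],
   [2,0,0,0,2,0,2,0,1,0],
   [],
   [],
   [1,1,0,1,1,0],
   [],
   [2,0,2,0,0,0,0,2,0,1],
   [],
   [],
   [],
   [],
   []],
  [[],
   [],
   [],
   [],
   [1,0,2,0,2,0,1,0,2,1],
   [],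
   [1,1,1,0,2,0,2,0,0,0,0,2],
   [],
   [2,0,2,0,0,1,0,0,2,0,2,0,2,0],
   [2,0,0,2,1,0,0,2,0,0,1],
   [],
   [],
   [1,0,2,1,0,2,0,2,0,0,2],
   [0,1,0,2,0,0,0,2,0,2],
   [],
   [],
   [2,0,2,0,1,0,2,1,0,1,1],
   [],
   [2,0,1,0,2,0,2,0,2,1,1],
   [],
   [],
   [],
   [],
   []],
  [[],
   [],
   [],
   [],
   [],
   [],
   [2,1,0,2,0,2,0,0,2,1,0],
   [],
   [2,0,1,0,0,0,2,0,2,1,0,0,2,0,0],
   [1,1,1,0,2,1,0,0,0,2,0,2,0,0,0],
   [],
   [],
   [1,0,0,2,0,2,0,1,0,0,2,0,1,0,2,1,1],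
   [0,2,0,2,1,1,0,2,0,2,1,0,1,1,1,0],
   [],
   [],
   [1,1,0,2,0,2,0,0,2,1,0,2],
   [],
   [2,0,2,0,2,0,0,0,0,0,2,0,2,0,0,1],
   [],
   [],
   [],
   [],
   []]]

theorem trans_check12g : ∀ k : Fin 5, 0 ≤ k.val → ∀ c : Fin 24, okT12 k c = true →
    (∀ i : Fin 5, i.val < k.val →
      wtab T12 ((transTab12g.getD k []).getD c []) (base12.getD i 0) = base12.getD i 0) ∧
    wtab T12 ((transTab12g.getD k []).getD c []) (base12.getD k 0) = c := by
  decide +kernel

/-- any group between the generated group and `M12` has order 95040. -/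
theorem card_of_between12 (K : Subgroup (Equiv.Perm GolayPt)) (h1 : G12 ≤ K) (h2 : K ≤ Spor.M12) :
    Nat.card K = 95040 := by
  have hK : K ≤ K12 := by rw [← M12_eq_K12]; exact h2
  have hlev := fun k hk => level_of_tab v12 T12 isTab_v12 K (fun k => h1 (v12_mem k)) transTab12g 0
    trans_check12g k hk (Nat.zero_le k)
  have s0 := chain12_step' K hK 0 (by decide) (hlev 0 (by decide))
  have s1 := chain12_step' K hK 1 (by decide) (hlev 1 (by decide))
  have s2 := chain12_step' K hK 2 (by decide) (hlev 2 (by decide))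
  have s3 := chain12_step' K hK 3 (by decide) (hlev 3 (by decide))
  have s4 := chain12_step' K hK 4 (by decide) (hlev 4 (by decide))
  have s5 : Nat.card (fixL K (bsL12 5)) = 1 := by
    rw [fixL_five_eq_bot K hK]; exact Subgroup.card_bot
  have e0 : fixL K (bsL12 0) = K := rfl
  simp only [Nat.reduceAdd, Nat.reduceSub] at s0 s1 s2 s3 s4
  rw [← e0, s0, s1, s2, s3, s4, s5]

theorem G12_eq_M12 : G12 = Spor.M12 := by
  apply Subgroup.eq_of_le_of_card_ge G12_le_M12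
  rw [card_M12, card_of_between12 G12 le_rfl G12_le_M12]

/-! ### Generation of `M11` -/

noncomputable def v11 : ℕ → Equiv.Perm GolayPt
  | 0 => gM
  | 1 => cubeTwist
  | 2 => s11
  | _ => 1

def T11 : ℕ → ℕ → ℕ
  | 0 => tblM
  | 1 => tbl 2
  | 2 => tblS11
  | _ => id

theorem isTab_v11 (k : ℕ) : IsTab (v11 k) (T11 k) := by
  match k with
  | 0 => exact isTab_gM
  | 1 => exact isTab_cubeTwist
  | 2 => exact isTab_s11
  | (n + 3) => exact IsTab.one

/-- the group generated by `gM`, the cube twist and `s11`. -/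
def G11 : Subgroup (Equiv.Perm GolayPt) := Subgroup.closure {gM, cubeTwist, s11}

theorem v11_mem (k : ℕ) : v11 k ∈ G11 := by
  match k with
  | 0 => exact Subgroup.subset_closure (Or.inl rfl)
  | 1 => exact Subgroup.subset_closure (Or.inr (Or.inl rfl))
  | 2 => exact Subgroup.subset_closure (Or.inr (Or.inr rfl))
  | (n + 3) => exact G11.one_mem

theorem G11_le_M11 : G11 ≤ Spor.M11 := by
  unfold G11
  rw [Subgroup.closure_le]
  rintro σ (rfl | rfl | rfl)
  · exact gM_mem_M11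
  · exact cubeTwist_mem_M11
  · exact s11_mem_M11

def transTab11g : List (List (List ℕ)) := [
  [[],
   [],
   [],
   [],
   [],
   [],
   [],
   [],
   [],
   [],
   [],
   [],
   [],
   [],
   [],
   [],
   [],
   [],
   [],
   [],
   [],
   [],
   [],
   []],
  [[],
   [],
   [0],
   [0,0,1],
   [0,0],
   [],
   [1,0],
   [],
   [0,0,0],
   [1,0,1],
   [],
   [],
   [0,1,0],
   [0,1],
   [],
   [],
   [0,0,0,0],
   [],
   [1],
   [],
   [],
   [],
   [],
   []],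
  [[],
   [],
   [],
   [0,0,2,2,1],
   [2,2],
   [],
   [1,1,0],
   [],
   [0,0,1,0],
   [1,1,1,0,0],
   [],
   [],
   [1,1,0,2],
   [1,2,0,0],
   [],
   [],
   [2,0,0,1,0],
   [],
   [2],
   [],
   [],
   [],
   [],
   []],
  [[],
   [],
   [],
   [],
   [2,1,1,0],
   [],
   [2,2,2,0,0,2,0,0],
   [],
   [2,1,0,0,0,2,0],
   [0,0,1,2,2,0,0],
   [],
   [],
   [2,2,0,0,2,1,1],
   [0,1,2,0,0,1,2,0],
   [],
   [],
   [0,1,2,0,0,1,1],
   [],
   [1,2,0,2,2,0,0],
   [],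
   [],
   [],
   [],
   []],
  [[],
   [],
   [],
   [],
   [],
   [],
   [2,2,1,1,0,0,2,0,1,0],
   [],
   [0,0,2,1,0,2,1,2,0,1],
   [1,0,1,2,0,0,2,0,2,2],
   [],
   [],
   [0,2,2,0,1,2,2,0,0],
   [2,1,0,0,1,2,0,0,0],
   [],
   [],
   [2,0,2,0,1,1,0,0],
   [],
   [1,0,1,2,1,0,0,1],
   [],
   [],
   [],
   [],
   []]]

theorem trans_check11g : ∀ k : Fin 5, 1 ≤ k.val → ∀ c : Fin 24, okT12 k c = true →
    (∀ i : Fin 5, i.val < k.val →
      wtab T11 ((transTab11g.getD k []).getD c []) (base12.getD i 0) = base12.getD i 0) ∧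
    wtab T11 ((transTab11g.getD k []).getD c []) (base12.getD k 0) = c := by
  decide +kernel

/-- any group between the generated group and `M11` has order 7920. -/
theorem card_of_between11 (K : Subgroup (Equiv.Perm GolayPt)) (h1 : G11 ≤ K) (h2 : K ≤ Spor.M11) :
    Nat.card K = 7920 := by
  have hK : K ≤ K12 := by rw [← M12_eq_K12]; exact le_trans h2 M11_le_M12
  have hlev := fun k hk hk1 => level_of_tab v11 T11 isTab_v11 K (fun k => h1 (v11_mem k))
    transTab11g 1 trans_check11g k hk hk1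
  have s1 := chain12_step' K hK 1 (by decide) (hlev 1 (by decide) (by decide))
  have s2 := chain12_step' K hK 2 (by decide) (hlev 2 (by decide) (by decide))
  have s3 := chain12_step' K hK 3 (by decide) (hlev 3 (by decide) (by decide))
  have s4 := chain12_step' K hK 4 (by decide) (hlev 4 (by decide) (by decide))
  have s5 : Nat.card (fixL K (bsL12 5)) = 1 := by
    rw [fixL_five_eq_bot K hK]; exact Subgroup.card_bot
  have e0 : fixL K (bsL12 1) = K := by
    show K ⊓ stabilizer (Equiv.Perm GolayPt) (bpt12 0) = K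
    rw [inf_eq_left]
    intro σ hσ
    exact ((mem_M11_iff σ).mp (h2 hσ)).2.2
  simp only [Nat.reduceAdd, Nat.reduceSub] at s1 s2 s3 s4
  rw [← e0, s1, s2, s3, s4, s5]

theorem G11_eq_M11 : G11 = Spor.M11 := by
  apply Subgroup.eq_of_le_of_card_ge G11_le_M11
  rw [card_M11, card_of_between11 G11 le_rfl G11_le_M11]

end Cfsg.Agent.Lib.Helper10
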