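import Cfsg.Agent.Lib.Helper10.M12

set_option autoImplicit false

namespace Cfsg.Agent.Lib.Helper10

open Cfsg MulAction
open scoped Pointwise

/-! ### Subgroups of a subgroup versus subgroups of the ambient group -/

theorem map_stabilizer_sub {X : Type*} [MulAction (Equiv.Perm GolayPt) X]
    (K : Subgroup (Equiv.Perm GolayPt)) (x : X) :
    (stabilizer ↥K x).map K.subtype = K ⊓ stabilizer (Equiv.Perm GolayPt) x := by
  ext g
  simp only [Subgroup.mem_map, Subgroup.mem_inf, mem_stabilizer_iff, Subgroup.coe_subtype]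
  constructor
  · rintro ⟨k, hk, rfl⟩
    exact ⟨k.2, hk⟩
  · rintro ⟨h1, h2⟩
    exact ⟨⟨g, h1⟩, h2, rfl⟩

theorem card_stabilizer_sub {X : Type*} [MulAction (Equiv.Perm GolayPt) X]
    (K : Subgroup (Equiv.Perm GolayPt)) (x : X) :
    Nat.card (stabilizer ↥K x) = Nat.card ↥(K ⊓ stabilizer (Equiv.Perm GolayPt) x) := by
  rw [← map_stabilizer_sub, Subgroup.card_subtype]

theorem card_stabilizer_inf_sub {X Y : Type*} [MulAction (Equiv.Perm GolayPt) X]
    [MulAction (Equiv.Perm GolayPt) Y]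
    (K : Subgroup (Equiv.Perm GolayPt)) (x : X) (y : Y) :
    Nat.card ↥(stabilizer ↥K x ⊓ stabilizer ↥K y) =
      Nat.card ↥(K ⊓ stabilizer (Equiv.Perm GolayPt) x ⊓ stabilizer (Equiv.Perm GolayPt) y) := by
  rw [← Subgroup.card_subtype K (stabilizer ↥K x ⊓ stabilizer ↥K y),
    Subgroup.map_inf _ _ _ K.subtype_injective, map_stabilizer_sub, map_stabilizer_sub]
  congr 2
  ext g
  simp only [Subgroup.mem_inf]
  tauto

/-! ### Pointwise stabilisers along a list of points -/

/-- the elements of `K` fixing every point of a list. -/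
def fixL (K : Subgroup (Equiv.Perm GolayPt)) : List GolayPt → Subgroup (Equiv.Perm GolayPt)
  | [] => K
  | b :: bs => fixL K bs ⊓ stabilizer (Equiv.Perm GolayPt) b

theorem mem_fixL (K : Subgroup (Equiv.Perm GolayPt)) (bs : List GolayPt) (σ : Equiv.Perm GolayPt) :
    σ ∈ fixL K bs ↔ σ ∈ K ∧ ∀ b ∈ bs, σ b = b := by
  induction bs with
  | nil => simp [fixL]
  | cons b bs ih =>
    simp only [fixL, Subgroup.mem_inf, ih, mem_stabilizer_iff, Equiv.Perm.smul_def,
      List.mem_cons, forall_eq_or_imp]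
    tauto

/-- the first `k` base points on the dodecad, last first. -/
def bsL12 : ℕ → List GolayPt
  | 0 => []
  | k + 1 => bpt12 k :: bsL12 k

theorem mem_bsL12 (k : ℕ) (b : GolayPt) : b ∈ bsL12 k ↔ ∃ i < k, b = bpt12 i := by
  induction k with
  | zero => simp [bsL12]
  | succ k ih =>
    simp only [bsL12, List.mem_cons, ih]
    constructor
    · rintro (rfl | ⟨i, hi, rfl⟩)
      · exact ⟨k, by omega, rfl⟩
      · exact ⟨i, by omega, rfl⟩
    · rintro ⟨i, hi, rfl⟩
      rcases Nat.lt_succ_iff_lt_or_eq.mp hi with h | rfl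
      · exact Or.inr ⟨i, h, rfl⟩
      · exact Or.inl rfl

/-- targets at level `k` of the chain on the dodecad. -/
def okT12 (k c : ℕ) : Bool := d0.testBit c && !((base12.take k).contains c)

def tg12 (k : ℕ) : Finset GolayPt := Finset.univ.filter (fun c => okT12 k (idx c) = true)

theorem card_tg12_aux : ∀ k : Fin 5, (List.range 24).countP (okT12 k) = 12 - k := by decide +kernel

theorem card_tg12 (k : ℕ) (hk : k < 5) : (tg12 k).card = 12 - k := by
  unfold tg12
  rw [card_filter_idx]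
  exact card_tg12_aux ⟨k, hk⟩

theorem base12_inj : ∀ i j : Fin 5, base12.getD i 0 = base12.getD j 0 → i = j := by decide

theorem bpt12_injective {i j : ℕ} (hi : i < 5) (hj : j < 5) (h : bpt12 i = bpt12 j) : i = j := by
  have h1 : idx (bpt12 i) = idx (bpt12 j) := by rw [h]
  unfold bpt12 at h1
  rw [idx_pt (base12_lt ⟨i, hi⟩), idx_pt (base12_lt ⟨j, hj⟩)] at h1
  exact Fin.mk.inj_iff.mp (base12_inj ⟨i, hi⟩ ⟨j, hj⟩ h1)

theorem base12_mem : ∀ i : Fin 5, d0.testBit (base12.getD i 0) = true := by decide +kernel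

theorem okT12_of : ∀ k : Fin 5, ∀ c : Fin 24, d0.testBit c = true →
    (∀ i : Fin 5, i.val < k.val → c.val ≠ base12.getD i 0) → okT12 k c = true := by decide +kernel

theorem okT12_elim : ∀ k : Fin 5, ∀ c : Fin 24, okT12 k c = true →
    d0.testBit c = true ∧ (∀ i : Fin 5, i.val < k.val → c.val ≠ base12.getD i 0) := by decide +kernel

theorem chain12_step (k : ℕ) (hk : k < 5) :
    Nat.card (fixL K12 (bsL12 k)) = (12 - k) * Nat.card (fixL K12 (bsL12 (k + 1))) := by
  rw [← card_tg12 k hk]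
  apply card_eq_orbit_mul (fixL K12 (bsL12 k)) (bpt12 k) (tg12 k)
  · intro σ hσ
    rw [mem_fixL] at hσ
    have hP := pres_of_mem_K12 hσ.1 (bpt12 k)
    simp only [tg12, Finset.mem_filter, Finset.mem_univ, true_and]
    apply okT12_of ⟨k, hk⟩ ⟨idx (σ (bpt12 k)), idx_lt _⟩
    · show d0.testBit (idx (σ (bpt12 k))) = true
      rw [hP]
      unfold bpt12
      rw [idx_pt (base12_lt ⟨k, hk⟩)]
      exact base12_mem ⟨k, hk⟩
    · intro i hi e
      have h1 : σ (bpt12 k) = bpt12 i := by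
        show σ (bpt12 k) = pt (base12.getD i 0)
        rw [← e, pt_idx]
      have h2 : σ (bpt12 i) = bpt12 i :=
        hσ.2 _ ((mem_bsL12 k _).mpr ⟨i, hi, rfl⟩)
      rw [← h2] at h1
      have hki : k = i.val := bpt12_injective hk i.isLt (σ.injective h1)
      have hi' : i.val < k := hi
      omega
  · intro c hc
    simp only [tg12, Finset.mem_filter, Finset.mem_univ, true_and] at hc
    obtain ⟨hc1, hc2⟩ := okT12_elim ⟨k, hk⟩ ⟨idx c, idx_lt c⟩ hc
    obtain ⟨u, hu, hu1, hu2⟩ := level12 k hk c ((mem_fs d0 c).mpr hc1) (by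
      intro i hi e
      apply hc2 ⟨i, by omega⟩ hi
      show idx c = base12.getD i 0
      rw [e]
      unfold bpt12
      rw [idx_pt (base12_lt ⟨i, by omega⟩)])
    refine ⟨u, ?_, hu2⟩
    rw [mem_fixL]
    refine ⟨hu, fun b hb => ?_⟩
    obtain ⟨i, hi, rfl⟩ := (mem_bsL12 k b).mp hb
    exact hu1 i hi

/-- only the identity preserves `d0` and the code and fixes the five base points of `d0`. -/
theorem fixL12_eq_bot : fixL K12 (bsL12 5) = ⊥ := by
  have h0 := chain12_step 0 (by decide)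
  have h1 := chain12_step 1 (by decide)
  have h2 := chain12_step 2 (by decide)
  have h3 := chain12_step 3 (by decide)
  have h4 := chain12_step 4 (by decide)
  have hK : Nat.card (fixL K12 (bsL12 0)) = 95040 := card_K12
  simp only [Nat.reduceAdd, Nat.reduceSub] at h0 h1 h2 h3 h4
  rw [hK, h1, h2, h3, h4] at h0
  have : Nat.card (fixL K12 (bsL12 5)) = 1 := by omega
  exact Subgroup.card_eq_one.mp this

theorem eq_one_of_fixes_base12 {σ : Equiv.Perm GolayPt} (hσ : σ ∈ K12)
    (h : ∀ i < 5, σ (bpt12 i) = bpt12 i) : σ = 1 := by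
  have : σ ∈ fixL K12 (bsL12 5) := by
    rw [mem_fixL]
    refine ⟨hσ, fun b hb => ?_⟩
    obtain ⟨i, hi, rfl⟩ := (mem_bsL12 5 b).mp hb
    exact h i hi
  rw [fixL12_eq_bot] at this
  exact Subgroup.mem_bot.mp this

/-- sharp 5-transitivity of the stabiliser of `d0` on `d0`: uniqueness. -/
theorem eq_one_of_fixes_five {σ : Equiv.Perm GolayPt} (hσ : σ ∈ K12) (x : Fin 5 ↪ GolayPt)
    (hx : ∀ i, x i ∈ fs d0) (h : ∀ i, σ (x i) = x i) : σ = 1 := by
  obtain ⟨g, hg, hgx⟩ := five_trans12 x hx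
  have : g⁻¹ * σ * g = 1 := by
    apply eq_one_of_fixes_base12 (K12.mul_mem (K12.mul_mem (K12.inv_mem hg) hσ) hg)
    intro i hi
    show g⁻¹ (σ (g (bpt12 i))) = bpt12 i
    rw [hgx ⟨i, hi⟩, h, ← hgx ⟨i, hi⟩]
    simp
  have h2 : σ = g * (g⁻¹ * σ * g) * g⁻¹ := by group
  rw [h2, this]
  group

end Cfsg.Agent.Lib.Helper10
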