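import Cfsg.Agent.Lib.Helper10.OutM24
import Cfsg.Prelude.Def_Spor_Mathieu

set_option autoImplicit false

namespace Cfsg.Agent.Lib.Helper10

open Cfsg MulAction
open scoped Pointwise

/-- transversal words in the shift and the cube twist only, for the levels `1..6`. -/
def transTab23 : List (List (List ℕ)) := [
  [[],
   [],
   [],
   [],
   [],
   [],
   [],
   [],
   [],
   [],
   [],
   [],
   [],
   [],
   [],
   [],
   [],
   [],
   [],
   [],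
   [],
   [],
   [],
   []],
  [[],
   [0],
   [0,0],
   [0,0,0],
   [4,0,0],
   [3,4,0],
   [4,0],
   [0,4,0],
   [0,0,4,0],
   [2,3,2,3],
   [4,0,4,0],
   [4,4,3],
   [3,3,2,3],
   [3,2,3],
   [2,3],
   [0,2,3],
   [3,3,2,0],
   [3,2,0],
   [2,0],
   [4,3],
   [2,3,3],
   [3,3],
   [3],
   []],
  [[],
   [],
   [4,4],
   [0,2,0,4,4,0,0],
   [2,2],
   [0,0,2,3,4,0],
   [4],
   [0,0,4,3,3,3],
   [4,3,3,4,4,0],
   [3,2,0,4,3,3],
   [0,2,3,2,3,3],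
   [0,4,4,3,2,0],
   [3,2,2,0,0,4],
   [2,3,3,4,4,0],
   [0,0,4,0,0,2,0],
   [3,3,4,4,0,2],
   [3,3,4,4,0],
   [0,0,0,2,3,3],
   [2],
   [3,3,2,0,0,0,0],
   [3,2,0,0,4,0,0],
   [2,0,0,2,3,4,0],
   [3,3,3,2,0,0,0],
   []],
  [[],
   [],
   [],
   [2,0,2,0,2,0],
   [0,2,3,2,2,3,2,0,0],
   [3,3,4,0,0,2,2,0],
   [4,0,0,2,2,0,4,0,2],
   [0,2,3,4,4,0,2,0,0],
   [2,3,2,2,0,0,2],
   [2,3,2,3,4,4,3,3],
   [4,0,2,3,3,3,3,2],
   [3,3,3,4,3,4,0,0],
   [4,3,3,4,4,0,4],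
   [2,0,4,4,0,4,3,2,3],
   [4,3,2,2,3,4,0,0,0],
   [3,3,4,4,0,4,4],
   [3,3,4,0,2,0,2,0,0],
   [4,0,0,0,0,4,3,2],
   [2,2,0,4,4,3,2,0,4],
   [3,4,4,0,2,3,2,2,0],
   [2,2,3,2,2,0,0],
   [4,4,0,0,0,0,4,3],
   [3,4,4,3,3,2,0,0],
   []],
  [[],
   [],
   [],
   [],
   [0,2,0,2,0,2],
   [3,4,4,3,3,3,4,3,2,0,0],
   [4,4,0,0,2,0,4,0,0],
   [3,3,4,4,3,2,3,2,0,2,0,0,2],
   [0,4,3,4,3,3,4,4,0,2,0],
   [3,4,3,2,0,4,0,4,0,2],
   [3,3,2,2,3,4,0,2,0,0,0,0,0],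
   [3,2,3,4,0,2,2,0,2,2],
   [0,2,2,3,4,3,3,3,2,3,2,0],
   [3,4,0,0,0,2,3,3,3,2,0],
   [2,0,0,0,2,2,3,4,0],
   [0,0,0,0,0,4,0,0,0,0,2],
   [2,2,0,4,4,0,0,4,4,0,2,3],
   [3,2,0,4,4,3,3,3,4],
   [3,4,0,0,0,4,3,3,3,2,0],
   [3,3,2,3,4,3,3,2,2],
   [3,4,3,2,2,0,0,2,0,2,3],
   [4,3,2,3,2,3,4,0,2,0],
   [2,3,3,4,3,3,2,0,4,4,3],
   []],
  [[],
   [],
   [],
   [],
   [],
   [],
   [2,2,3,2,3,3,3,2,3,2,3,2,2],
   [3,4,0,0,2,0,2,3,3,4,0,0,4,0,2],
   [2,0,4,4,0,2,2,0,0,2,0,4,3,2],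
   [3,2,3,3,3,4,0,4,3,3,3,3,4],
   [3,4,0,2,2,3,4,4,3,3,3,3,4,0,0],
   [3,2,2,3,4,0,2,0,0,0,0],
   [2,2,3,4,3,3,3,2,0,2,2,0],
   [0,2,0,0,4,0,4,3,2,0,4,4,3,2],
   [],
   [4,0,4,3,3,4,4,0,0,2,3,2,3,2,0],
   [3,4,0,2,2,3,4,3,3,2,0,0,0,0],
   [],
   [3,4,4,3,4,3,3,3,4,3,3,2,3,3],
   [0,2,0,2,0,4,3,4,4,3,2,0,4,0],
   [3,3,3,3,4,3,2,0,4,4,0],
   [4,4,0,2,0,4,0,4,0,0,0,2],
   [2,0,4,0,0,0,4,3,3,2,0,2,2,0],
   []],
  [[],
   [],
   [],
   [],
   [],
   [],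
   [],
   [],
   [],
   [],
   [],
   [],
   [],
   [],
   [4,3,4,0,4,3,3,3,4,3,3,3,3,3,3,4],
   [],
   [],
   [2,0,2,0,2,3,4,0,4,4,0,0,2,0,2],
   [],
   [],
   [],
   [],
   [],
   []]]

/-- the word moving the `k`-th base point to the point of index `c`, fixing the earlier ones. -/
def wordAt23 (k c : ℕ) : List ℕ := (transTab23.getD k []).getD c []

/-- only the letters of the shift and the cube twist. -/
def okLetters (w : List ℕ) : Bool := w.all fun g => g == 0 || g == 2 || g == 3 || g == 4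

theorem trans_check23 : ∀ k : Fin 7, 1 ≤ k.val → ∀ c : Fin 24, okTarget k c = true →
    ((∀ i : Fin 7, i.val < k.val → evalW (wordAt23 k c) (base.getD i 0) = base.getD i 0) ∧
      evalW (wordAt23 k c) (base.getD k 0) = c) ∧ okLetters (wordAt23 k c) = true := by
  decide +kernel

/-- the group generated by the shift and the cube twist. -/
def K23 : Subgroup (Equiv.Perm GolayPt) := Subgroup.closure {gA, cubeTwist}

theorem wordPerm_mem_K23 (w : List ℕ) (h : okLetters w = true) : wordPerm w ∈ K23 := by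
  have h0 : gA ∈ K23 := Subgroup.subset_closure (by simp)
  have h2 : cubeTwist ∈ K23 := Subgroup.subset_closure (by simp)
  induction w with
  | nil => exact K23.one_mem
  | cons g w ih =>
    unfold okLetters at h
    rw [List.all_cons, Bool.and_eq_true] at h
    have hw : wordPerm w ∈ K23 := ih h.2
    have hg : gen g ∈ K23 := by
      have h1 := h.1
      simp only [Bool.or_eq_true, beq_iff_eq] at h1
      rcases h1 with ((rfl | rfl) | rfl) | rfl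
      · exact h0
      · exact h2
      · exact K23.inv_mem h0
      · exact K23.inv_mem h2
    exact K23.mul_mem hg hw

theorem level23 (k : ℕ) (hk : k < 7) (hk1 : 1 ≤ k) (c : GolayPt) (hc : okTarget k (idx c) = true) :
    ∃ u ∈ K23, (∀ i < k, u (bpt i) = bpt i) ∧ u (bpt k) = c := by
  obtain ⟨⟨h1, h2⟩, h3⟩ := trans_check23 ⟨k, hk⟩ hk1 ⟨idx c, idx_lt c⟩ hc
  refine ⟨wordPerm (wordAt23 k (idx c)), wordPerm_mem_K23 _ h3, ?_, ?_⟩
  · intro i hi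
    exact wordPerm_pt (base_lt ⟨i, by omega⟩) (h1 ⟨i, by omega⟩ hi)
  · have := wordPerm_pt (base_lt ⟨k, hk⟩) h2
    rw [pt_idx] at this
    exact this

theorem chain_step' (K : Subgroup (Equiv.Perm GolayPt)) (hK : K ≤ M24) (k : ℕ) (hk : k < 7)
    (hlev : ∀ c : GolayPt, okTarget k (idx c) = true →
      ∃ u ∈ K, (∀ i < k, u (bpt i) = bpt i) ∧ u (bpt k) = c) :
    Nat.card (chain K k) = [24, 23, 22, 21, 20, 16, 3].getD k 0 * Nat.card (chain K (k + 1)) := by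
  rw [← card_targets k hk]
  apply card_eq_orbit_mul (chain K k) (bpt k) (targets k)
  · intro σ hσ
    rw [mem_chain] at hσ
    exact orbit_subset (hK hσ.1) k hk hσ.2
  · intro c hc
    rw [mem_targets] at hc
    obtain ⟨u, hu, hu1, hu2⟩ := hlev c hc
    refine ⟨u, ?_, hu2⟩
    rw [mem_chain]
    exact ⟨hu, hu1⟩

theorem K23_le_M23 : K23 ≤ Spor.M23 := by
  unfold K23
  rw [Subgroup.closure_le]
  rintro σ (rfl | rfl)
  · exact ⟨H_le_M24 (gen_mem_H 0), rfl⟩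
  · exact ⟨H_le_M24 (gen_mem_H 2), rfl⟩

theorem M23_le_M24 : Spor.M23 ≤ M24 := inf_le_left

/-- any group between the generated group and `M23` has order 10200960. -/
theorem card_of_between23 (K : Subgroup (Equiv.Perm GolayPt)) (h1 : K23 ≤ K) (h2 : K ≤ Spor.M23) :
    Nat.card K = 10200960 := by
  have hK : K ≤ M24 := le_trans h2 M23_le_M24
  have hlev : ∀ k, k < 7 → 1 ≤ k → ∀ c : GolayPt, okTarget k (idx c) = true →
      ∃ u ∈ K, (∀ i < k, u (bpt i) = bpt i) ∧ u (bpt k) = c := by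
    intro k hk hk1 c hc
    obtain ⟨u, hu, hu'⟩ := level23 k hk hk1 c hc
    exact ⟨u, h1 hu, hu'⟩
  have e0 : chain K 1 = K := by
    show K ⊓ stabilizer (Equiv.Perm GolayPt) (bpt 0) = K
    rw [inf_eq_left]
    intro σ hσ
    exact (h2 hσ).2
  have s1 := chain_step' K hK 1 (by decide) (hlev 1 (by decide) (by decide))
  have s2 := chain_step' K hK 2 (by decide) (hlev 2 (by decide) (by decide))
  have s3 := chain_step' K hK 3 (by decide) (hlev 3 (by decide) (by decide))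
  have s4 := chain_step' K hK 4 (by decide) (hlev 4 (by decide) (by decide))
  have s5 := chain_step' K hK 5 (by decide) (hlev 5 (by decide) (by decide))
  have s6 := chain_step' K hK 6 (by decide) (hlev 6 (by decide) (by decide))
  have s7 : Nat.card (chain K 7) = 1 := by
    rw [chain_seven K hK]; exact Subgroup.card_bot
  simp only [List.getD_cons_zero, List.getD_cons_succ] at s1 s2 s3 s4 s5 s6
  rw [← e0, s1, s2, s3, s4, s5, s6, s7]

theorem card_M23 : Nat.card Spor.M23 = 10200960 := card_of_between23 _ K23_le_M23 le_rfl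

theorem K23_eq_M23 : K23 = Spor.M23 := by
  apply Subgroup.eq_of_le_of_card_ge K23_le_M23
  rw [card_M23, card_of_between23 K23 le_rfl K23_le_M23]

end Cfsg.Agent.Lib.Helper10
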