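import Cfsg.Agent.Lib.Helper10.CentC
import Cfsg.Agent.Lib.Helper10.M23Gen

set_option autoImplicit false

namespace Cfsg.Agent.Lib.Helper10

open Cfsg MulAction
open scoped Pointwise

/-- a word for an element of order four normalising the cube twist in `M22`. -/
def wS22 : List ℕ := [2,2,0,4,4,3,2,0,4,2,2,0,4,4,0,0,4,4,0,2,3,0,2,0,2,0,4,3,4,4,3,2,0,4,0]

/-- its table. -/
def tblS22L : List ℕ := [0,1,18,15,6,13,2,8,10,7,9,14,21,20,17,3,5,19,4,11,16,12,22,23]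

def tblS22 (i : ℕ) : ℕ := tblS22L.getD i i

noncomputable def s22 : Equiv.Perm GolayPt := wordPerm wS22

theorem tblS22_check : ∀ i : Fin 24, evalW wS22 i = tblS22 i := by decide +kernel

theorem isTab_s22 : IsTab s22 tblS22 := by
  intro p
  show idx (wordPerm wS22 p) = _
  rw [evalW_spec]
  exact tblS22_check ⟨idx p, idx_lt p⟩

theorem s22_mem_M24 : s22 ∈ M24 := wordPerm_mem_M24 wS22

theorem mem_M22_iff (σ : Equiv.Perm GolayPt) :
    σ ∈ Spor.M22 ↔ σ ∈ M24 ∧ σ (pt 23) = pt 23 ∧ σ (pt 0) = pt 0 := by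
  unfold Spor.M22 Spor.M23
  simp only [Subgroup.mem_inf, mem_stabilizer_iff, Equiv.Perm.smul_def]
  have h1 : (none : GolayPt) = pt 23 := rfl
  have h2 : (some 0 : GolayPt) = pt 0 := rfl
  rw [h1, h2]
  tauto

theorem M22_le_M24 : Spor.M22 ≤ M24 := fun σ h => ((mem_M22_iff σ).mp h).1

theorem gM_mem_M22 : gM ∈ Spor.M22 := by
  rw [mem_M22_iff]
  exact ⟨gM_mem, isTab_gM.apply_pt (by decide), isTab_gM.apply_pt (by decide)⟩

theorem cubeTwist_mem_M22 : cubeTwist ∈ Spor.M22 := by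
  rw [mem_M22_iff]
  exact ⟨H_le_M24 (gen_mem_H 2), isTab_cubeTwist.apply_pt (by decide),
    isTab_cubeTwist.apply_pt (by decide)⟩

theorem s22_mem_M22 : s22 ∈ Spor.M22 := by
  rw [mem_M22_iff]
  exact ⟨s22_mem_M24, isTab_s22.apply_pt (by decide), isTab_s22.apply_pt (by decide)⟩

/-- the generators of `M22`. -/
noncomputable def v22 : ℕ → Equiv.Perm GolayPt
  | 0 => gM
  | 1 => cubeTwist
  | 2 => s22
  | _ => 1

def T22 : ℕ → ℕ → ℕ
  | 0 => tblM
  | 1 => tbl 2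
  | 2 => tblS22
  | _ => id

theorem isTab_v22 (k : ℕ) : IsTab (v22 k) (T22 k) := by
  match k with
  | 0 => exact isTab_gM
  | 1 => exact isTab_cubeTwist
  | 2 => exact isTab_s22
  | (n + 3) => exact IsTab.one

/-- the group generated by `gM`, the cube twist and `s22`. -/
def K22 : Subgroup (Equiv.Perm GolayPt) := Subgroup.closure {gM, cubeTwist, s22}

theorem v22_mem (k : ℕ) : v22 k ∈ K22 := by
  match k with
  | 0 => exact Subgroup.subset_closure (Or.inl rfl)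
  | 1 => exact Subgroup.subset_closure (Or.inr (Or.inl rfl))
  | 2 => exact Subgroup.subset_closure (Or.inr (Or.inr rfl))
  | (n + 3) => exact K22.one_mem

theorem wprod_v22_mem (w : List ℕ) : wprod v22 w ∈ K22 := by
  induction w with
  | nil => exact K22.one_mem
  | cons k w ih => exact K22.mul_mem (v22_mem k) ih

theorem K22_le_M22 : K22 ≤ Spor.M22 := by
  unfold K22
  rw [Subgroup.closure_le]
  rintro σ (rfl | rfl | rfl)
  · exact gM_mem_M22
  · exact cubeTwist_mem_M22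
  · exact s22_mem_M22

/-- transversal words in the generators of `M22`, for the levels `2..6`. -/
def transTab22 : List (List (List ℕ)) := [
  [[],
   [],
   [],
   [],
   [],
   [],
   [],
   [],
   [],
   [],
   [],
   [],
   [],
   [],
   [],
   [],
   [],
   [],
   [],
   [],
   [],
   [],
   [],
   []],
  [[],
   [],
   [],
   [],
   [],
   [],
   [],
   [],
   [],
   [],
   [],
   [],
   [],
   [],
   [],
   [],
   [],
   [],
   [],
   [],
   [],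
   [],
   [],
   []],
  [[],
   [],
   [0],
   [0,0,1],
   [0,0],
   [2,0,0,0,0],
   [1,0],
   [2,1,0,1],
   [0,0,0],
   [1,0,1],
   [2,0,0,0],
   [0,0,2,0,1],
   [0,1,0],
   [0,1],
   [0,2,1,0,1],
   [2,0,0,1],
   [0,0,0,0],
   [0,2,0,1],
   [1],
   [0,2,0,1,0],
   [2,0,1],
   [2,0,1,0],
   [1,0,2,0,1,0],
   []],
  [[],
   [],
   [],
   [0,0,2,2,1],
   [2,2],
   [1,2,0,1,0,0],
   [1,1,0],
   [1,2,0,0],
   [0,0,1,0],
   [1,1,1,0,0],
   [2,0,0,1,0],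
   [2,2,0,0,2,0,0],
   [1,1,0,2],
   [0,0,1,0,2],
   [0,0,2,0,0,2],
   [1,2,0,0,2],
   [1,1,0,1,1,0],
   [0,0,2,0,0],
   [2],
   [2,0,0,2,0,0],
   [1,2,0,1,2,1],
   [2,1,1,0,2],
   [1,2,0,2,1,1,0,0],
   []],
  [[],
   [],
   [],
   [],
   [2,1,1,0],
   [2,0,2,2,0,1,1,0,0],
   [1,1,0,2,2,0,0,1,0],
   [2,2,1,2,0,2,2,1,2,0],
   [0,2,1,2,0,0,1,2,0],
   [0,0,1,2,2,0,0],
   [2,0,0,1,2,2,0,2,1,0],
   [0,2,1,1,0,2,0,0,1],
   [1,0,2,2,1,1,0,0,2,0],
   [2,1,0,2,0,0,2,0,1,0],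
   [0,1,0,2,0,0,2,2,2,0,1],
   [2,1,2,0,2,2,0,0,2],
   [1,1,0,2,1,2,0,2,1,0],
   [1,0,0,1,2,0,2,0,0,0,2],
   [1,2,0,2,2,0,0],
   [2,2,0,0,2,1,1],
   [2,1,0,0,0,2,0],
   [2,0,1,2,2,0,0,2,1,0],
   [0,1,2,2,2,0,2,0,0,1],
   []],
  [[],
   [],
   [],
   [],
   [],
   [],
   [0,1,2,0,2,1,0,1,2,0],
   [2,1,2,0,1,2,0,2,0,2,1,0,0,0],
   [2,0,2,0,2,1,2,2,0,1,2,0,0,0],
   [2,2,1,0,2,0,1,2,0,2,0,2,0,0],
   [0,1,2,1,0,2,2,1,0,2,0,0,1,1],
   [0,1,2,0,1,2,0,2,0,2,0,0,0],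
   [0,2,2,0,1,2,2,0,0],
   [2,0,0,2,2,2,0,2,0,0,1,0],
   [],
   [2,0,2,1,0,2,0,0,2,0,1,2],
   [1,0,2,0,0,2,2,0,2,0,0,0,2,0,1],
   [],
   [2,1,1,0,2,2,0,0,2,1,1],
   [2,2,0,2,0,2,2,1,0,2,2,2,0,2,0,0],
   [0,2,0,1,0,2,0,2,0,0],
   [1,0,2,2,0,1,2,0,2,1,0,2,0,0],
   [1,1,0,2,0,2,2,0,2,0,0],
   []],
  [[],
   [],
   [],
   [],
   [],
   [],
   [],
   [],
   [],
   [],
   [],
   [],
   [],
   [],
   [2,0,2,0,1,2,0,2,0,2,0],
   [],
   [],
   [1,0,1,2,0,0,2,0,1,0,2,0,0,1,0],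
   [],
   [],
   [],
   [],
   [],
   []]]

def wordAt22 (k c : ℕ) : List ℕ := (transTab22.getD k []).getD c []

theorem trans_check22 : ∀ k : Fin 7, 2 ≤ k.val → ∀ c : Fin 24, okTarget k c = true →
    (∀ i : Fin 7, i.val < k.val → wtab T22 (wordAt22 k c) (base.getD i 0) = base.getD i 0) ∧
      wtab T22 (wordAt22 k c) (base.getD k 0) = c := by
  decide +kernel

theorem level22 (k : ℕ) (hk : k < 7) (hk2 : 2 ≤ k) (c : GolayPt) (hc : okTarget k (idx c) = true) :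
    ∃ u ∈ K22, (∀ i < k, u (bpt i) = bpt i) ∧ u (bpt k) = c := by
  obtain ⟨h1, h2⟩ := trans_check22 ⟨k, hk⟩ hk2 ⟨idx c, idx_lt c⟩ hc
  have hT := isTab_wprod v22 T22 isTab_v22 (wordAt22 k (idx c))
  refine ⟨wprod v22 (wordAt22 k (idx c)), wprod_v22_mem _, ?_, ?_⟩
  · intro i hi
    show wprod v22 (wordAt22 k (idx c)) (pt (base.getD i 0)) = pt (base.getD i 0)
    rw [hT.apply_pt (base_lt ⟨i, by omega⟩), h1 ⟨i, by omega⟩ hi]
  · show wprod v22 (wordAt22 k (idx c)) (pt (base.getD k 0)) = c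
    rw [hT.apply_pt (base_lt ⟨k, hk⟩), h2, pt_idx]

/-- any group between the generated group and `M22` has order 443520. -/
theorem card_of_between22 (K : Subgroup (Equiv.Perm GolayPt)) (h1 : K22 ≤ K) (h2 : K ≤ Spor.M22) :
    Nat.card K = 443520 := by
  have hK : K ≤ M24 := le_trans h2 M22_le_M24
  have hlev : ∀ k, k < 7 → 2 ≤ k → ∀ c : GolayPt, okTarget k (idx c) = true →
      ∃ u ∈ K, (∀ i < k, u (bpt i) = bpt i) ∧ u (bpt k) = c := by
    intro k hk hk2 c hc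
    obtain ⟨u, hu, hu'⟩ := level22 k hk hk2 c hc
    exact ⟨u, h1 hu, hu'⟩
  have e0 : chain K 2 = K := by
    show (K ⊓ stabilizer (Equiv.Perm GolayPt) (bpt 0)) ⊓ stabilizer (Equiv.Perm GolayPt) (bpt 1) = K
    rw [inf_assoc, inf_eq_left]
    intro σ hσ
    have := (mem_M22_iff σ).mp (h2 hσ)
    exact ⟨this.2.1, this.2.2⟩
  have s2 := chain_step' K hK 2 (by decide) (hlev 2 (by decide) (by decide))
  have s3 := chain_step' K hK 3 (by decide) (hlev 3 (by decide) (by decide))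
  have s4 := chain_step' K hK 4 (by decide) (hlev 4 (by decide) (by decide))
  have s5 := chain_step' K hK 5 (by decide) (hlev 5 (by decide) (by decide))
  have s6 := chain_step' K hK 6 (by decide) (hlev 6 (by decide) (by decide))
  have s7 : Nat.card (chain K 7) = 1 := by
    rw [chain_seven K hK]; exact Subgroup.card_bot
  simp only [List.getD_cons_zero, List.getD_cons_succ] at s2 s3 s4 s5 s6
  rw [← e0, s2, s3, s4, s5, s6, s7]

theorem card_M22 : Nat.card Spor.M22 = 443520 := card_of_between22 _ K22_le_M22 le_rfl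

theorem K22_eq_M22 : K22 = Spor.M22 := by
  apply Subgroup.eq_of_le_of_card_ge K22_le_M22
  rw [card_M22, card_of_between22 K22 le_rfl K22_le_M22]

end Cfsg.Agent.Lib.Helper10
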