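import Cfsg.Agent.Lib.Helper10.Golay

set_option autoImplicit false

namespace Cfsg.Agent.Lib.Helper10

open Cfsg
open scoped Pointwise

theorem mem_support₂ (w : GolayPt → ZMod 2) (p : GolayPt) : p ∈ support₂ w ↔ w p ≠ 0 := by
  simp [support₂]

theorem support₂_injective : Function.Injective (support₂ : (GolayPt → ZMod 2) → Finset GolayPt) := by
  intro v w h
  funext p
  have := Finset.ext_iff.mp h p
  rw [mem_support₂, mem_support₂] at this
  rcases zmod2_cases (v p) with h1 | h1 <;> rcases zmod2_cases (w p) with h2 | h2 <;>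
    simp_all

/-- permuting coordinates of a word. -/
def permWord (σ : Equiv.Perm GolayPt) (w : GolayPt → ZMod 2) : GolayPt → ZMod 2 :=
  fun p => w (σ.symm p)

theorem permWord_apply (σ : Equiv.Perm GolayPt) (w : GolayPt → ZMod 2) (p : GolayPt) :
    permWord σ w p = w (σ.symm p) := rfl

theorem permWord_add (σ : Equiv.Perm GolayPt) (v w : GolayPt → ZMod 2) :
    permWord σ (v + w) = permWord σ v + permWord σ w := rfl

theorem permWord_smul (σ : Equiv.Perm GolayPt) (a : ZMod 2) (w : GolayPt → ZMod 2) :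
    permWord σ (a • w) = a • permWord σ w := rfl

theorem permWord_zero (σ : Equiv.Perm GolayPt) : permWord σ 0 = 0 := rfl

theorem permWord_one (w : GolayPt → ZMod 2) : permWord 1 w = w := rfl

theorem permWord_mul (σ τ : Equiv.Perm GolayPt) (w : GolayPt → ZMod 2) :
    permWord (σ * τ) w = permWord σ (permWord τ w) := rfl

theorem permWord_injective (σ : Equiv.Perm GolayPt) : Function.Injective (permWord σ) := by
  intro v w h
  funext p
  have := congrFun h (σ p)
  simpa [permWord] using this

theorem smul_support₂ (σ : Equiv.Perm GolayPt) (w : GolayPt → ZMod 2) :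
    σ • support₂ w = support₂ (permWord σ w) := by
  ext p
  rw [← Finset.inv_smul_mem_iff, mem_support₂, mem_support₂]
  rfl

theorem permWord_mem_of_gens (σ : Equiv.Perm GolayPt)
    (h1 : ∀ t, permWord σ (qrWord t) ∈ golayCode)
    (h2 : permWord σ 1 ∈ golayCode) :
    ∀ w ∈ golayCode, permWord σ w ∈ golayCode := by
  intro w hw
  unfold golayCode at hw
  induction hw using Submodule.span_induction with
  | mem v hv =>
    rcases hv with ⟨t, rfl⟩ | rfl
    · exact h1 t
    · exact h2
  | zero => exact golayCode.zero_mem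
  | add x y _ _ hx hy => rw [permWord_add]; exact golayCode.add_mem hx hy
  | smul a x _ hx => rw [permWord_smul]; exact golayCode.smul_mem a hx

theorem mem_M24_of_mapsTo (σ : Equiv.Perm GolayPt)
    (h : ∀ w ∈ golayCode, permWord σ w ∈ golayCode) : σ ∈ M24 := by
  have hsurj : ∀ w ∈ golayCode, ∃ v ∈ golayCode, permWord σ v = w := by
    let f : golayCode → golayCode := fun v => ⟨permWord σ v.1, h v.1 v.2⟩
    have hf : Function.Injective f := by
      intro a b hab
      apply Subtype.ext
      apply permWord_injective σ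
      exact congrArg Subtype.val hab
    have hs := Finite.surjective_of_injective hf
    intro w hw
    obtain ⟨v, hv⟩ := hs ⟨w, hw⟩
    exact ⟨v.1, v.2, congrArg Subtype.val hv⟩
  rw [MulAction.mem_stabilizer_iff]
  apply Set.Subset.antisymm
  · rintro s ⟨t, ⟨w, hw, rfl⟩, rfl⟩
    show σ • support₂ w ∈ _
    rw [smul_support₂]
    exact ⟨_, h w hw, rfl⟩
  · rintro s ⟨w, hw, rfl⟩
    obtain ⟨v, hv, rfl⟩ := hsurj w hw
    refine ⟨support₂ v, ⟨v, hv, rfl⟩, ?_⟩
    show σ • support₂ v = _
    rw [smul_support₂]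

theorem mem_M24_of_gens (σ : Equiv.Perm GolayPt)
    (h1 : ∀ t, permWord σ (qrWord t) ∈ golayCode)
    (h2 : permWord σ 1 ∈ golayCode) : σ ∈ M24 :=
  mem_M24_of_mapsTo σ (permWord_mem_of_gens σ h1 h2)

theorem permWord_mem_of_mem_M24 {σ : Equiv.Perm GolayPt} (hσ : σ ∈ M24) :
    ∀ w ∈ golayCode, permWord σ w ∈ golayCode := by
  intro w hw
  rw [MulAction.mem_stabilizer_iff] at hσ
  have : σ • support₂ w ∈ σ • supports (golayCode : Set (GolayPt → ZMod 2)) :=
    Set.smul_mem_smul_set ⟨w, hw, rfl⟩
  rw [hσ, smul_support₂] at this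
  obtain ⟨v, hv, e⟩ := this
  rw [← support₂_injective e]
  exact hv

theorem mem_M24_iff (σ : Equiv.Perm GolayPt) :
    σ ∈ M24 ↔ ∀ w ∈ golayCode, permWord σ w ∈ golayCode :=
  ⟨fun h => permWord_mem_of_mem_M24 h, mem_M24_of_mapsTo σ⟩

theorem permWord_eq_of_forall (σ : Equiv.Perm GolayPt) (w w' : GolayPt → ZMod 2)
    (h : ∀ p, w p = w' (σ p)) : permWord σ w = w' := by
  funext p
  rw [permWord_apply, h, Equiv.apply_symm_apply]

/-- membership in `M24` from a table of the images of the 24 generating words. -/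
theorem mem_M24_of_table (σ : Equiv.Perm GolayPt) (f : GolayPt → GolayPt) (hf : ∀ p, σ p = f p)
    (img : List ℕ)
    (h : ∀ i : Fin 24, (∀ p, vec (genMask.getD i 0) p = vec (img.getD i 0) (f p)) ∧
      img.getD i 0 < 2 ^ 24 ∧ enc (img.getD i 0) = img.getD i 0) : σ ∈ M24 := by
  have key : ∀ i : Fin 24, permWord σ (vec (genMask.getD i 0)) ∈ golayCode := by
    intro i
    obtain ⟨h1, h2, h3⟩ := h i
    rw [permWord_eq_of_forall σ _ (vec (img.getD i 0)) (fun p => by rw [hf p]; exact h1 p)]
    exact (vec_mem_golayCode_iff h2).mpr h3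
  apply mem_M24_of_gens
  · intro t
    have ht : t.val < 24 := lt_trans (ZMod.val_lt t) (by decide)
    have : qrWord t = vec (genMask.getD t.val 0) := funext (qrWord_eq t)
    rw [this]
    exact key ⟨t.val, ht⟩
  · have : (1 : GolayPt → ZMod 2) = vec 16777215 := funext one_eq
    rw [this]
    exact key ⟨23, by decide⟩

end Cfsg.Agent.Lib.Helper10
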