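import Mathlib

set_option autoImplicit false
set_option linter.unusedVariables false
set_option linter.unusedSectionVars false
set_option linter.style.haveILetI false
set_option linter.unusedSimpArgs false

/-!
# Leaf K-NQ-P2 (S2787): `O_p(PSL₂(F)) = 1` for `|F| = p^n` odd
-/

namespace Cfsg.Agent.Lib.Helper10.NQ

open Matrix

variable {F : Type*} [Field F]

theorem trace_of_pow_eq_one (p : ℕ) [Fact p.Prime] [CharP F p] (Y : Matrix (Fin 2) (Fin 2) F) (k : ℕ)
    (h : Y ^ (p ^ k) = 1) : Y.trace = 2 := by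
  have hnil : IsNilpotent (Y - 1) := ⟨p ^ k, by
    rw [sub_pow_char_pow_of_commute p k (Commute.one_right Y), h, one_pow, sub_self]⟩
  have h0 := (Matrix.isNilpotent_trace_of_isNilpotent hnil).eq_zero
  rw [Matrix.trace_sub, Matrix.trace_one, Fintype.card_fin] at h0
  push_cast at h0
  linear_combination h0

theorem trace_of_pow_eq_neg_one (p : ℕ) [Fact p.Prime] [CharP F p] (Y : Matrix (Fin 2) (Fin 2) F)
    (k : ℕ) (h : Y ^ (p ^ k) = -1) : Y.trace = -2 := by
  have hnil : IsNilpotent (Y + 1) := ⟨p ^ k, by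
    rw [add_pow_char_pow_of_commute p k (Commute.one_right Y), h, one_pow, neg_add_cancel]⟩
  have h0 := (Matrix.isNilpotent_trace_of_isNilpotent hnil).eq_zero
  rw [Matrix.trace_add, Matrix.trace_one, Fintype.card_fin] at h0
  push_cast at h0
  linear_combination h0

theorem tr1 (a β γ l : F) (hrel : a ^ 2 + β * γ = 0) (hl : l * β = 1) :
    (!![1 + a, β; γ, 1 - a] * (!![1, 0; l, 1] * !![1 + a, β; γ, 1 - a] * !![1, 0; -l, 1])).trace = 1 := by
  simp [Matrix.trace_fin_two, Matrix.mul_apply, Fin.sum_univ_two]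
  linear_combination 2 * hrel - (l * β + 1) * hl

theorem tr2 (a β γ l : F) (hrel : a ^ 2 + β * γ = 0) (hl : l * β = 1) :
    (!![1 + a, β; γ, 1 - a] * (!![1, 0; l, 1] * !![1 - a, -β; -γ, 1 + a] * !![1, 0; -l, 1])).trace = 3 := by
  simp [Matrix.trace_fin_two, Matrix.mul_apply, Fin.sum_univ_two]
  linear_combination (-2) * hrel + (l * β + 1) * hl

theorem tr1' (a β γ l : F) (hrel : a ^ 2 + β * γ = 0) (hl : l * γ = 1) :
    (!![1 + a, β; γ, 1 - a] * (!![1, l; 0, 1] * !![1 + a, β; γ, 1 - a] * !![1, -l; 0, 1])).trace = 1 := by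
  simp [Matrix.trace_fin_two, Matrix.mul_apply, Fin.sum_univ_two]
  linear_combination 2 * hrel - (l * γ + 1) * hl

theorem tr2' (a β γ l : F) (hrel : a ^ 2 + β * γ = 0) (hl : l * γ = 1) :
    (!![1 + a, β; γ, 1 - a] * (!![1, l; 0, 1] * !![1 - a, -β; -γ, 1 + a] * !![1, -l; 0, 1])).trace = 3 := by
  simp [Matrix.trace_fin_two, Matrix.mul_apply, Fin.sum_univ_two]
  linear_combination (-2) * hrel + (l * γ + 1) * hl

theorem psl2_normal_pgroup_eq_bot {F : Type*} [Field F] [Fintype F] {p : ℕ} [Fact p.Prime] (n : ℕ)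
    (hF : Fintype.card F = p ^ n) (hodd : Odd (Fintype.card F))
    (N : Subgroup (Matrix.ProjectiveSpecialLinearGroup (Fin 2) F)) (hN : N.Normal) (hNp : IsPGroup p N) :
    N = ⊥ := by
  classical
  have hp : p.Prime := Fact.out
  -- the characteristic
  haveI hchar : CharP F p := by
    obtain ⟨p', hp'c⟩ := CharP.exists F
    haveI := hp'c
    obtain ⟨m, hp', hm⟩ := FiniteField.card F p'
    have hdvd : p' ∣ p ^ n := by
      rw [← hF, hm]
      exact dvd_pow_self p' m.ne_zero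
    have : p' = p := (Nat.prime_dvd_prime_iff_eq hp' hp).mp (hp'.dvd_of_dvd_pow hdvd)
    rw [← this]
    exact hp'c
  have hp2 : p ≠ 2 := by
    rintro rfl
    have hn0 : n ≠ 0 := by
      rintro rfl
      rw [pow_zero] at hF
      have := Fintype.one_lt_card (α := F)
      omega
    rw [hF] at hodd
    exact (Nat.not_even_iff_odd.mpr hodd) ((Nat.even_pow' hn0).mpr even_two)
  have h2 : (2 : F) ≠ 0 := by
    intro h
    have h' : ((2 : ℕ) : F) = 0 := by exact_mod_cast h
    have := (CharP.cast_eq_zero_iff F p 2).mp h'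
    exact hp2 ((Nat.prime_dvd_prime_iff_eq hp Nat.prime_two).mp this)
  -- the key: traces of elements over `N`
  have key : ∀ y : Matrix.SpecialLinearGroup (Fin 2) F,
      (QuotientGroup.mk y : Matrix.ProjectiveSpecialLinearGroup (Fin 2) F) ∈ N →
      y.1.trace ^ 2 = 4 := by
    intro y hy
    obtain ⟨k, hk⟩ := hNp ⟨QuotientGroup.mk y, hy⟩
    have hk' : (QuotientGroup.mk (y ^ p ^ k) : Matrix.ProjectiveSpecialLinearGroup (Fin 2) F) = 1 := by
      have := congrArg Subtype.val hk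
      simpa using this
    rw [QuotientGroup.eq_one_iff, Matrix.SpecialLinearGroup.mem_center_iff] at hk'
    obtain ⟨r, hr, hrY⟩ := hk'
    rw [Fintype.card_fin] at hr
    have hr' : r = 1 ∨ r = -1 := by
      have : (r - 1) * (r + 1) = 0 := by linear_combination hr
      rcases mul_eq_zero.mp this with h | h
      · left; linear_combination h
      · right; linear_combination h
    rw [Matrix.SpecialLinearGroup.coe_pow] at hrY
    rcases hr' with rfl | rfl
    · have := trace_of_pow_eq_one p y.1 k (by rw [← hrY, map_one])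
      rw [this]; norm_num
    · have := trace_of_pow_eq_neg_one p y.1 k (by rw [← hrY, map_neg, map_one])
      rw [this]; norm_num
  rw [eq_bot_iff]
  intro x hx
  rw [Subgroup.mem_bot]
  by_contra hx1
  obtain ⟨g, rfl⟩ := QuotientGroup.mk_surjective x
  -- `h = g * g` has `h ^ p ^ k = 1`
  obtain ⟨k, hk⟩ := hNp ⟨QuotientGroup.mk g, hx⟩
  have hk' : (QuotientGroup.mk (g ^ p ^ k) : Matrix.ProjectiveSpecialLinearGroup (Fin 2) F) = 1 := by
    have := congrArg Subtype.val hk
    simpa using this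
  have hk'' := hk'
  rw [QuotientGroup.eq_one_iff, Matrix.SpecialLinearGroup.mem_center_iff] at hk''
  obtain ⟨r, hr, hrY⟩ := hk''
  rw [Fintype.card_fin] at hr
  obtain ⟨h, hh⟩ : ∃ h : Matrix.SpecialLinearGroup (Fin 2) F, h = g * g := ⟨_, rfl⟩
  have hpow : h.1 ^ p ^ k = 1 := by
    have e1 : h ^ p ^ k = g ^ p ^ k * g ^ p ^ k := by
      rw [hh, ← pow_two, ← pow_mul, mul_comm, pow_mul, pow_two]
    rw [← Matrix.SpecialLinearGroup.coe_pow, e1, Matrix.SpecialLinearGroup.coe_mul, ← hrY]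
    rw [← map_mul, ← pow_two, hr, map_one]
  have hhN : (QuotientGroup.mk h : Matrix.ProjectiveSpecialLinearGroup (Fin 2) F) ∈ N := by
    rw [hh, QuotientGroup.mk_mul]
    exact N.mul_mem hx hx
  have htr : h.1.trace = 2 := trace_of_pow_eq_one p h.1 k hpow
  have hdet : h.1.det = 1 := h.2
  -- `h ≠ 1`
  have hh1 : h.1 ≠ 1 := by
    intro e
    have e' : h = 1 := Subtype.ext e
    apply hx1
    -- `x ^ 2 = 1` and `x ^ p ^ k = 1`
    have hsq : (QuotientGroup.mk g : Matrix.ProjectiveSpecialLinearGroup (Fin 2) F) ^ 2 = 1 := by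
      rw [pow_two, ← QuotientGroup.mk_mul, ← hh, e', QuotientGroup.mk_one]
    have hpk : (QuotientGroup.mk g : Matrix.ProjectiveSpecialLinearGroup (Fin 2) F) ^ p ^ k = 1 := by
      rw [← QuotientGroup.mk_pow]; exact hk'
    have hoddpk : Odd (p ^ k) := Odd.pow (hp.odd_of_ne_two hp2)
    obtain ⟨j, hj⟩ := hoddpk
    rw [hj, pow_succ, pow_mul, hsq, one_pow, one_mul] at hpk
    exact hpk
  -- coordinates
  set α := h.1 0 0 with hα
  set β := h.1 0 1 with hβ
  set γ := h.1 1 0 with hγ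
  set δ := h.1 1 1 with hδ
  have heta : h.1 = !![α, β; γ, δ] := Matrix.eta_fin_two h.1
  have htr' : α + δ = 2 := by
    rw [Matrix.trace_fin_two] at htr
    exact htr
  have hdet' : α * δ - β * γ = 1 := by
    rw [Matrix.det_fin_two] at hdet
    exact hdet
  set a := α - 1 with ha
  have hα' : α = 1 + a := by rw [ha]; ring
  have hδ' : δ = 1 - a := by rw [ha]; linear_combination htr'
  have hrel : a ^ 2 + β * γ = 0 := by
    rw [hα', hδ'] at hdet'
    linear_combination (-1) * hdet'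
  have hmat : h.1 = !![1 + a, β; γ, 1 - a] := by rw [heta, hα', hδ']
  have hinv : (h⁻¹).1 = !![1 - a, -β; -γ, 1 + a] := by
    rw [Matrix.SpecialLinearGroup.coe_inv, hmat, Matrix.adjugate_fin_two_of]
  -- both traces
  have hfinal : ∀ (s : Matrix.SpecialLinearGroup (Fin 2) F),
      (h.1 * (s.1 * h.1 * (s⁻¹).1)).trace = 1 → (h.1 * (s.1 * (h⁻¹).1 * (s⁻¹).1)).trace = 3 → False := by
    intro s e1 e2
    have m1 : (QuotientGroup.mk (h * (s * h * s⁻¹)) : Matrix.ProjectiveSpecialLinearGroup (Fin 2) F) ∈ N := by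
      rw [QuotientGroup.mk_mul, QuotientGroup.mk_mul, QuotientGroup.mk_mul, QuotientGroup.mk_inv]
      exact N.mul_mem hhN (hN.conj_mem _ hhN _)
    have m2 : (QuotientGroup.mk (h * (s * h⁻¹ * s⁻¹)) : Matrix.ProjectiveSpecialLinearGroup (Fin 2) F) ∈ N := by
      rw [QuotientGroup.mk_mul, QuotientGroup.mk_mul, QuotientGroup.mk_mul, QuotientGroup.mk_inv,
        QuotientGroup.mk_inv]
      exact N.mul_mem hhN (hN.conj_mem _ (N.inv_mem hhN) _)
    have k1 := key _ m1
    have k2 := key _ m2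
    simp only [Matrix.SpecialLinearGroup.coe_mul] at k1 k2
    rw [e1] at k1
    rw [e2] at k2
    -- `1 = 4` and `9 = 4`
    apply h2
    linear_combination k1 + k2
  by_cases hβ0 : β = 0
  · have ha0 : a = 0 := by
      rw [hβ0, zero_mul, add_zero] at hrel
      exact pow_eq_zero_iff (by norm_num) |>.mp hrel
    have hγ0 : γ ≠ 0 := by
      intro hγ0
      apply hh1
      rw [hmat, ha0, hβ0, hγ0]
      ext i j
      fin_cases i <;> fin_cases j <;> simp
    let s : Matrix.SpecialLinearGroup (Fin 2) F := ⟨!![1, γ⁻¹; 0, 1], by simp [Matrix.det_fin_two]⟩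
    have hs : s.1 = !![1, γ⁻¹; 0, 1] := rfl
    have hsi : (s⁻¹).1 = !![1, -γ⁻¹; 0, 1] := by
      rw [Matrix.SpecialLinearGroup.coe_inv, hs, Matrix.adjugate_fin_two_of]
      simp
    apply hfinal s
    · rw [hs, hsi, hmat]
      exact tr1' a β γ γ⁻¹ hrel (inv_mul_cancel₀ hγ0)
    · rw [hs, hsi, hmat, hinv]
      exact tr2' a β γ γ⁻¹ hrel (inv_mul_cancel₀ hγ0)
  · let s : Matrix.SpecialLinearGroup (Fin 2) F := ⟨!![1, 0; β⁻¹, 1], by simp [Matrix.det_fin_two]⟩
    have hs : s.1 = !![1, 0; β⁻¹, 1] := rfl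
    have hsi : (s⁻¹).1 = !![1, 0; -β⁻¹, 1] := by
      rw [Matrix.SpecialLinearGroup.coe_inv, hs, Matrix.adjugate_fin_two_of]
      simp
    apply hfinal s
    · rw [hs, hsi, hmat]
      exact tr1 a β γ β⁻¹ hrel (inv_mul_cancel₀ hβ0)
    · rw [hs, hsi, hmat, hinv]
      exact tr2 a β γ β⁻¹ hrel (inv_mul_cancel₀ hβ0)

end Cfsg.Agent.Lib.Helper10.NQ
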