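import Cfsg.Agent.Lib.Helper10.M24Mem

set_option autoImplicit false

namespace Cfsg.Agent.Lib.Helper10

open Cfsg
open scoped Pointwise

/-- number of set bits among the low 24 bits. -/
def pc (m : ℕ) : ℕ := (List.range 24).countP (fun i => m.testBit i)

/-- the set of points of a mask. -/
def fs (m : ℕ) : Finset GolayPt := Finset.univ.filter (fun p => m.testBit (idx p))

theorem mem_fs (m : ℕ) (p : GolayPt) : p ∈ fs m ↔ m.testBit (idx p) = true := by
  simp [fs]

theorem support₂_vec (m : ℕ) : support₂ (vec m) = fs m := by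
  ext p
  rw [mem_support₂, mem_fs, vec_apply]
  cases m.testBit (idx p) <;> simp

theorem support₂_eq_fs (w : GolayPt → ZMod 2) : support₂ w = fs (wmask w) := by
  rw [← support₂_vec, vec_wmask]

theorem card_range_filter (f : ℕ → Bool) (n : ℕ) :
    ((Finset.range n).filter (fun i => f i = true)).card = (List.range n).countP f := by
  induction n with
  | zero => simp
  | succ n ih =>
    rw [Finset.range_add_one, Finset.filter_insert, List.range_succ, List.countP_append]
    by_cases h : f n = true
    · rw [if_pos h, Finset.card_insert_of_notMem (by simp), ih]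
      simp [h]
    · rw [if_neg h, ih]
      simp [h]

theorem card_fs (m : ℕ) : (fs m).card = pc m := by
  unfold pc
  rw [← card_range_filter]
  apply Finset.card_nbij' idx pt
  · intro p hp
    have := (mem_fs m p).mp (by simpa using hp)
    simp [idx_lt p, this]
  · intro i hi
    simp only [Finset.coe_filter, Finset.mem_range, Set.mem_setOf_eq] at hi
    have : (pt i) ∈ fs m := by rw [mem_fs, idx_pt hi.1]; exact hi.2
    simpa using this
  · intro p _; exact pt_idx p
  · intro i hi
    simp only [Finset.coe_filter, Finset.mem_range, Set.mem_setOf_eq] at hi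
    exact idx_pt hi.1

theorem card_support₂ (w : GolayPt → ZMod 2) : (support₂ w).card = pc (wmask w) := by
  rw [support₂_eq_fs, card_fs]

theorem weight_check :
    (List.range 4096).all (fun k => (fun m => decide (pc m ∈ [0, 8, 12, 16, 24])) (enc k)) = true := by
  decide +kernel

/-- the weights of the words of the code. -/
theorem weight_mem (w : GolayPt → ZMod 2) (hw : w ∈ golayCode) :
    (support₂ w).card ∈ [0, 8, 12, 16, 24] := by
  rw [card_support₂]
  have := forall_code_bool (fun m => decide (pc m ∈ [0, 8, 12, 16, 24])) weight_check w hw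
  simpa using this

theorem support₂_eq_empty {w : GolayPt → ZMod 2} (h : support₂ w = ∅) : w = 0 := by
  funext p
  have : p ∉ support₂ w := by rw [h]; simp
  rw [mem_support₂] at this
  simpa using this

/-- a word of weight less than 8 is zero. -/
theorem eq_zero_of_card_lt (w : GolayPt → ZMod 2) (hw : w ∈ golayCode)
    (h : (support₂ w).card < 8) : w = 0 := by
  have := weight_mem w hw
  simp only [List.mem_cons, List.not_mem_nil, or_false] at this
  have h0 : (support₂ w).card = 0 := by omega
  exact support₂_eq_empty (Finset.card_eq_zero.mp h0)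

theorem support₂_add (v w : GolayPt → ZMod 2) :
    support₂ (v + w) = (support₂ v \ support₂ w) ∪ (support₂ w \ support₂ v) := by
  ext p
  simp only [Finset.mem_union, Finset.mem_sdiff, mem_support₂, Pi.add_apply]
  rcases zmod2_cases (v p) with h1 | h1 <;> rcases zmod2_cases (w p) with h2 | h2 <;>
    simp [h1, h2] <;> decide

/-- two words of weight 8 whose supports share at least 5 points are equal. -/
theorem eq_of_inter_ge (v w : GolayPt → ZMod 2) (hv : v ∈ golayCode) (hw : w ∈ golayCode)
    (cv : (support₂ v).card = 8) (cw : (support₂ w).card = 8)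
    (h : 5 ≤ (support₂ v ∩ support₂ w).card) : v = w := by
  have hs : v + w = 0 := by
    apply eq_zero_of_card_lt _ (golayCode.add_mem hv hw)
    rw [support₂_add]
    have h1 := Finset.card_sdiff_add_card_inter (support₂ v) (support₂ w)
    have h2 := Finset.card_sdiff_add_card_inter (support₂ w) (support₂ v)
    rw [Finset.inter_comm] at h2
    have h3 := Finset.card_union_le (support₂ v \ support₂ w) (support₂ w \ support₂ v)
    omega
  funext p
  have := congrFun hs p
  simp only [Pi.add_apply, Pi.zero_apply] at this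
  rcases zmod2_cases (v p) with h1 | h1 <;> rcases zmod2_cases (w p) with h2 | h2 <;>
    simp_all

theorem mem_octads_iff (o : Finset GolayPt) :
    o ∈ octads ↔ ∃ w ∈ golayCode, support₂ w = o ∧ o.card = 8 := by
  unfold octads wordsOfWeight supports
  constructor
  · rintro ⟨⟨w, hw, rfl⟩, h⟩
    exact ⟨w, hw, rfl, h⟩
  · rintro ⟨w, hw, rfl, h⟩
    exact ⟨⟨w, hw, rfl⟩, h⟩

/-- two octads sharing at least five points are equal. -/
theorem octad_eq_of_inter_ge {o o' : Finset GolayPt} (ho : o ∈ octads) (ho' : o' ∈ octads)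
    (h : 5 ≤ (o ∩ o').card) : o = o' := by
  obtain ⟨v, hv, rfl, cv⟩ := (mem_octads_iff o).mp ho
  obtain ⟨w, hw, rfl, cw⟩ := (mem_octads_iff o').mp ho'
  rw [eq_of_inter_ge v w hv hw cv cw h]

theorem card_smul_finset (σ : Equiv.Perm GolayPt) (s : Finset GolayPt) : (σ • s).card = s.card :=
  Finset.card_smul_finset σ s

/-- the group of the code permutes the words of a given weight. -/
theorem smul_mem_wordsOfWeight {σ : Equiv.Perm GolayPt} (hσ : σ ∈ M24) {n : ℕ} {o : Finset GolayPt}
    (ho : o ∈ wordsOfWeight (golayCode : Set (GolayPt → ZMod 2)) n) :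
    σ • o ∈ wordsOfWeight (golayCode : Set (GolayPt → ZMod 2)) n := by
  obtain ⟨⟨w, hw, rfl⟩, h⟩ := ho
  refine ⟨⟨permWord σ w, permWord_mem_of_mem_M24 hσ w hw, (smul_support₂ σ w).symm⟩, ?_⟩
  rw [card_smul_finset]; exact h

theorem smul_mem_octads {σ : Equiv.Perm GolayPt} (hσ : σ ∈ M24) {o : Finset GolayPt}
    (ho : o ∈ octads) : σ • o ∈ octads := smul_mem_wordsOfWeight hσ ho

theorem smul_mem_dodecads {σ : Equiv.Perm GolayPt} (hσ : σ ∈ M24) {o : Finset GolayPt}
    (ho : o ∈ dodecads) : σ • o ∈ dodecads := smul_mem_wordsOfWeight hσ ho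

/-- a mask of weight 8 in the code gives an octad. -/
theorem fs_mem_octads {m : ℕ} (hm : m < 2 ^ 24) (h1 : enc m = m) (h2 : pc m = 8) : fs m ∈ octads := by
  rw [mem_octads_iff]
  exact ⟨vec m, (vec_mem_golayCode_iff hm).mpr h1, support₂_vec m, by rw [card_fs, h2]⟩

theorem fs_mem_dodecads {m : ℕ} (hm : m < 2 ^ 24) (h1 : enc m = m) (h2 : pc m = 12) :
    fs m ∈ dodecads := by
  refine ⟨⟨vec m, (vec_mem_golayCode_iff hm).mpr h1, support₂_vec m⟩, ?_⟩
  rw [card_fs, h2]

end Cfsg.Agent.Lib.Helper10
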