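import Cfsg.Agent.Lib.Helper10.Perm

set_option autoImplicit false

namespace Cfsg.Agent.Lib.Helper10

open Cfsg

/-- the base: five points of the octad `octO`, a point outside it, a sixth point of it. -/
def base : List ℕ := [23, 0, 1, 2, 3, 4, 5]

/-- the `i`-th base point. -/
def bpt (i : ℕ) : GolayPt := pt (base.getD i 0)

/-- the octad through the first five base points. -/
def octO : ℕ := 8536111

/-- words for the transversals of the stabiliser chain along `base`. -/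
def transTab : List (List (List ℕ)) := [
  [[1],
   [0, 1],
   [0, 0, 1],
   [0, 0, 0, 1],
   [2, 2, 0, 1],
   [3, 4, 0, 1],
   [4, 0, 1],
   [0, 4, 0, 1],
   [2, 1, 3, 3, 1],
   [4, 1, 3, 3, 1],
   [2, 0, 4, 3, 1],
   [1, 0, 0, 1],
   [1, 3, 3, 1],
   [3, 2, 3, 1],
   [2, 3, 1],
   [0, 2, 3, 1],
   [4, 3, 2, 3, 1],
   [2, 2, 3, 1],
   [2, 0, 1],
   [4, 3, 1],
   [0, 4, 3, 1],
   [3, 3, 1],
   [3, 1],
   []],
  [[],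
   [0],
   [0, 0],
   [0, 0, 0],
   [2, 2, 0],
   [4, 3, 3],
   [4, 0],
   [0, 4, 0],
   [0, 0, 4, 0],
   [2, 3, 2, 3],
   [2, 3, 3, 3],
   [4, 4, 3],
   [3, 3, 2, 3],
   [3, 2, 3],
   [2, 3],
   [0, 2, 3],
   [3, 3, 2, 0],
   [3, 2, 0],
   [2, 0],
   [4, 3],
   [3, 3, 3],
   [3, 3],
   [3],
   []],
  [[],
   [],
   [4, 4],
   [3, 4, 3, 4, 3, 2, 2],
   [2, 2],
   [3, 4, 0, 2, 2, 3],
   [4],
   [0, 0, 4, 3, 3, 3],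
   [0, 0, 4, 0, 4, 3],
   [3, 2, 0, 4, 3, 3],
   [0, 2, 3, 2, 3, 3],
   [0, 4, 4, 3, 2, 0],
   [3, 2, 2, 0, 0, 4],
   [2, 3, 3, 4, 4, 0],
   [4, 0, 0, 0, 2, 3, 3],
   [3, 4, 3, 4, 3, 2],
   [3, 3, 4, 4, 0],
   [0, 0, 0, 2, 3, 3],
   [2],
   [3, 3, 2, 0, 0, 0, 0],
   [3, 3, 3, 3, 2, 2, 0],
   [2, 3, 4, 0, 2, 2, 3],
   [3, 3, 3, 3, 4, 0, 0],
   []],
  [[],
   [],
   [],
   [2, 0, 2, 0, 2, 0],
   [0, 2, 3, 2, 2, 3, 2, 0, 0],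
   [3, 3, 4, 0, 0, 2, 2, 0],
   [4, 0, 0, 2, 2, 0, 4, 0, 2],
   [0, 4, 0, 2, 0, 2, 0, 2, 3],
   [2, 3, 2, 2, 0, 0, 2],
   [2, 3, 2, 3, 4, 4, 3, 3],
   [4, 0, 2, 3, 3, 3, 3, 2],
   [0, 2, 3, 3, 3, 3, 2, 2],
   [4, 3, 3, 4, 4, 0, 4],
   [2, 0, 4, 4, 0, 4, 3, 2, 3],
   [4, 3, 2, 2, 3, 4, 0, 0, 0],
   [3, 3, 4, 4, 0, 4, 4],
   [0, 0, 2, 0, 2, 0, 2, 2, 3],
   [4, 0, 0, 0, 0, 4, 3, 2],
   [2, 2, 0, 4, 4, 3, 2, 0, 4],
   [2, 0, 4, 4, 3, 2, 0, 2, 2],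
   [2, 2, 3, 2, 2, 0, 0],
   [4, 4, 0, 0, 0, 0, 4, 3],
   [3, 4, 4, 3, 3, 2, 0, 0],
   []],
  [[],
   [],
   [],
   [],
   [0, 2, 0, 2, 0, 2],
   [3, 4, 4, 3, 3, 3, 4, 3, 2, 0, 0],
   [4, 4, 0, 0, 2, 0, 4, 0, 0],
   [4, 4, 1, 3, 3, 4, 4, 3, 4, 4, 0, 2, 1],
   [0, 4, 3, 4, 3, 3, 4, 4, 0, 2, 0],
   [3, 4, 3, 2, 0, 4, 0, 4, 0, 2],
   [2, 2, 1, 0, 0, 0, 2, 3, 3, 2, 1],
   [1, 3, 2, 3, 2, 3, 4, 4, 3, 1],
   [0, 2, 2, 3, 4, 3, 3, 3, 2, 3, 2, 0],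
   [3, 4, 0, 0, 0, 2, 3, 3, 3, 2, 0],
   [2, 0, 0, 0, 2, 2, 3, 4, 0],
   [0, 0, 0, 0, 0, 4, 0, 0, 0, 0, 2],
   [2, 2, 0, 4, 4, 0, 0, 4, 4, 0, 2, 3],
   [3, 2, 0, 4, 4, 3, 3, 3, 4],
   [3, 4, 0, 0, 0, 4, 3, 3, 3, 2, 0],
   [3, 3, 2, 3, 4, 3, 3, 2, 2],
   [3, 4, 3, 2, 2, 0, 0, 2, 0, 2, 3],
   [4, 3, 2, 3, 2, 3, 4, 0, 2, 0],
   [2, 3, 3, 4, 3, 3, 2, 0, 4, 4, 3],
   []],
  [[],
   [],
   [],
   [],
   [],
   [],
   [2, 2, 3, 2, 3, 3, 3, 2, 3, 2, 3, 2, 2],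
   [1, 3, 1, 2, 3, 2, 3, 4, 4, 3, 3, 4, 1, 0, 1],
   [2, 0, 4, 4, 0, 2, 2, 0, 0, 2, 0, 4, 3, 2],
   [3, 2, 3, 3, 3, 4, 0, 4, 3, 3, 3, 3, 4],
   [4, 3, 2, 3, 3, 2, 0, 0, 4, 3, 4, 3, 3, 2, 0],
   [3, 2, 2, 3, 4, 0, 2, 0, 0, 0, 0],
   [3, 4, 4, 3, 4, 0, 0, 0, 2, 0, 4, 4],
   [0, 2, 0, 0, 4, 0, 4, 3, 2, 0, 4, 4, 3, 2],
   [],
   [4, 0, 4, 3, 3, 4, 4, 0, 0, 2, 3, 2, 3, 2, 0],
   [3, 4, 0, 2, 2, 3, 4, 3, 3, 2, 0, 0, 0, 0],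
   [],
   [3, 4, 4, 3, 4, 3, 3, 3, 4, 3, 3, 2, 3, 3],
   [0, 2, 0, 2, 0, 4, 3, 4, 4, 3, 2, 0, 4, 0],
   [3, 3, 3, 3, 4, 3, 2, 0, 4, 4, 0],
   [4, 3, 3, 3, 2, 3, 2, 3, 4, 3, 2, 2],
   [3, 3, 3, 3, 4, 0, 0, 2, 0, 4, 4, 3, 2, 0],
   []],
  [[],
   [],
   [],
   [],
   [],
   [],
   [],
   [],
   [],
   [],
   [],
   [],
   [],
   [],
   [4, 3, 4, 3, 3, 2, 2, 3, 2, 0, 4, 3, 4, 3, 4],
   [],
   [],
   [2, 0, 2, 0, 2, 3, 4, 0, 4, 4, 0, 0, 2, 0, 2],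
   [],
   [],
   [],
   [],
   [],
   []]]

/-- the word moving the `k`-th base point to the point of index `c`, fixing the earlier ones. -/
def wordAt (k c : ℕ) : List ℕ := (transTab.getD k []).getD c []

/-- the admissible targets at level `k`. -/
def okTarget (k c : ℕ) : Bool :=
  if k < 5 then !(base.take k).contains c
  else if k = 5 then !(octO.testBit c)
  else (c == 5 || c == 14 || c == 17)

theorem trans_check : ∀ k : Fin 7, ∀ c : Fin 24, okTarget k c = true →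
    (∀ i : Fin 7, i.val < k.val → evalW (wordAt k c) (base.getD i 0) = base.getD i 0) ∧
      evalW (wordAt k c) (base.getD k 0) = c := by
  decide +kernel

theorem base_lt : ∀ i : Fin 7, base.getD i 0 < 24 := by decide

theorem level (k : ℕ) (hk : k < 7) (c : GolayPt) (hc : okTarget k (idx c) = true) :
    ∃ u ∈ H, (∀ i < k, u (bpt i) = bpt i) ∧ u (bpt k) = c := by
  obtain ⟨h1, h2⟩ := trans_check ⟨k, hk⟩ ⟨idx c, idx_lt c⟩ hc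
  refine ⟨wordPerm (wordAt k (idx c)), wordPerm_mem_H _, ?_, ?_⟩
  · intro i hi
    exact wordPerm_pt (base_lt ⟨i, by omega⟩) (h1 ⟨i, by omega⟩ hi)
  · have := wordPerm_pt (base_lt ⟨k, hk⟩) h2
    rw [pt_idx] at this
    exact this

theorem okTarget_of_ne : ∀ k : Fin 5, ∀ c : Fin 24,
    (∀ i : Fin 5, i.val < k.val → c.val ≠ base.getD i 0) → okTarget k c = true := by
  decide +kernel

theorem level_lt_five (k : ℕ) (hk : k < 5) (c : GolayPt) (hc : ∀ i < k, c ≠ bpt i) :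
    ∃ u ∈ H, (∀ i < k, u (bpt i) = bpt i) ∧ u (bpt k) = c := by
  apply level k (by omega) c
  apply okTarget_of_ne ⟨k, hk⟩ ⟨idx c, idx_lt c⟩
  intro i hi h
  apply hc i hi
  show c = pt (base.getD i 0)
  rw [← h, pt_idx]

/-- the generated group is transitive on injective 5-tuples. -/
theorem five_trans_base (x : Fin 5 ↪ GolayPt) :
    ∃ g ∈ H, ∀ i : Fin 5, g (bpt i) = x i := by
  have key : ∀ k, k ≤ 5 → ∃ g ∈ H, ∀ i : Fin 5, i.val < k → g (bpt i) = x i := by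
    intro k
    induction k with
    | zero => intro _; exact ⟨1, H.one_mem, fun i hi => absurd hi (Nat.not_lt_zero _)⟩
    | succ k ih =>
      intro hk
      obtain ⟨g, hg, hgx⟩ := ih (by omega)
      have hk5 : k < 5 := by omega
      obtain ⟨u, hu, hu1, hu2⟩ := level_lt_five k hk5 (g⁻¹ (x ⟨k, hk5⟩)) (by
        intro i hi h
        have h1 : g (bpt i) = x ⟨i, by omega⟩ := hgx ⟨i, by omega⟩ hi
        rw [← h] at h1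
        simp only [Equiv.Perm.coe_inv, Equiv.apply_symm_apply] at h1
        have := x.injective h1
        simp only [Fin.mk.injEq] at this
        omega)
      refine ⟨g * u, H.mul_mem hg hu, ?_⟩
      intro i hi
      rcases Nat.lt_succ_iff_lt_or_eq.mp hi with h | h
      · show g (u (bpt i)) = x i
        rw [hu1 i h]; exact hgx i h
      · show g (u (bpt i)) = x i
        rw [h, hu2]
        simp only [Equiv.Perm.coe_inv, Equiv.apply_symm_apply]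
        congr 1
        exact Fin.ext h.symm
  obtain ⟨g, hg, h⟩ := key 5 le_rfl
  exact ⟨g, hg, fun i => h i i.isLt⟩

theorem five_trans (x y : Fin 5 ↪ GolayPt) : ∃ g ∈ H, ∀ i : Fin 5, g (x i) = y i := by
  obtain ⟨g, hg, hgx⟩ := five_trans_base x
  obtain ⟨h, hh, hhy⟩ := five_trans_base y
  refine ⟨h * g⁻¹, H.mul_mem hh (H.inv_mem hg), fun i => ?_⟩
  show h (g⁻¹ (x i)) = y i
  rw [← hgx i]
  simp only [Equiv.Perm.coe_inv, Equiv.symm_apply_apply]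
  exact hhy i

end Cfsg.Agent.Lib.Helper10
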