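import Cfsg.Agent.Lib.Helper10.Cert
import Cfsg.Agent.Lib.Helper10.Trans

set_option autoImplicit false

namespace Cfsg.Agent.Lib.Helper10

open Cfsg MulAction
open scoped Pointwise

/-- the elements of `K` fixing the first `k` base points. -/
def chain (K : Subgroup (Equiv.Perm GolayPt)) : ℕ → Subgroup (Equiv.Perm GolayPt)
  | 0 => K
  | k + 1 => chain K k ⊓ stabilizer (Equiv.Perm GolayPt) (bpt k)

theorem mem_chain (K : Subgroup (Equiv.Perm GolayPt)) (k : ℕ) (σ : Equiv.Perm GolayPt) :
    σ ∈ chain K k ↔ σ ∈ K ∧ ∀ i < k, σ (bpt i) = bpt i := by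
  induction k with
  | zero => simp [chain]
  | succ k ih =>
    simp only [chain, Subgroup.mem_inf, ih, mem_stabilizer_iff, Equiv.Perm.smul_def]
    constructor
    · rintro ⟨⟨h1, h2⟩, h3⟩
      refine ⟨h1, fun i hi => ?_⟩
      rcases Nat.lt_succ_iff_lt_or_eq.mp hi with h | rfl
      · exact h2 i h
      · exact h3
    · rintro ⟨h1, h2⟩
      exact ⟨⟨h1, fun i hi => h2 i (by omega)⟩, h2 k (by omega)⟩

/-- the orbit of the `k`-th base point under the stabiliser of the earlier ones. -/
def targets (k : ℕ) : Finset GolayPt := Finset.univ.filter (fun c => okTarget k (idx c) = true)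

theorem mem_targets (k : ℕ) (c : GolayPt) : c ∈ targets k ↔ okTarget k (idx c) = true := by
  simp [targets]

theorem card_targets_aux : ∀ k : Fin 7,
    (List.range 24).countP (okTarget k) = [24, 23, 22, 21, 20, 16, 3].getD k 0 := by
  decide +kernel

theorem card_targets (k : ℕ) (hk : k < 7) : (targets k).card = [24, 23, 22, 21, 20, 16, 3].getD k 0 := by
  unfold targets
  rw [card_filter_idx]
  exact card_targets_aux ⟨k, hk⟩

theorem bpt_inj : ∀ i j : Fin 7, base.getD i 0 = base.getD j 0 → i = j := by decide

theorem bpt_injective {i j : ℕ} (hi : i < 7) (hj : j < 7) (h : bpt i = bpt j) : i = j := by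
  have h1 : idx (bpt i) = idx (bpt j) := by rw [h]
  unfold bpt at h1
  rw [idx_pt (base_lt ⟨i, hi⟩), idx_pt (base_lt ⟨j, hj⟩)] at h1
  have := bpt_inj ⟨i, hi⟩ ⟨j, hj⟩ h1
  exact Fin.mk.inj_iff.mp this

theorem octO_lt : octO < 2 ^ 24 := by decide +kernel
theorem octO_enc : enc octO = octO := by decide +kernel
theorem octO_pc : pc octO = 8 := by decide +kernel

theorem octO_count : 5 ≤ (List.range 24).countP
    (fun i => octO.testBit i && (base.take 5).contains i) := by decide +kernel

theorem pres_octO {σ : Equiv.Perm GolayPt} (hσ : σ ∈ M24) (h : ∀ i < 5, σ (bpt i) = bpt i) :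
    Pres σ octO := by
  apply pres_octad hσ octO_lt octO_enc octO_pc (fun i => (base.take 5).contains i) _ octO_count
  intro i _ hf
  simp only [List.contains_eq_mem, decide_eq_true_eq] at hf
  obtain ⟨n, hn, e⟩ := List.getElem_of_mem hf
  have hn5 : n < 5 := by
    have : n < 5 ∧ n < base.length := by simpa using hn
    exact this.1
  have h1 := h n hn5
  have e2 : base.getD n 0 = i := by
    rw [List.getD_eq_getElem _ _ (show n < base.length by simp [base]; omega)]
    rw [← e]
    simp [List.getElem_take]
  unfold bpt at h1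
  rw [e2] at h1
  exact h1

theorem target5 : okTarget 5 (base.getD 5 0) = true := by decide +kernel

theorem target6 : ∀ c : Fin 24, octO.testBit c = true → (∀ i : Fin 5, c.val ≠ base.getD i 0) →
    okTarget 6 c = true := by decide +kernel

theorem bpt6_mem : octO.testBit (base.getD 6 0) = true := by decide +kernel
theorem bpt5_not_mem : octO.testBit (base.getD 5 0) = false := by decide +kernel

theorem ok5_iff (c : ℕ) : okTarget 5 c = !(octO.testBit c) := by
  simp [okTarget]

theorem orbit_subset {σ : Equiv.Perm GolayPt} (hσ : σ ∈ M24) (k : ℕ) (hk : k < 7)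
    (h : ∀ i < k, σ (bpt i) = bpt i) : σ (bpt k) ∈ targets k := by
  rw [mem_targets]
  have hne : ∀ i < k, idx (σ (bpt k)) ≠ base.getD i 0 := by
    intro i hi e
    have h1 : σ (bpt k) = bpt i := by
      show σ (bpt k) = pt (base.getD i 0)
      rw [← e, pt_idx]
    rw [← h i hi] at h1
    have := bpt_injective hk (by omega) (σ.injective h1)
    omega
  by_cases hk5 : k < 5
  · apply okTarget_of_ne ⟨k, hk5⟩ ⟨idx (σ (bpt k)), idx_lt _⟩
    intro i hi
    exact hne i hi
  · have hP := pres_octO hσ (fun i hi => h i (by omega))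
    have hPk := hP (bpt k)
    rcases (show k = 5 ∨ k = 6 by omega) with rfl | rfl
    · rw [ok5_iff, hPk]
      unfold bpt
      rw [idx_pt (base_lt ⟨5, by decide⟩), bpt5_not_mem]
      rfl
    · apply target6 ⟨idx (σ (bpt 6)), idx_lt _⟩
      · show octO.testBit (idx (σ (bpt 6))) = true
        rw [hPk]
        unfold bpt
        rw [idx_pt (base_lt ⟨6, by decide⟩), bpt6_mem]
      · intro i
        exact hne i (by omega)

theorem chain_step (K : Subgroup (Equiv.Perm GolayPt)) (hHK : H ≤ K) (hK : K ≤ M24)
    (k : ℕ) (hk : k < 7) :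
    Nat.card (chain K k) = [24, 23, 22, 21, 20, 16, 3].getD k 0 * Nat.card (chain K (k + 1)) := by
  rw [← card_targets k hk]
  apply card_eq_orbit_mul (chain K k) (bpt k) (targets k)
  · intro σ hσ
    rw [mem_chain] at hσ
    exact orbit_subset (hK hσ.1) k hk hσ.2
  · intro c hc
    rw [mem_targets] at hc
    obtain ⟨u, hu, hu1, hu2⟩ := level k hk c hc
    refine ⟨u, ?_, hu2⟩
    rw [mem_chain]
    exact ⟨hHK hu, hu1⟩

/-- octads certifying that only the identity fixes the seven base points. -/
def baseCert : List ℕ := [12656663, 8663097, 3416079, 13938692, 10825794, 13062145, 4845570,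
  2019456, 4038912, 8077824, 11654144]

theorem baseCert_check : runCert baseCert (base.map (fun i => 2 ^ i)) = true := by
  decide +kernel

theorem eq_one_of_fixes_base {σ : Equiv.Perm GolayPt} (hσ : σ ∈ M24)
    (h : ∀ i < 7, σ (bpt i) = bpt i) : σ = 1 := by
  apply runCert_sound hσ baseCert (base.map (fun i => 2 ^ i)) _ baseCert_check
  intro S hS
  rw [List.mem_map] at hS
  obtain ⟨i, hi, rfl⟩ := hS
  obtain ⟨n, hn, e⟩ := List.getElem_of_mem hi
  have hn7 : n < 7 := by simpa [base] using hn
  have e2 : base.getD n 0 = i := by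
    rw [List.getD_eq_getElem _ _ hn]; exact e
  have h1 := h n hn7
  unfold bpt at h1
  rw [e2] at h1
  have hi24 : i < 24 := by rw [← e2]; exact base_lt ⟨n, hn7⟩
  exact pres_two_pow hi24 h1

theorem chain_seven (K : Subgroup (Equiv.Perm GolayPt)) (hK : K ≤ M24) : chain K 7 = ⊥ := by
  rw [eq_bot_iff]
  intro σ hσ
  rw [mem_chain] at hσ
  rw [Subgroup.mem_bot]
  exact eq_one_of_fixes_base (hK hσ.1) hσ.2

/-- any group between the generated group and the group of the code has order 244823040. -/
theorem card_of_between (K : Subgroup (Equiv.Perm GolayPt)) (hHK : H ≤ K) (hK : K ≤ M24) :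
    Nat.card K = 244823040 := by
  have h0 := chain_step K hHK hK 0 (by decide)
  have h1 := chain_step K hHK hK 1 (by decide)
  have h2 := chain_step K hHK hK 2 (by decide)
  have h3 := chain_step K hHK hK 3 (by decide)
  have h4 := chain_step K hHK hK 4 (by decide)
  have h5 := chain_step K hHK hK 5 (by decide)
  have h6 := chain_step K hHK hK 6 (by decide)
  have h7 : Nat.card (chain K 7) = 1 := by
    rw [chain_seven K hK]; exact Subgroup.card_bot
  simp only [List.getD_cons_zero, List.getD_cons_succ] at h0 h1 h2 h3 h4 h5 h6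
  have : Nat.card (chain K 0) = Nat.card K := rfl
  rw [← this, h0, h1, h2, h3, h4, h5, h6, h7]

theorem card_M24 : Nat.card M24 = 244823040 := card_of_between M24 H_le_M24 le_rfl

theorem card_H : Nat.card H = 244823040 := card_of_between H le_rfl H_le_M24

theorem H_eq_M24 : H = M24 := by
  apply Subgroup.eq_of_le_of_card_ge H_le_M24
  rw [card_M24, card_H]

end Cfsg.Agent.Lib.Helper10
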