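import Cfsg.Agent.Lib.Helper10.OutM12

set_option autoImplicit false

namespace Cfsg.Agent.Lib.Helper10

open Cfsg MulAction
open scoped Pointwise

theorem cent_c_M11 {σ : Equiv.Perm GolayPt} (hσ : σ ∈ M24) (hP : Pres σ d0)
    (h0 : σ (pt 0) = pt 0) (h : σ * cubeTwist = cubeTwist * σ) :
    σ ∈ Subgroup.zpowers cubeTwist := by
  obtain ⟨z, hz, hσz⟩ := cent_c_M12 hσ hP h
  rcases hσz with hσz | hσz
  · rw [hσz]; exact hz
  · exfalso
    obtain ⟨i, hi, rfl⟩ := exists_pow_lt_of_mem_zpowers (by decide : 0 < 5) cubeTwist_pow_5 hz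
    rw [hσz] at h0
    have h1 : (cubeTwist ^ i * t12) (pt 0) = pt 3 := by
      show (cubeTwist ^ i) (t12 (pt 0)) = pt 3
      rw [isTab_t12.apply_pt (by decide)]
      show (cubeTwist ^ i) (pt 3) = pt 3
      rw [(isTab_cubeTwist.pow i).apply_pt (by decide), tbl2_iter_fixed ⟨i, hi⟩ 3 (by simp)]
    rw [h1] at h0
    exact absurd (pt_injective (by decide) (by decide) h0) (by decide)

theorem rel_s11 : s11 * cubeTwist * s11⁻¹ ∈ Subgroup.zpowers cubeTwist := by
  have h : s11 * cubeTwist = cubeTwist ^ 2 * s11 :=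
    (isTab_s11.mul isTab_cubeTwist).eq_of ((isTab_cubeTwist.pow 2).mul isTab_s11)
      (by decide +kernel)
  rw [h, mul_inv_cancel_right]
  exact Subgroup.pow_mem _ (Subgroup.mem_zpowers cubeTwist) _

/-- candidate images of the generators of `M11`. -/
noncomputable def vC11 (g0 : Equiv.Perm GolayPt) (i : ℕ) : ℕ → Equiv.Perm GolayPt
  | 0 => g0
  | 1 => cubeTwist
  | 2 => s11 * cubeTwist ^ i
  | _ => 1

def TC11 (T0 : ℕ → ℕ) (i : ℕ) : ℕ → ℕ → ℕ
  | 0 => T0
  | 1 => tbl 2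
  | 2 => tblS11 ∘ (tbl 2)^[i]
  | _ => id

theorem isTab_vC11 (g0 : Equiv.Perm GolayPt) (T0 : ℕ → ℕ) (h0 : IsTab g0 T0) (i k : ℕ) :
    IsTab (vC11 g0 i k) (TC11 T0 i k) := by
  match k with
  | 0 => exact h0
  | 1 => exact isTab_cubeTwist
  | 2 => exact isTab_s11.mul (isTab_cubeTwist.pow i)
  | (n + 3) => exact IsTab.one

def rels11 : List (List ℕ × List ℕ) := [([0, 2, 2, 2, 0], [1, 2, 0, 0, 2, 1])]

theorem cand_check11a : ∀ i : Fin 5, relsOK (TC11 tblM i) rels11 = true → i.val = 0 := by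
  decide +kernel

theorem cand_check11b : ∀ i : Fin 5, relsOK (TC11 tblMi i) rels11 = false := by
  decide +kernel

theorem rels11_hold : relsOK (TC11 tblM 0) rels11 = true := by decide +kernel

theorem all_inner_M11 (φ : Spor.M11 ≃* Spor.M11) : ∃ g : Spor.M11, ∀ x, φ x = g * x * g⁻¹ := by
  have hM := gM_mem_M11
  have hC := cubeTwist_mem_M11
  have hS := s11_mem_M11
  obtain ⟨ψ, ⟨g, hg⟩, ha, hc, hcos⟩ := normalize_aut11 Spor.M11 M11_le_M24 hM hC 720
    (by rw [card_M11]) (by norm_num) φ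
  obtain ⟨z, hzK, hzc, hs⟩ := hcos s11 hS rel_s11
  have hz' := (mem_M11_iff z).mp hzK
  obtain ⟨i, hi, hzi⟩ := exists_pow_lt_of_mem_zpowers (by decide : 0 < 5) cubeTwist_pow_5
    (cent_c_M11 hz'.1 hz'.2.1 hz'.2.2 hzc)
  rw [hzi] at hs
  let v0 : ℕ → Spor.M11 := fun k => match k with
    | 0 => ⟨gM, hM⟩
    | 1 => ⟨cubeTwist, hC⟩
    | 2 => ⟨s11, hS⟩
    | _ => 1
  have hv0 : (fun k => ((v0 k : Spor.M11) : Equiv.Perm GolayPt)) = vC11 gM 0 := by
    funext k
    match k with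
    | 0 => rfl
    | 1 => rfl
    | 2 => show s11 = s11 * cubeTwist ^ 0; rw [pow_zero, mul_one]
    | (n + 3) => rfl
  have hrel : ∀ r ∈ rels11, wprod v0 r.1 = wprod v0 r.2 := by
    intro r hr
    apply Subtype.ext
    have h1 := map_wprod Spor.M11.subtype v0 r.1
    have h2 := map_wprod Spor.M11.subtype v0 r.2
    simp only [Subgroup.coe_subtype] at h1 h2
    rw [h1, h2, hv0]
    exact wprod_eq_of_relsOK _ _ (isTab_vC11 gM tblM isTab_gM 0) rels11 rels11_hold r hr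
  have hrelψ : ∀ (g0 : Equiv.Perm GolayPt), (ψ ⟨gM, hM⟩ : Equiv.Perm GolayPt) = g0 →
      ∀ r ∈ rels11, wprod (vC11 g0 i) r.1 = wprod (vC11 g0 i) r.2 := by
    intro g0 hg0 r hr
    have hψv : (fun k => ((ψ (v0 k) : Spor.M11) : Equiv.Perm GolayPt)) = vC11 g0 i := by
      funext k
      match k with
      | 0 => exact hg0
      | 1 => exact hc
      | 2 => exact hs
      | (n + 3) =>
        show ((ψ 1 : Spor.M11) : Equiv.Perm GolayPt) = 1
        rw [map_one]; rfl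
    have h0 : ((ψ (wprod v0 r.1) : Spor.M11) : Equiv.Perm GolayPt) =
        ((ψ (wprod v0 r.2) : Spor.M11) : Equiv.Perm GolayPt) := by
      rw [hrel r hr]
    have h1 := map_wprod (Spor.M11.subtype.comp ψ.toMonoidHom) v0 r.1
    have h2 := map_wprod (Spor.M11.subtype.comp ψ.toMonoidHom) v0 r.2
    simp only [MonoidHom.comp_apply, Subgroup.coe_subtype, MulEquiv.coe_toMonoidHom] at h1 h2
    rw [h1, h2, hψv] at h0
    exact h0
  rcases ha with ha | ha
  · have hck := cand_check11a ⟨i, hi⟩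
      (relsOK_of_wprod_eq _ _ (isTab_vC11 gM tblM isTab_gM i) rels11 (hrelψ gM ha))
    simp only at hck
    subst hck
    rw [pow_zero, mul_one] at hs
    have hid : ∀ x : Spor.M11, ψ x = x := by
      apply aut_eq_id_of_gens Spor.M11 _ G11_eq_M11 ψ
      intro s hsK hsS
      rcases hsS with rfl | rfl | rfl
      · exact ha
      · exact hc
      · exact hs
    refine ⟨g⁻¹, fun x => ?_⟩
    have h2 : g * φ x * g⁻¹ = x := by rw [← hg x, hid x]
    calc φ x = g⁻¹ * (g * φ x * g⁻¹) * g := by group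
      _ = g⁻¹ * x * g⁻¹⁻¹ := by rw [h2, inv_inv]
  · exfalso
    have h1 := relsOK_of_wprod_eq _ _ (isTab_vC11 gM⁻¹ tblMi isTab_gM_inv i) rels11 (hrelψ gM⁻¹ ha)
    rw [cand_check11b ⟨i, hi⟩] at h1
    exact Bool.false_ne_true h1

end Cfsg.Agent.Lib.Helper10
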