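import Cfsg.Agent.Lib.Helper10.M22Gen

set_option autoImplicit false

namespace Cfsg.Agent.Lib.Helper10

open Cfsg MulAction
open scoped Pointwise

/-! ### The centraliser of the cube twist in `M22` -/

/-- words with prescribed images `23, 0, y, c³ y, z` of the first five base points. -/
def caseW22 (z y : ℕ) : List ℕ :=
  if z = 3 then
    (if y = 1 then []
     else if y = 5 then [3,4,0,2,2,3,0,4,0,2,0,2,0,2,3,4,4,1,3,3,4,4,3,4,4,0,2,1]
     else if y = 8 then [0,0,4,0,4,3,2,0,2,0,2,0,2,2,0,4,4,0,0,4,4,0,2,3]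
     else [0,4,4,3,2,0,3,3,4,4,0,4,4,2,0,0,0,2,2,3,4,0])
  else
    (if y = 1 then [0,0,0,0,0,4,0,0,0,0,2]
     else if y = 5 then [3,4,0,2,2,3,0,4,0,2,0,2,0,2,3,3,4,3,2,0,4,0,4,0,2]
     else if y = 8 then [0,0,4,0,4,3,2,0,2,0,2,0,2,0,0,0,2,2,3,4,0]
     else [0,4,4,3,2,0,3,3,4,4,0,4,4,4,4,0,0,2,0,4,0,0])

theorem cases22_check : ∀ z ∈ [3, 15], ∀ y ∈ [1, 5, 8, 11],
    (evalW (caseW22 z y) 23 = 23 ∧ evalW (caseW22 z y) 0 = 0 ∧ evalW (caseW22 z y) 1 = y ∧
      evalW (caseW22 z y) 2 = (tbl 2)^[3] y ∧ evalW (caseW22 z y) 3 = z) ∧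
    caseOK commC isIdW (caseW22 z y) = true := by decide +kernel

theorem cubeTwist_mem_M24 : cubeTwist ∈ M24 := H_le_M24 (gen_mem_H 2)

theorem cent_c_M22 {σ : Equiv.Perm GolayPt} (hσ : σ ∈ M24) (h23 : σ (pt 23) = pt 23)
    (h0 : σ (pt 0) = pt 0) (h : σ * cubeTwist = cubeTwist * σ) :
    σ ∈ Subgroup.zpowers cubeTwist := by
  -- the image of 3
  have hz : idx (σ (pt 3)) ∈ [3, 15] := by
    have h1 := tbl2_fixed ⟨idx (σ (pt 3)), idx_lt _⟩ (fix_of_commC h (by decide) (by decide))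
    simp only [List.mem_cons, List.not_mem_nil, or_false] at h1 ⊢
    rcases h1 with h1 | h1 | h1 | h1
    · exfalso
      have := eq_pt_of_idx h1
      rw [← h0] at this
      exact absurd (pt_injective (by decide) (by decide) (σ.injective this)) (by decide)
    · exact Or.inl h1
    · exact Or.inr h1
    · exfalso
      have := eq_pt_of_idx h1
      rw [← h23] at this
      exact absurd (pt_injective (by decide) (by decide) (σ.injective this)) (by decide)
  -- normalise the image of 1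
  obtain ⟨k, hk⟩ := tbl2_norm ⟨idx (σ (pt 1)), idx_lt _⟩ (nonfix_of_commC h (by decide) (by decide))
  simp only at hk
  set τ := cubeTwist ^ k.val * σ with hτ
  have hτM : τ ∈ M24 := M24.mul_mem (M24.pow_mem cubeTwist_mem_M24 _) hσ
  have hτc : τ * cubeTwist = cubeTwist * τ := by
    have : Commute (cubeTwist ^ k.val * σ) cubeTwist :=
      Commute.mul_left ((Commute.refl cubeTwist).pow_left _) h
    exact this.eq
  have hTk := isTab_cubeTwist.pow k.val
  have hfixk : ∀ z ∈ [0, 3, 15, 23], (cubeTwist ^ k.val) (pt z) = pt z := by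
    intro z hz'
    have hz24 : z < 24 := by
      simp only [List.mem_cons, List.not_mem_nil, or_false] at hz'
      omega
    rw [hTk.apply_pt hz24, tbl2_iter_fixed k z hz']
  have e23 : τ (pt 23) = pt 23 := by
    show (cubeTwist ^ k.val) (σ (pt 23)) = pt 23
    rw [h23]; exact hfixk 23 (by simp)
  have e0 : τ (pt 0) = pt 0 := by
    show (cubeTwist ^ k.val) (σ (pt 0)) = pt 0
    rw [h0]; exact hfixk 0 (by simp)
  set z := idx (σ (pt 3)) with hzdef
  have e3 : τ (pt 3) = pt z := by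
    show (cubeTwist ^ k.val) (σ (pt 3)) = pt z
    rw [eq_pt_of_idx hzdef.symm]
    apply hfixk z
    simp only [List.mem_cons, List.not_mem_nil, or_false] at hz ⊢
    omega
  set y := (tbl 2)^[k.val] (idx (σ (pt 1))) with hydef
  have e1 : τ (pt 1) = pt y := by
    show (cubeTwist ^ k.val) (σ (pt 1)) = pt y
    apply eq_pt_of_idx
    rw [hTk]
  have e2 : τ (pt 2) = pt ((tbl 2)^[3] y) := by
    have hp2 : pt 2 = (cubeTwist ^ 3) (pt 1) := by
      rw [(isTab_cubeTwist.pow 3).apply_pt (by decide)]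
      rfl
    have hy24 : y < 24 := by
      have := congrArg idx e1
      rw [← pt_idx (τ (pt 1))] at e1
      have h5 : idx (τ (pt 1)) = y := by
        have := hTk (σ (pt 1))
        exact this
      rw [← h5]; exact idx_lt _
    rw [hp2, commute_pow_apply hτc, e1, (isTab_cubeTwist.pow 3).apply_pt hy24]
  obtain ⟨⟨c23, c0, c1, c2, c3⟩, hOK⟩ := cases22_check z hz y hk
  have hagree : ∀ i < 5, τ (bpt i) = wordPerm (caseW22 z y) (bpt i) := by
    intro i hi
    have hb : ∀ j, j < 24 → wordPerm (caseW22 z y) (pt j) = pt (evalW (caseW22 z y) j) :=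
      fun j hj => (isTab_wordPerm _).apply_pt hj
    interval_cases i
    · show τ (pt 23) = wordPerm _ (pt 23)
      rw [hb 23 (by decide), c23, e23]
    · show τ (pt 0) = wordPerm _ (pt 0)
      rw [hb 0 (by decide), c0, e0]
    · show τ (pt 1) = wordPerm _ (pt 1)
      rw [hb 1 (by decide), c1, e1]
    · show τ (pt 2) = wordPerm _ (pt 2)
      rw [hb 2 (by decide), c2, e2]
    · show τ (pt 3) = wordPerm _ (pt 3)
      rw [hb 3 (by decide), c3, e3]
  obtain ⟨w, hw, hgood⟩ := case_sound commC isIdW _ hOK τ hτM hagree (by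
    intro w hw
    apply commC_of_commute
    rw [← hw]; exact hτc)
  have hτ1 : τ = 1 := by rw [hw]; exact eq_one_of_isIdW w hgood
  have : σ = (cubeTwist ^ k.val)⁻¹ := by
    rw [eq_inv_iff_mul_eq_one, ← hτ1, hτ]
    have : Commute σ (cubeTwist ^ k.val) := Commute.pow_right h _
    exact this.eq
  rw [this]
  exact Subgroup.inv_mem _ (Subgroup.pow_mem _ (Subgroup.mem_zpowers cubeTwist) _)

/-! ### Relations -/

theorem cubeTwist_pow_5 : cubeTwist ^ 5 = 1 :=
  (isTab_cubeTwist.pow 5).eq_of IsTab.one (by decide +kernel)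

theorem gM_inv_eq : gM⁻¹ = gM ^ 10 := by
  apply inv_eq_of_mul_eq_one_right
  rw [← pow_succ', gM_pow_11]

/-- the table of the inverse of `gM`. -/
def tblMi : ℕ → ℕ := tblM^[10]

theorem isTab_gM_inv : IsTab gM⁻¹ tblMi := by
  rw [gM_inv_eq]; exact isTab_gM.pow 10

theorem rel_s22 : s22 * cubeTwist * s22⁻¹ ∈ Subgroup.zpowers cubeTwist := by
  have h : s22 * cubeTwist = cubeTwist ^ 2 * s22 :=
    (isTab_s22.mul isTab_cubeTwist).eq_of ((isTab_cubeTwist.pow 2).mul isTab_s22)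
      (by decide +kernel)
  rw [h, mul_inv_cancel_right]
  exact Subgroup.pow_mem _ (Subgroup.mem_zpowers cubeTwist) _

theorem rel_b_gM : projInv * gM * projInv⁻¹ = gM⁻¹ := by
  have h : gM * projInv * gM = projInv :=
    ((isTab_gM.mul isTab_projInv).mul isTab_gM).eq_of isTab_projInv (by decide +kernel)
  calc projInv * gM * projInv⁻¹ = gM⁻¹ * (gM * projInv * gM) * projInv⁻¹ := by group
    _ = gM⁻¹ := by rw [h]; group

theorem rel_b_c : projInv * cubeTwist * projInv⁻¹ = cubeTwist := by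
  have h : projInv * cubeTwist = cubeTwist * projInv :=
    (isTab_projInv.mul isTab_cubeTwist).eq_of (isTab_cubeTwist.mul isTab_projInv)
      (by decide +kernel)
  rw [h, mul_inv_cancel_right]

theorem rel_b_s22 : projInv * s22 * projInv⁻¹ = s22 := by
  have h : projInv * s22 = s22 * projInv :=
    (isTab_projInv.mul isTab_s22).eq_of (isTab_s22.mul isTab_projInv) (by decide +kernel)
  rw [h, mul_inv_cancel_right]

theorem projInv_mem_M24 : projInv ∈ M24 := H_le_M24 (gen_mem_H 1)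

theorem projInv_pt0 : projInv (pt 0) = pt 23 := isTab_projInv.apply_pt (by decide)
theorem projInv_pt23 : projInv (pt 23) = pt 0 := isTab_projInv.apply_pt (by decide)
theorem projInv_inv_pt0 : projInv⁻¹ (pt 0) = pt 23 := by
  rw [Equiv.Perm.inv_eq_iff_eq, projInv_pt23]
theorem projInv_inv_pt23 : projInv⁻¹ (pt 23) = pt 0 := by
  rw [Equiv.Perm.inv_eq_iff_eq, projInv_pt0]

theorem conj_b_M22 : ∀ x ∈ Spor.M22, projInv * x * projInv⁻¹ ∈ Spor.M22 := by
  intro x hx
  rw [mem_M22_iff] at hx ⊢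
  refine ⟨M24.mul_mem (M24.mul_mem projInv_mem_M24 hx.1) (M24.inv_mem projInv_mem_M24), ?_, ?_⟩
  · show projInv (x (projInv⁻¹ (pt 23))) = pt 23
    rw [projInv_inv_pt23, hx.2.2, projInv_pt0]
  · show projInv (x (projInv⁻¹ (pt 0))) = pt 0
    rw [projInv_inv_pt0, hx.2.1, projInv_pt23]

theorem conj_b_M22' : ∀ x ∈ Spor.M22, projInv⁻¹ * x * projInv ∈ Spor.M22 := by
  intro x hx
  rw [mem_M22_iff] at hx ⊢
  refine ⟨M24.mul_mem (M24.mul_mem (M24.inv_mem projInv_mem_M24) hx.1) projInv_mem_M24, ?_, ?_⟩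
  · show projInv⁻¹ (x (projInv (pt 23))) = pt 23
    rw [projInv_pt23, hx.2.2, projInv_inv_pt0]
  · show projInv⁻¹ (x (projInv (pt 0))) = pt 0
    rw [projInv_pt0, hx.2.1, projInv_inv_pt23]

/-- the outer automorphism of `M22`: conjugation by `projInv`. -/
noncomputable def β22 : Spor.M22 ≃* Spor.M22 := conjAut Spor.M22 projInv conj_b_M22 conj_b_M22'

theorem β22_apply (x : Spor.M22) :
    ((β22 x : Spor.M22) : Equiv.Perm GolayPt) = projInv * x * projInv⁻¹ := rfl

theorem β22_not_inner : ¬ ∃ g : Spor.M22, ∀ x, β22 x = g * x * g⁻¹ := by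
  rintro ⟨g, hg⟩
  have h1 := congrArg Subtype.val (hg ⟨gM, gM_mem_M22⟩)
  have h2 : projInv * gM * projInv⁻¹ = g * gM * (g : Equiv.Perm GolayPt)⁻¹ := h1
  have h3 : ((g : Equiv.Perm GolayPt)⁻¹ * projInv) * gM = gM * ((g : Equiv.Perm GolayPt)⁻¹ * projInv) := by
    calc ((g : Equiv.Perm GolayPt)⁻¹ * projInv) * gM
        = (g : Equiv.Perm GolayPt)⁻¹ * (projInv * gM * projInv⁻¹) * projInv := by group
      _ = gM * ((g : Equiv.Perm GolayPt)⁻¹ * projInv) := by rw [h2]; group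
  have hgM24 : (g : Equiv.Perm GolayPt) ∈ M24 := M22_le_M24 g.2
  obtain ⟨n, hn⟩ := cent_gM (M24.mul_mem (M24.inv_mem hgM24) projInv_mem_M24) h3
  have hn : gM ^ n = (g : Equiv.Perm GolayPt)⁻¹ * projInv := hn
  have h4 : projInv = g * gM ^ n := by rw [hn]; group
  have h5 : (g : Equiv.Perm GolayPt) * gM ^ n ∈ Spor.M22 :=
    Spor.M22.mul_mem g.2 (Spor.M22.zpow_mem gM_mem_M22 n)
  rw [← h4, mem_M22_iff] at h5
  have := h5.2.1
  rw [projInv_pt23] at this
  exact absurd (pt_injective (by decide) (by decide) this) (by decide)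

/-! ### Candidates -/

/-- candidate images of the generators of `M22`. -/
noncomputable def vC22 (g0 : Equiv.Perm GolayPt) (i : ℕ) : ℕ → Equiv.Perm GolayPt
  | 0 => g0
  | 1 => cubeTwist
  | 2 => s22 * cubeTwist ^ i
  | _ => 1

def TC22 (T0 : ℕ → ℕ) (i : ℕ) : ℕ → ℕ → ℕ
  | 0 => T0
  | 1 => tbl 2
  | 2 => tblS22 ∘ (tbl 2)^[i]
  | _ => id

theorem isTab_vC22 (g0 : Equiv.Perm GolayPt) (T0 : ℕ → ℕ) (h0 : IsTab g0 T0) (i k : ℕ) :
    IsTab (vC22 g0 i k) (TC22 T0 i k) := by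
  match k with
  | 0 => exact h0
  | 1 => exact isTab_cubeTwist
  | 2 => exact isTab_s22.mul (isTab_cubeTwist.pow i)
  | (n + 3) => exact IsTab.one

def rels22 : List (List ℕ × List ℕ) := [([2, 2, 0, 2, 2], [0, 0, 2, 1, 2, 0, 0])]

theorem cand_check22 : ∀ T0 ∈ [tblM, tblMi], ∀ i : Fin 5,
    relsOK (TC22 T0 i) rels22 = true → i.val = 0 := by
  intro T0 hT0
  simp only [List.mem_cons, List.not_mem_nil, or_false] at hT0
  rcases hT0 with rfl | rfl
  · decide +kernel
  · decide +kernel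

theorem rels22_hold : relsOK (TC22 tblM 0) rels22 = true := by decide +kernel

theorem all_aut_M22 (φ : Spor.M22 ≃* Spor.M22) :
    (∃ g : Spor.M22, ∀ x, φ x = g * x * g⁻¹) ∨ (∃ g : Spor.M22, ∀ x, φ x = g * β22 x * g⁻¹) := by
  have hM := gM_mem_M22
  have hC := cubeTwist_mem_M22
  have hS := s22_mem_M22
  obtain ⟨ψ, ⟨g, hg⟩, ha, hc, hcos⟩ := normalize_aut11 Spor.M22 M22_le_M24 hM hC 40320
    (by rw [card_M22]) (by norm_num) φ
  obtain ⟨z, hzK, hzc, hs⟩ := hcos s22 hS rel_s22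
  have hz' := (mem_M22_iff z).mp hzK
  obtain ⟨i, hi, hzi⟩ := exists_pow_lt_of_mem_zpowers (by decide : 0 < 5) cubeTwist_pow_5
    (cent_c_M22 hz'.1 hz'.2.1 hz'.2.2 hzc)
  rw [hzi] at hs
  obtain ⟨g0, T0, hgT, hT0, hε⟩ : ∃ (g0 : Equiv.Perm GolayPt) (T0 : ℕ → ℕ), IsTab g0 T0 ∧
      T0 ∈ [tblM, tblMi] ∧ (ψ ⟨gM, hM⟩ : Equiv.Perm GolayPt) = g0 := by
    rcases ha with ha | ha
    · exact ⟨gM, tblM, isTab_gM, by simp, ha⟩
    · exact ⟨gM⁻¹, tblMi, isTab_gM_inv, by simp, ha⟩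
  let v0 : ℕ → Spor.M22 := fun k => match k with
    | 0 => ⟨gM, hM⟩
    | 1 => ⟨cubeTwist, hC⟩
    | 2 => ⟨s22, hS⟩
    | _ => 1
  have hv0 : (fun k => ((v0 k : Spor.M22) : Equiv.Perm GolayPt)) = vC22 gM 0 := by
    funext k
    match k with
    | 0 => rfl
    | 1 => rfl
    | 2 => show s22 = s22 * cubeTwist ^ 0; rw [pow_zero, mul_one]
    | (n + 3) => rfl
  have hψv : (fun k => ((ψ (v0 k) : Spor.M22) : Equiv.Perm GolayPt)) = vC22 g0 i := by
    funext k
    match k with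
    | 0 => exact hε
    | 1 => exact hc
    | 2 => exact hs
    | (n + 3) =>
      show ((ψ 1 : Spor.M22) : Equiv.Perm GolayPt) = 1
      rw [map_one]; rfl
  have hrel : ∀ r ∈ rels22, wprod v0 r.1 = wprod v0 r.2 := by
    intro r hr
    apply Subtype.ext
    have h1 := map_wprod Spor.M22.subtype v0 r.1
    have h2 := map_wprod Spor.M22.subtype v0 r.2
    simp only [Subgroup.coe_subtype] at h1 h2
    rw [h1, h2, hv0]
    exact wprod_eq_of_relsOK _ _ (isTab_vC22 gM tblM isTab_gM 0) rels22 rels22_hold r hr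
  have hrelψ : ∀ r ∈ rels22, wprod (vC22 g0 i) r.1 = wprod (vC22 g0 i) r.2 := by
    intro r hr
    have h0 : ((ψ (wprod v0 r.1) : Spor.M22) : Equiv.Perm GolayPt) =
        ((ψ (wprod v0 r.2) : Spor.M22) : Equiv.Perm GolayPt) := by
      rw [hrel r hr]
    have h1 := map_wprod (Spor.M22.subtype.comp ψ.toMonoidHom) v0 r.1
    have h2 := map_wprod (Spor.M22.subtype.comp ψ.toMonoidHom) v0 r.2
    simp only [MonoidHom.comp_apply, Subgroup.coe_subtype, MulEquiv.coe_toMonoidHom] at h1 h2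
    rw [h1, h2, hψv] at h0
    exact h0
  have hck := cand_check22 T0 hT0 ⟨i, hi⟩ (relsOK_of_wprod_eq _ _ (isTab_vC22 g0 T0 hgT i) rels22 hrelψ)
  simp only at hck
  subst hck
  rw [pow_zero, mul_one] at hs
  rcases ha with ha | ha
  swap
  · -- ψ agrees with β22 on the generators
    right
    have hid : ∀ x : Spor.M22, (ψ.trans β22.symm) x = x := by
      apply aut_eq_id_of_gens Spor.M22 _ K22_eq_M22 (ψ.trans β22.symm)
      intro s hsK hsS
      have key : ∀ (y : Spor.M22) (x : Spor.M22), (β22 x : Equiv.Perm GolayPt) = ψ y →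
          ((ψ.trans β22.symm) y) = x := by
        intro y x hxy
        show β22.symm (ψ y) = x
        rw [MulEquiv.symm_apply_eq]
        exact Subtype.ext hxy.symm
      rcases hsS with rfl | rfl | rfl
      · rw [key ⟨gM, hsK⟩ ⟨gM, hsK⟩]
        rw [β22_apply, ha]
        exact rel_b_gM
      · rw [key ⟨cubeTwist, hsK⟩ ⟨cubeTwist, hsK⟩]
        rw [β22_apply, hc]
        exact rel_b_c
      · rw [key ⟨s22, hsK⟩ ⟨s22, hsK⟩]
        rw [β22_apply, hs]
        exact rel_b_s22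
    refine ⟨g⁻¹, fun x => ?_⟩
    have h1 : ψ x = β22 x := by
      have := hid x
      have h2 : (ψ.trans β22.symm) x = β22.symm (ψ x) := rfl
      rw [h2, MulEquiv.symm_apply_eq] at this
      exact this
    have h2 : g * φ x * g⁻¹ = β22 x := by rw [← hg x, h1]
    calc φ x = g⁻¹ * (g * φ x * g⁻¹) * g := by group
      _ = g⁻¹ * β22 x * g⁻¹⁻¹ := by rw [h2, inv_inv]
  · left
    have hid : ∀ x : Spor.M22, ψ x = x := by
      apply aut_eq_id_of_gens Spor.M22 _ K22_eq_M22 ψ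
      intro s hsK hsS
      rcases hsS with rfl | rfl | rfl
      · exact ha
      · exact hc
      · exact hs
    refine ⟨g⁻¹, fun x => ?_⟩
    have h2 : g * φ x * g⁻¹ = x := by rw [← hg x, hid x]
    calc φ x = g⁻¹ * (g * φ x * g⁻¹) * g := by group
      _ = g⁻¹ * x * g⁻¹⁻¹ := by rw [h2, inv_inv]

end Cfsg.Agent.Lib.Helper10
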