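import Cfsg.Agent.Lib.Helper10.M12Gen
import Cfsg.Agent.Lib.Helper10.OutM22

set_option autoImplicit false

namespace Cfsg.Agent.Lib.Helper10

open Cfsg MulAction
open scoped Pointwise

/-! ### The centraliser of the cube twist in `M12` -/

/-- words with prescribed images `s23, s0, y, c³ y, 3 - s0` of the first five base points. -/
def caseW12 (s23 s0 y : ℕ) : List ℕ :=
  if s23 = 23 then
    (if s0 = 0 then
      (if y = 1 then [] else [0,0,4,0,4,3,2,0,2,0,2,0,2,2,0,4,4,0,0,4,4,0,2,3])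
     else
      (if y = 1 then [0,0,0,2,3,4,0,2,2,3,4,0,0,0,0,4,3,2,2,0,0,0,2,2,3,4,0]
       else [0,0,0,3,4,0,2,2,3,3,4,0,0,0,4,3,3,3,2,0]))
  else
    (if s0 = 0 then
      (if y = 1 then [0,2,3,1,0,0,4,0,3,2,0,4,3,3,2,3,2,3,4,4,3,3,2,2,0,4,4,0,0,4,4,0,2,3]
       else [0,2,3,1,0,0,4,0,3,3,3,3,4,0,0,0,0,2,0,2,0,2,2,3,0,0,0,0,0,4,0,0,0,0,2])
     else
      (if y = 1 then [0,2,3,1,2,3,2,3,3,3,3,3,4,0,0,2,2,3,2,2,0,0,3,4,0,0,0,4,3,3,3,2,0]
       else [0,2,3,1,2,3,2,3,0,0,4,0,4,3,2,3,2,3,4,4,3,3,2,3,3,4,3,3,2,0,4,4,3]))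

/-- commuting with the cube twist and preserving the dodecad of squares. -/
def cond12 (w : List ℕ) : Bool := commC w && presTab (evalW w)

/-- the identity, or a power of the cube twist times `t12`. -/
def good12 (w : List ℕ) : Bool :=
  isIdW w || (List.range 5).any fun k =>
    (List.range 24).all fun i => evalW w i == (tbl 2)^[k] (tblT12 i)

theorem cases12_check : ∀ s23 ∈ [23, 15], ∀ s0 ∈ [0, 3], ∀ y ∈ [1, 8],
    (evalW (caseW12 s23 s0 y) 23 = s23 ∧ evalW (caseW12 s23 s0 y) 0 = s0 ∧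
      evalW (caseW12 s23 s0 y) 1 = y ∧ evalW (caseW12 s23 s0 y) 2 = (tbl 2)^[3] y ∧
      evalW (caseW12 s23 s0 y) 3 = 3 - s0) ∧
    caseOK cond12 good12 (caseW12 s23 s0 y) = true := by decide +kernel

theorem tbl2_fixed_in : ∀ j : Fin 24, tbl 2 j = j → d0.testBit j = true → j.val ∈ [0, 3] := by
  decide +kernel

theorem tbl2_fixed_out : ∀ j : Fin 24, tbl 2 j = j → d0.testBit j = false → j.val ∈ [23, 15] := by
  decide +kernel

theorem tbl2_norm12 : ∀ j : Fin 24, tbl 2 j ≠ j → d0.testBit j = true →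
    ∃ k : Fin 5, (tbl 2)^[k] j ∈ [1, 8] := by decide +kernel

theorem cent_c_M12 {σ : Equiv.Perm GolayPt} (hσ : σ ∈ M24) (hP : Pres σ d0)
    (h : σ * cubeTwist = cubeTwist * σ) :
    ∃ z ∈ Subgroup.zpowers cubeTwist, σ = z ∨ σ = z * t12 := by
  have hPi : ∀ i, i < 24 → d0.testBit (idx (σ (pt i))) = d0.testBit i := by
    intro i hi
    have := hP (pt i)
    rwa [idx_pt hi] at this
  -- images of the fixed points
  have h0 : idx (σ (pt 0)) ∈ [0, 3] :=
    tbl2_fixed_in ⟨_, idx_lt _⟩ (fix_of_commC h (by decide) (by decide))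
      (by rw [hPi 0 (by decide)]; decide +kernel)
  have h3 : idx (σ (pt 3)) ∈ [0, 3] :=
    tbl2_fixed_in ⟨_, idx_lt _⟩ (fix_of_commC h (by decide) (by decide))
      (by rw [hPi 3 (by decide)]; decide +kernel)
  have h23 : idx (σ (pt 23)) ∈ [23, 15] :=
    tbl2_fixed_out ⟨_, idx_lt _⟩ (fix_of_commC h (by decide) (by decide))
      (by rw [hPi 23 (by decide)]; decide +kernel)
  have hne : idx (σ (pt 3)) ≠ idx (σ (pt 0)) := by
    intro e
    have := σ.injective (idx_injective e)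
    exact absurd (pt_injective (by decide) (by decide) this) (by decide)
  have h3' : idx (σ (pt 3)) = 3 - idx (σ (pt 0)) := by
    simp only [List.mem_cons, List.not_mem_nil, or_false] at h0 h3
    omega
  obtain ⟨k, hk⟩ := tbl2_norm12 ⟨idx (σ (pt 1)), idx_lt _⟩
    (nonfix_of_commC h (by decide) (by decide)) (by rw [hPi 1 (by decide)]; decide +kernel)
  simp only at hk
  set τ := cubeTwist ^ k.val * σ with hτ
  have hτM : τ ∈ M24 := M24.mul_mem (M24.pow_mem cubeTwist_mem_M24 _) hσ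
  have hτc : τ * cubeTwist = cubeTwist * τ := by
    have : Commute (cubeTwist ^ k.val * σ) cubeTwist :=
      Commute.mul_left ((Commute.refl cubeTwist).pow_left _) h
    exact this.eq
  have hτP : Pres τ d0 := by
    intro p
    show d0.testBit (idx ((cubeTwist ^ k.val) (σ p))) = _
    have hc : Pres (cubeTwist ^ k.val) d0 :=
      pres_of_mem_K12 (K12.pow_mem (by rw [← M12_eq_K12]; exact cubeTwist_mem_M12) _)
    rw [hc (σ p), hP p]
  have hTk := isTab_cubeTwist.pow k.val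
  have hfixk : ∀ z ∈ [0, 3, 15, 23], (cubeTwist ^ k.val) (pt z) = pt z := by
    intro z hz'
    have hz24 : z < 24 := by
      simp only [List.mem_cons, List.not_mem_nil, or_false] at hz'
      omega
    rw [hTk.apply_pt hz24, tbl2_iter_fixed k z hz']
  set s23 := idx (σ (pt 23)) with hs23
  set s0 := idx (σ (pt 0)) with hs0
  have e23 : τ (pt 23) = pt s23 := by
    show (cubeTwist ^ k.val) (σ (pt 23)) = pt s23
    rw [eq_pt_of_idx hs23.symm]
    apply hfixk
    simp only [List.mem_cons, List.not_mem_nil, or_false] at h23 ⊢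
    omega
  have e0 : τ (pt 0) = pt s0 := by
    show (cubeTwist ^ k.val) (σ (pt 0)) = pt s0
    rw [eq_pt_of_idx hs0.symm]
    apply hfixk
    simp only [List.mem_cons, List.not_mem_nil, or_false] at h0 ⊢
    omega
  have e3 : τ (pt 3) = pt (3 - s0) := by
    show (cubeTwist ^ k.val) (σ (pt 3)) = pt (3 - s0)
    rw [eq_pt_of_idx h3']
    apply hfixk
    simp only [List.mem_cons, List.not_mem_nil, or_false] at h0 ⊢
    omega
  set y := (tbl 2)^[k.val] (idx (σ (pt 1))) with hydef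
  have hy1 : idx (τ (pt 1)) = y := hTk (σ (pt 1))
  have e1 : τ (pt 1) = pt y := eq_pt_of_idx hy1
  have e2 : τ (pt 2) = pt ((tbl 2)^[3] y) := by
    have hp2 : pt 2 = (cubeTwist ^ 3) (pt 1) := by
      rw [(isTab_cubeTwist.pow 3).apply_pt (by decide)]
      rfl
    have hy24 : y < 24 := by rw [← hy1]; exact idx_lt _
    rw [hp2, commute_pow_apply hτc, e1, (isTab_cubeTwist.pow 3).apply_pt hy24]
  obtain ⟨⟨c23, c0, c1, c2, c3⟩, hOK⟩ := cases12_check s23 h23 s0 h0 y hk
  have hagree : ∀ i < 5, τ (bpt i) = wordPerm (caseW12 s23 s0 y) (bpt i) := by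
    intro i hi
    have hb : ∀ j, j < 24 → wordPerm (caseW12 s23 s0 y) (pt j) = pt (evalW (caseW12 s23 s0 y) j) :=
      fun j hj => (isTab_wordPerm _).apply_pt hj
    interval_cases i
    · show τ (pt 23) = wordPerm _ (pt 23)
      rw [hb 23 (by decide), c23, e23]
    · show τ (pt 0) = wordPerm _ (pt 0)
      rw [hb 0 (by decide), c0, e0]
    · show τ (pt 1) = wordPerm _ (pt 1)
      rw [hb 1 (by decide), c1, e1]
    · show τ (pt 2) = wordPerm _ (pt 2)
      rw [hb 2 (by decide), c2, e2]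
    · show τ (pt 3) = wordPerm _ (pt 3)
      rw [hb 3 (by decide), c3, e3]
  obtain ⟨w, hw, hgood⟩ := case_sound cond12 good12 _ hOK τ hτM hagree (by
    intro w hw
    unfold cond12
    rw [Bool.and_eq_true]
    constructor
    · apply commC_of_commute
      rw [← hw]; exact hτc
    · apply presTab_of_pres (isTab_wordPerm w)
      rw [← hw]; exact hτP)
  have hσeq : σ = (cubeTwist ^ k.val)⁻¹ * τ := by rw [hτ]; group
  unfold good12 at hgood
  rw [Bool.or_eq_true] at hgood
  rcases hgood with hgood | hgood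
  · have hτ1 : τ = 1 := by rw [hw]; exact eq_one_of_isIdW w hgood
    refine ⟨(cubeTwist ^ k.val)⁻¹,
      Subgroup.inv_mem _ (Subgroup.pow_mem _ (Subgroup.mem_zpowers cubeTwist) _), Or.inl ?_⟩
    rw [hσeq, hτ1, mul_one]
  · rw [List.any_eq_true] at hgood
    obtain ⟨k', _, hk'⟩ := hgood
    rw [List.all_eq_true] at hk'
    have hτ2 : τ = cubeTwist ^ k' * t12 := by
      rw [hw]
      apply (isTab_wordPerm w).eq_of ((isTab_cubeTwist.pow k').mul isTab_t12)
      intro i hi
      have := hk' i (List.mem_range.mpr hi)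
      rwa [beq_iff_eq] at this
    refine ⟨(cubeTwist ^ k.val)⁻¹ * cubeTwist ^ k',
      Subgroup.mul_mem _ (Subgroup.inv_mem _ (Subgroup.pow_mem _ (Subgroup.mem_zpowers cubeTwist) _))
        (Subgroup.pow_mem _ (Subgroup.mem_zpowers cubeTwist) _), Or.inr ?_⟩
    rw [hσeq, hτ2, mul_assoc]

/-! ### The outer automorphism of `M12` -/

theorem rel_b_t12 : projInv * t12 * projInv⁻¹ = t12 := by
  have h : projInv * t12 = t12 * projInv :=
    (isTab_projInv.mul isTab_t12).eq_of (isTab_t12.mul isTab_projInv) (by decide +kernel)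
  rw [h, mul_inv_cancel_right]

theorem t12_comm_c : t12 * cubeTwist = cubeTwist * t12 :=
  (isTab_t12.mul isTab_cubeTwist).eq_of (isTab_cubeTwist.mul isTab_t12) (by decide +kernel)

theorem t12_sq : t12 * t12 = 1 :=
  (isTab_t12.mul isTab_t12).eq_of IsTab.one (by decide +kernel)

theorem t12_ne_one : t12 ≠ 1 := by
  intro h
  have h1 := isTab_t12 (pt 0)
  rw [h] at h1
  revert h1
  decide +kernel

theorem projInv_anti : ∀ i : Fin 24, d0.testBit (tbl 1 i) = !d0.testBit i := by decide +kernel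

theorem projInv_anti_pres (p : GolayPt) :
    d0.testBit (idx (projInv p)) = !d0.testBit (idx p) := by
  rw [isTab_projInv p]
  exact projInv_anti ⟨idx p, idx_lt p⟩

theorem projInv_inv_anti_pres (p : GolayPt) :
    d0.testBit (idx (projInv⁻¹ p)) = !d0.testBit (idx p) := by
  have := projInv_anti_pres (projInv⁻¹ p)
  rw [Equiv.Perm.coe_inv, Equiv.apply_symm_apply] at this
  rw [Equiv.Perm.coe_inv, this, Bool.not_not]

theorem conj_b_M12 : ∀ x ∈ Spor.M12, projInv * x * projInv⁻¹ ∈ Spor.M12 := by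
  intro x hx
  rw [mem_M12_iff] at hx ⊢
  refine ⟨M24.mul_mem (M24.mul_mem projInv_mem_M24 hx.1) (M24.inv_mem projInv_mem_M24), ?_⟩
  intro p
  show d0.testBit (idx (projInv (x (projInv⁻¹ p)))) = _
  rw [projInv_anti_pres, hx.2, projInv_inv_anti_pres, Bool.not_not]

theorem conj_b_M12' : ∀ x ∈ Spor.M12, projInv⁻¹ * x * projInv ∈ Spor.M12 := by
  intro x hx
  rw [mem_M12_iff] at hx ⊢
  refine ⟨M24.mul_mem (M24.mul_mem (M24.inv_mem projInv_mem_M24) hx.1) projInv_mem_M24, ?_⟩
  intro p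
  show d0.testBit (idx (projInv⁻¹ (x (projInv p)))) = _
  rw [projInv_inv_anti_pres, hx.2, projInv_anti_pres, Bool.not_not]

/-- the outer automorphism of `M12`: conjugation by `projInv`. -/
noncomputable def β12 : Spor.M12 ≃* Spor.M12 := conjAut Spor.M12 projInv conj_b_M12 conj_b_M12'

theorem β12_apply (x : Spor.M12) :
    ((β12 x : Spor.M12) : Equiv.Perm GolayPt) = projInv * x * projInv⁻¹ := rfl

theorem β12_not_inner : ¬ ∃ g : Spor.M12, ∀ x, β12 x = g * x * g⁻¹ := by
  rintro ⟨g, hg⟩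
  have h1 := congrArg Subtype.val (hg ⟨gM, gM_mem_M12⟩)
  have h2 : projInv * gM * projInv⁻¹ = g * gM * (g : Equiv.Perm GolayPt)⁻¹ := h1
  have h3 : ((g : Equiv.Perm GolayPt)⁻¹ * projInv) * gM = gM * ((g : Equiv.Perm GolayPt)⁻¹ * projInv) := by
    calc ((g : Equiv.Perm GolayPt)⁻¹ * projInv) * gM
        = (g : Equiv.Perm GolayPt)⁻¹ * (projInv * gM * projInv⁻¹) * projInv := by group
      _ = gM * ((g : Equiv.Perm GolayPt)⁻¹ * projInv) := by rw [h2]; group
  have hgM24 : (g : Equiv.Perm GolayPt) ∈ M24 := M12_le_M24 g.2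
  obtain ⟨n, hn⟩ := cent_gM (M24.mul_mem (M24.inv_mem hgM24) projInv_mem_M24) h3
  have hn : gM ^ n = (g : Equiv.Perm GolayPt)⁻¹ * projInv := hn
  have h4 : projInv = g * gM ^ n := by rw [hn]; group
  have h5 : (g : Equiv.Perm GolayPt) * gM ^ n ∈ Spor.M12 :=
    Spor.M12.mul_mem g.2 (Spor.M12.zpow_mem gM_mem_M12 n)
  rw [← h4, mem_M12_iff] at h5
  have := h5.2 (pt 0)
  rw [projInv_anti_pres] at this
  revert this
  decide +kernel

theorem sq_check_c : ∀ i : Fin 5,
    ((List.range 24).all fun n => ((tbl 2)^[i]) (((tbl 2)^[i]) n) == n) = true → i.val = 0 := by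
  decide +kernel

theorem sq_check_ct : ∀ i : Fin 5,
    ((List.range 24).all fun n =>
      ((tbl 2)^[i] ∘ tblT12) (((tbl 2)^[i] ∘ tblT12) n) == n) = true → i.val = 0 := by
  decide +kernel

theorem all_tab_of_sq {x : Equiv.Perm GolayPt} {T : ℕ → ℕ} (hT : IsTab x T) (hsq : x * x = 1) :
    ((List.range 24).all fun n => T (T n) == n) = true := by
  rw [List.all_eq_true]
  intro n hn
  rw [beq_iff_eq]
  have h1 := hT.mul hT
  rw [hsq] at h1
  exact (h1.tab_eq IsTab.one (List.mem_range.mp hn))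

theorem all_aut_M12 (φ : Spor.M12 ≃* Spor.M12) :
    (∃ g : Spor.M12, ∀ x, φ x = g * x * g⁻¹) ∨ (∃ g : Spor.M12, ∀ x, φ x = g * β12 x * g⁻¹) := by
  have hM := gM_mem_M12
  have hC := cubeTwist_mem_M12
  have hT := t12_mem_M12
  obtain ⟨ψ, ⟨g, hg⟩, ha, hc, -⟩ := normalize_aut11 Spor.M12 M12_le_M24 hM hC 8640
    (by rw [card_M12]) (by norm_num) φ
  -- the image of `t12`
  have ht : (ψ ⟨t12, hT⟩ : Equiv.Perm GolayPt) = t12 := by
    set x : Equiv.Perm GolayPt := ((ψ ⟨t12, hT⟩ : Spor.M12) : Equiv.Perm GolayPt) with hx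
    have hxM := (mem_M12_iff x).mp (ψ ⟨t12, hT⟩).2
    have hcomm : x * cubeTwist = cubeTwist * x := by
      have h1 : (⟨t12, hT⟩ : Spor.M12) * ⟨cubeTwist, hC⟩ = ⟨cubeTwist, hC⟩ * ⟨t12, hT⟩ :=
        Subtype.ext t12_comm_c
      have h2 := congrArg (fun y => ((ψ y : Spor.M12) : Equiv.Perm GolayPt)) h1
      simp only [map_mul, Subgroup.coe_mul] at h2
      rw [hc] at h2
      exact h2
    have hsq : x * x = 1 := by
      have h1 : (⟨t12, hT⟩ : Spor.M12) * ⟨t12, hT⟩ = 1 := Subtype.ext t12_sq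
      have h2 := congrArg (fun y => ((ψ y : Spor.M12) : Equiv.Perm GolayPt)) h1
      simp only [map_mul, Subgroup.coe_mul, map_one] at h2
      exact h2
    have hne : x ≠ 1 := by
      intro h1
      have h2 : ψ ⟨t12, hT⟩ = 1 := Subtype.ext h1
      rw [← map_one ψ] at h2
      have h3 := congrArg Subtype.val (ψ.injective h2)
      exact t12_ne_one h3
    obtain ⟨z, hz, hxz⟩ := cent_c_M12 hxM.1 hxM.2 hcomm
    obtain ⟨i, hi, rfl⟩ := exists_pow_lt_of_mem_zpowers (by decide : 0 < 5) cubeTwist_pow_5 hz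
    rcases hxz with hxz | hxz
    · exfalso
      have h1 := all_tab_of_sq (isTab_cubeTwist.pow i) (by rw [← hxz]; exact hsq)
      have h2 := sq_check_c ⟨i, hi⟩ h1
      simp only at h2
      subst h2
      rw [pow_zero] at hxz
      exact hne hxz
    · have h1 := all_tab_of_sq ((isTab_cubeTwist.pow i).mul isTab_t12) (by rw [← hxz]; exact hsq)
      have h2 := sq_check_ct ⟨i, hi⟩ h1
      simp only at h2
      subst h2
      rw [pow_zero, one_mul] at hxz
      exact hxz
  rcases ha with ha | ha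
  · left
    have hid : ∀ x : Spor.M12, ψ x = x := by
      apply aut_eq_id_of_gens Spor.M12 _ G12_eq_M12 ψ
      intro s hsK hsS
      rcases hsS with rfl | rfl | rfl
      · exact ha
      · exact hc
      · exact ht
    refine ⟨g⁻¹, fun x => ?_⟩
    have h2 : g * φ x * g⁻¹ = x := by rw [← hg x, hid x]
    calc φ x = g⁻¹ * (g * φ x * g⁻¹) * g := by group
      _ = g⁻¹ * x * g⁻¹⁻¹ := by rw [h2, inv_inv]
  · right
    have hid : ∀ x : Spor.M12, (ψ.trans β12.symm) x = x := by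
      apply aut_eq_id_of_gens Spor.M12 _ G12_eq_M12 (ψ.trans β12.symm)
      intro s hsK hsS
      have key : ∀ (y : Spor.M12) (x : Spor.M12), (β12 x : Equiv.Perm GolayPt) = ψ y →
          ((ψ.trans β12.symm) y) = x := by
        intro y x hxy
        show β12.symm (ψ y) = x
        rw [MulEquiv.symm_apply_eq]
        exact Subtype.ext hxy.symm
      rcases hsS with rfl | rfl | rfl
      · rw [key ⟨gM, hsK⟩ ⟨gM, hsK⟩]
        rw [β12_apply, ha]
        exact rel_b_gM
      · rw [key ⟨cubeTwist, hsK⟩ ⟨cubeTwist, hsK⟩]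
        rw [β12_apply, hc]
        exact rel_b_c
      · rw [key ⟨t12, hsK⟩ ⟨t12, hsK⟩]
        rw [β12_apply, ht]
        exact rel_b_t12
    refine ⟨g⁻¹, fun x => ?_⟩
    have h1 : ψ x = β12 x := by
      have := hid x
      have h2 : (ψ.trans β12.symm) x = β12.symm (ψ x) := rfl
      rw [h2, MulEquiv.symm_apply_eq] at this
      exact this
    have h2 : g * φ x * g⁻¹ = β12 x := by rw [← hg x, h1]
    calc φ x = g⁻¹ * (g * φ x * g⁻¹) * g := by group
      _ = g⁻¹ * β12 x * g⁻¹⁻¹ := by rw [h2, inv_inv]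

end Cfsg.Agent.Lib.Helper10
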