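import Cfsg.Agent.Lib.Helper10.M23Gen

set_option autoImplicit false

namespace Cfsg.Agent.Lib.Helper10

open Cfsg MulAction
open scoped Pointwise

/-- candidate images of the generators of `M23`. -/
noncomputable def vC23 (ε : Bool) (j : ℕ) : ℕ → Equiv.Perm GolayPt
  | 0 => if ε then gA else gA⁻¹
  | 2 => cubeTwist * gM ^ j
  | _ => 1

/-- their tables. -/
def TC23 (ε : Bool) (j : ℕ) : ℕ → ℕ → ℕ
  | 0 => if ε then tbl 0 else tbl 3
  | 2 => tbl 2 ∘ tblM^[j]
  | _ => id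

theorem isTab_vC23 (ε : Bool) (j k : ℕ) : IsTab (vC23 ε j k) (TC23 ε j k) := by
  match k with
  | 0 =>
    cases ε
    · exact isTab_gA_inv
    · exact isTab_gA
  | 1 => exact IsTab.one
  | 2 => exact isTab_cubeTwist.mul (isTab_gM.pow j)
  | (n + 3) => exact IsTab.one

def rels23 : List (List ℕ × List ℕ) :=
  [([0, 2, 0, 2, 0, 2, 0, 2, 0, 2, 0, 2], []),
   ([0, 2, 2, 0, 2, 2, 0, 2, 2, 0, 2, 2, 0, 2, 2], [])]

theorem cand_check23 : ∀ ε : Bool, ∀ j : Fin 11, relsOK (TC23 ε j) rels23 = true →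
    ε = true ∧ j.val = 0 := by decide +kernel

theorem rels23_hold : relsOK (TC23 true 0) rels23 = true := by decide +kernel

theorem gM_mem_M23 : gM ∈ Spor.M23 := ⟨gM_mem, rfl⟩

theorem all_inner_M23 (φ : Spor.M23 ≃* Spor.M23) : ∃ g : Spor.M23, ∀ x, φ x = g * x * g⁻¹ := by
  have hA : gA ∈ Spor.M23 := K23_le_M23 (Subgroup.subset_closure (by simp))
  have hC : cubeTwist ∈ Spor.M23 := K23_le_M23 (Subgroup.subset_closure (by simp))
  obtain ⟨ψ, ⟨g, hg⟩, ha, hcos⟩ := normalize_aut Spor.M23 M23_le_M24 hA gM_mem_M23 443520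
    (by rw [card_M23]) (by norm_num) φ
  obtain ⟨j, hj, hc⟩ := hcos cubeTwist hC rel_cm
  obtain ⟨ε, hε⟩ : ∃ ε : Bool, (ψ ⟨gA, hA⟩ : Equiv.Perm GolayPt) = if ε then gA else gA⁻¹ := by
    rcases ha with ha | ha
    · exact ⟨true, ha⟩
    · exact ⟨false, ha⟩
  let v0 : ℕ → Spor.M23 := fun k => match k with
    | 0 => ⟨gA, hA⟩
    | 2 => ⟨cubeTwist, hC⟩
    | _ => 1
  have hv0 : (fun k => ((v0 k : Spor.M23) : Equiv.Perm GolayPt)) = vC23 true 0 := by
    funext k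
    match k with
    | 0 => rfl
    | 1 => rfl
    | 2 => show cubeTwist = cubeTwist * gM ^ 0; rw [pow_zero, mul_one]
    | (n + 3) => rfl
  have hψv : (fun k => ((ψ (v0 k) : Spor.M23) : Equiv.Perm GolayPt)) = vC23 ε j := by
    funext k
    match k with
    | 0 => exact hε
    | 1 =>
      show ((ψ 1 : Spor.M23) : Equiv.Perm GolayPt) = 1
      rw [map_one]; rfl
    | 2 => exact hc
    | (n + 3) =>
      show ((ψ 1 : Spor.M23) : Equiv.Perm GolayPt) = 1
      rw [map_one]; rfl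
  have hrel : ∀ r ∈ rels23, wprod v0 r.1 = wprod v0 r.2 := by
    intro r hr
    apply Subtype.ext
    have h1 := map_wprod Spor.M23.subtype v0 r.1
    have h2 := map_wprod Spor.M23.subtype v0 r.2
    simp only [Subgroup.coe_subtype] at h1 h2
    rw [h1, h2, hv0]
    exact wprod_eq_of_relsOK _ _ (isTab_vC23 true 0) rels23 rels23_hold r hr
  have hrelψ : ∀ r ∈ rels23, wprod (vC23 ε j) r.1 = wprod (vC23 ε j) r.2 := by
    intro r hr
    have h0 : ((ψ (wprod v0 r.1) : Spor.M23) : Equiv.Perm GolayPt) =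
        ((ψ (wprod v0 r.2) : Spor.M23) : Equiv.Perm GolayPt) := by
      rw [hrel r hr]
    have h1 := map_wprod (Spor.M23.subtype.comp ψ.toMonoidHom) v0 r.1
    have h2 := map_wprod (Spor.M23.subtype.comp ψ.toMonoidHom) v0 r.2
    simp only [MonoidHom.comp_apply, Subgroup.coe_subtype, MulEquiv.coe_toMonoidHom] at h1 h2
    rw [h1, h2, hψv] at h0
    exact h0
  have hck := cand_check23 ε ⟨j, hj⟩
    (relsOK_of_wprod_eq _ _ (isTab_vC23 ε j) rels23 hrelψ)
  obtain ⟨e1, e2⟩ := hck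
  subst e1 e2
  have hid : ∀ x : Spor.M23, ψ x = x := by
    apply aut_eq_id_of_gens Spor.M23 _ K23_eq_M23 ψ
    intro s hs hsS
    rcases hsS with rfl | rfl
    · exact hε
    · rw [hc, pow_zero, mul_one]
  refine ⟨g⁻¹, fun x => ?_⟩
  have h2 : g * φ x * g⁻¹ = x := by rw [← hg x, hid x]
  calc φ x = g⁻¹ * (g * φ x * g⁻¹) * g := by group
    _ = g⁻¹ * x * g⁻¹⁻¹ := by rw [h2, inv_inv]

end Cfsg.Agent.Lib.Helper10
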