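import Cfsg.Agent.Lib.Helper10.Cent
import Cfsg.Agent.Lib.Helper10.AutNorm

set_option autoImplicit false

namespace Cfsg.Agent.Lib.Helper10

open Cfsg MulAction
open scoped Pointwise

theorem gM_pow_11 : gM ^ 11 = 1 :=
  (isTab_gM.pow 11).eq_of IsTab.one (by decide +kernel)

theorem rel_ma : gM * gA * gM⁻¹ = gA ^ 2 := by
  have : gM * gA = gA ^ 2 * gM :=
    (isTab_gM.mul isTab_gA).eq_of ((isTab_gA.pow 2).mul isTab_gM) (by decide +kernel)
  rw [this, mul_inv_cancel_right]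

theorem rel_bm : projInv * gM * projInv⁻¹ ∈ Subgroup.zpowers gM := by
  have h : gM * projInv * gM = projInv :=
    ((isTab_gM.mul isTab_projInv).mul isTab_gM).eq_of isTab_projInv (by decide +kernel)
  have : projInv * gM * projInv⁻¹ = gM⁻¹ := by
    calc projInv * gM * projInv⁻¹ = gM⁻¹ * (gM * projInv * gM) * projInv⁻¹ := by group
      _ = gM⁻¹ := by rw [h]; group
  rw [this]
  exact Subgroup.inv_mem _ (Subgroup.mem_zpowers gM)

theorem rel_cm : cubeTwist * gM * cubeTwist⁻¹ ∈ Subgroup.zpowers gM := by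
  have h : cubeTwist * gM = gM ^ 3 * cubeTwist :=
    (isTab_cubeTwist.mul isTab_gM).eq_of ((isTab_gM.pow 3).mul isTab_cubeTwist) (by decide +kernel)
  rw [h, mul_inv_cancel_right]
  exact Subgroup.pow_mem _ (Subgroup.mem_zpowers gM) _

theorem hgen23 : ∀ t : ZMod 23, t ≠ 0 → ∃ s : ℕ, t * 2 ^ s = 1 ∨ t * 2 ^ s = -1 := by
  have : ∀ t : ZMod 23, t ≠ 0 → ∃ s : Fin 11, t * 2 ^ s.val = 1 ∨ t * 2 ^ s.val = -1 := by
    decide +kernel
  intro t ht
  obtain ⟨s, hs⟩ := this t ht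
  exact ⟨s.val, hs⟩

/-- Normalising an automorphism of a group `K` of code automorphisms containing `gA`, `gM`. -/
theorem normalize_aut (K : Subgroup (Equiv.Perm GolayPt)) (hK : K ≤ M24) (hA : gA ∈ K)
    (hMK : gM ∈ K) (k' : ℕ) (hcard : Nat.card K = 23 * k') (hk' : ¬ 23 ∣ k') (φ : K ≃* K) :
    ∃ ψ : K ≃* K, (∃ g : K, ∀ x, ψ x = g * φ x * g⁻¹) ∧
      ((ψ ⟨gA, hA⟩ : Equiv.Perm GolayPt) = gA ∨ (ψ ⟨gA, hA⟩ : Equiv.Perm GolayPt) = gA⁻¹) ∧
      (∀ s (hs : s ∈ K), s * gM * s⁻¹ ∈ Subgroup.zpowers gM →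
        ∃ i < 11, (ψ ⟨s, hs⟩ : Equiv.Perm GolayPt) = s * gM ^ i) := by
  have : Finite K := Nat.finite_of_card_ne_zero (by
    rw [hcard]; intro h0
    have : k' = 0 := by omega
    subst this; simp at hk')
  have : Fact (Nat.Prime 23) := ⟨by norm_num⟩
  obtain ⟨ψ, hinn, ha, hm⟩ := aut_normalize (⟨gA, hA⟩ : K) (⟨gM, hMK⟩ : K) 23 k' hcard hk'
    (by rw [Subgroup.orderOf_mk]; exact orderOf_gA)
    (by
      apply Subtype.ext
      simp only [Subgroup.coe_mul, Subgroup.coe_inv, Subgroup.coe_pow]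
      exact rel_ma)
    hgen23
    (by
      intro g hg
      have h1 : (g : Equiv.Perm GolayPt) * gA = gA * g := by
        have := congrArg (Subtype.val) hg
        simpa only [Subgroup.coe_mul] using this
      obtain ⟨n, hn⟩ := cent_gA g h1
      refine ⟨n, ?_⟩
      apply Subtype.ext
      simp only [Subgroup.coe_zpow]
      exact hn)
    φ
  refine ⟨ψ, hinn, ?_, ?_⟩
  · rcases ha with ha | ha
    · left; rw [ha]
    · right; rw [ha]; rfl
  · intro s hs hsm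
    have h1 : (⟨s, hs⟩ : K) * ⟨gM, hMK⟩ * (⟨s, hs⟩ : K)⁻¹ ∈ Subgroup.zpowers (⟨gM, hMK⟩ : K) := by
      obtain ⟨n, hn⟩ := hsm
      refine ⟨n, ?_⟩
      apply Subtype.ext
      simp only [Subgroup.coe_zpow, Subgroup.coe_mul, Subgroup.coe_inv]
      exact hn
    have h2 := aut_fix_coset ψ _ _ hm h1
    set z : K := (⟨s, hs⟩ : K)⁻¹ * ψ ⟨s, hs⟩ with hz
    have h3 : (z : Equiv.Perm GolayPt) * gM = gM * z := by
      have := congrArg (Subtype.val) h2
      simpa only [Subgroup.coe_mul] using this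
    have h4 := cent_gM (hK z.2) h3
    obtain ⟨i, hi, e⟩ := exists_pow_lt_of_mem_zpowers (by decide : 0 < 11) gM_pow_11 h4
    refine ⟨i, hi, ?_⟩
    have : ψ ⟨s, hs⟩ = ⟨s, hs⟩ * z := by rw [hz]; group
    rw [this, Subgroup.coe_mul, e]

/-- an automorphism fixing a generating set is the identity. -/
theorem aut_eq_id_of_gens (K : Subgroup (Equiv.Perm GolayPt)) (S : Set (Equiv.Perm GolayPt))
    (hS : Subgroup.closure S = K) (ψ : K ≃* K)
    (h : ∀ s (hs : s ∈ K), s ∈ S → (ψ ⟨s, hs⟩ : Equiv.Perm GolayPt) = s) : ∀ x : K, ψ x = x := by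
  have key : ∀ y (_ : y ∈ Subgroup.closure S), ∀ hyK : y ∈ K,
      (ψ ⟨y, hyK⟩ : Equiv.Perm GolayPt) = y := by
    intro y hy
    induction hy using Subgroup.closure_induction with
    | mem x hx => intro hxK; exact h x hxK hx
    | one =>
      intro h1
      have : (⟨1, h1⟩ : K) = 1 := rfl
      rw [this, map_one]; rfl
    | mul x y hx hy ihx ihy =>
      intro hxy
      have hxK : x ∈ K := hS ▸ hx
      have hyK : y ∈ K := hS ▸ hy
      have : (⟨x * y, hxy⟩ : K) = ⟨x, hxK⟩ * ⟨y, hyK⟩ := rfl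
      rw [this, map_mul, Subgroup.coe_mul, ihx hxK, ihy hyK]
    | inv x hx ihx =>
      intro hxi
      have hxK : x ∈ K := hS ▸ hx
      have : (⟨x⁻¹, hxi⟩ : K) = (⟨x, hxK⟩ : K)⁻¹ := rfl
      rw [this, map_inv, Subgroup.coe_inv, ihx hxK]
  intro x
  apply Subtype.ext
  exact key x.1 (hS ▸ x.2) x.2

/-! ### Relations and candidates -/

/-- do the relations hold for the tables `T`? -/
def relsOK (T : ℕ → ℕ → ℕ) (rels : List (List ℕ × List ℕ)) : Bool :=
  rels.all fun r => (List.range 24).all fun n => wtab T r.1 n == wtab T r.2 n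

theorem wprod_eq_of_relsOK (v : ℕ → Equiv.Perm GolayPt) (T : ℕ → ℕ → ℕ)
    (hT : ∀ k, IsTab (v k) (T k)) (rels : List (List ℕ × List ℕ)) (h : relsOK T rels = true) :
    ∀ r ∈ rels, wprod v r.1 = wprod v r.2 := by
  intro r hr
  unfold relsOK at h
  rw [List.all_eq_true] at h
  have h1 := h r hr
  rw [List.all_eq_true] at h1
  apply (isTab_wprod v T hT r.1).eq_of (isTab_wprod v T hT r.2)
  intro i hi
  have := h1 i (List.mem_range.mpr hi)
  rwa [beq_iff_eq] at this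

theorem relsOK_of_wprod_eq (v : ℕ → Equiv.Perm GolayPt) (T : ℕ → ℕ → ℕ)
    (hT : ∀ k, IsTab (v k) (T k)) (rels : List (List ℕ × List ℕ))
    (h : ∀ r ∈ rels, wprod v r.1 = wprod v r.2) : relsOK T rels = true := by
  unfold relsOK
  rw [List.all_eq_true]
  intro r hr
  rw [List.all_eq_true]
  intro i hi
  rw [beq_iff_eq]
  have h1 := isTab_wprod v T hT r.1
  rw [h r hr] at h1
  exact h1.tab_eq (isTab_wprod v T hT r.2) (List.mem_range.mp hi)

/-- candidate images of the generators. -/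
noncomputable def vC (ε : Bool) (i j : ℕ) : ℕ → Equiv.Perm GolayPt
  | 0 => if ε then gA else gA⁻¹
  | 1 => projInv * gM ^ i
  | 2 => cubeTwist * gM ^ j
  | _ => 1

/-- their tables. -/
def TC (ε : Bool) (i j : ℕ) : ℕ → ℕ → ℕ
  | 0 => if ε then tbl 0 else tbl 3
  | 1 => tbl 1 ∘ tblM^[i]
  | 2 => tbl 2 ∘ tblM^[j]
  | _ => id

theorem isTab_vC (ε : Bool) (i j k : ℕ) : IsTab (vC ε i j k) (TC ε i j k) := by
  match k with
  | 0 =>
    cases ε
    · exact isTab_gA_inv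
    · exact isTab_gA
  | 1 => exact isTab_projInv.mul (isTab_gM.pow i)
  | 2 => exact isTab_cubeTwist.mul (isTab_gM.pow j)
  | (n + 3) => exact IsTab.one

def rels24 : List (List ℕ × List ℕ) :=
  [([2], [1, 2, 1]), ([0, 1, 0, 1, 0, 1], []), ([0, 2, 0, 2, 0, 2, 0, 2, 0, 2, 0, 2], [])]

theorem cand_check24 : ∀ ε : Bool, ∀ i j : Fin 11, relsOK (TC ε i j) rels24 = true →
    ε = true ∧ i.val = 0 ∧ j.val = 0 := by decide +kernel

theorem rels24_hold : relsOK (TC true 0 0) rels24 = true := by decide +kernel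

theorem all_inner_M24 (φ : M24 ≃* M24) : ∃ g : M24, ∀ x, φ x = g * x * g⁻¹ := by
  have hA : gA ∈ M24 := H_le_M24 (gen_mem_H 0)
  have hB : projInv ∈ M24 := H_le_M24 (gen_mem_H 1)
  have hC : cubeTwist ∈ M24 := H_le_M24 (gen_mem_H 2)
  obtain ⟨ψ, ⟨g, hg⟩, ha, hcos⟩ := normalize_aut M24 le_rfl hA gM_mem 10644480
    (by rw [card_M24]) (by norm_num) φ
  obtain ⟨i, hi, hb⟩ := hcos projInv hB rel_bm
  obtain ⟨j, hj, hc⟩ := hcos cubeTwist hC rel_cm
  -- the sign
  obtain ⟨ε, hε⟩ : ∃ ε : Bool, (ψ ⟨gA, hA⟩ : Equiv.Perm GolayPt) = if ε then gA else gA⁻¹ := by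
    rcases ha with ha | ha
    · exact ⟨true, ha⟩
    · exact ⟨false, ha⟩
  let v0 : ℕ → M24 := fun k => match k with
    | 0 => ⟨gA, hA⟩
    | 1 => ⟨projInv, hB⟩
    | 2 => ⟨cubeTwist, hC⟩
    | _ => 1
  have hv0 : (fun k => ((v0 k : M24) : Equiv.Perm GolayPt)) = vC true 0 0 := by
    funext k
    match k with
    | 0 => rfl
    | 1 => show projInv = projInv * gM ^ 0; rw [pow_zero, mul_one]
    | 2 => show cubeTwist = cubeTwist * gM ^ 0; rw [pow_zero, mul_one]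
    | (n + 3) => rfl
  have hψv : (fun k => ((ψ (v0 k) : M24) : Equiv.Perm GolayPt)) = vC ε i j := by
    funext k
    match k with
    | 0 => exact hε
    | 1 => exact hb
    | 2 => exact hc
    | (n + 3) =>
      show ((ψ 1 : M24) : Equiv.Perm GolayPt) = 1
      rw [map_one]; rfl
  have hrel : ∀ r ∈ rels24, wprod v0 r.1 = wprod v0 r.2 := by
    intro r hr
    apply Subtype.ext
    have h1 := map_wprod M24.subtype v0 r.1
    have h2 := map_wprod M24.subtype v0 r.2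
    simp only [Subgroup.coe_subtype] at h1 h2
    rw [h1, h2, hv0]
    exact wprod_eq_of_relsOK _ _ (isTab_vC true 0 0) rels24 rels24_hold r hr
  have hrelψ : ∀ r ∈ rels24, wprod (vC ε i j) r.1 = wprod (vC ε i j) r.2 := by
    intro r hr
    have h0 : ((ψ (wprod v0 r.1) : M24) : Equiv.Perm GolayPt) = ((ψ (wprod v0 r.2) : M24) : Equiv.Perm GolayPt) := by
      rw [hrel r hr]
    have h1 := map_wprod (M24.subtype.comp ψ.toMonoidHom) v0 r.1
    have h2 := map_wprod (M24.subtype.comp ψ.toMonoidHom) v0 r.2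
    simp only [MonoidHom.comp_apply, Subgroup.coe_subtype, MulEquiv.coe_toMonoidHom] at h1 h2
    rw [h1, h2, hψv] at h0
    exact h0
  have hck := cand_check24 ε ⟨i, hi⟩ ⟨j, hj⟩
    (relsOK_of_wprod_eq _ _ (isTab_vC ε i j) rels24 hrelψ)
  obtain ⟨e1, e2, e3⟩ := hck
  subst e1 e2 e3
  have hid : ∀ x : M24, ψ x = x := by
    apply aut_eq_id_of_gens M24 _ H_eq_M24 ψ
    intro s hs hsS
    rcases hsS with rfl | rfl | rfl
    · exact hε
    · rw [hb, pow_zero, mul_one]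
    · rw [hc, pow_zero, mul_one]
  refine ⟨g⁻¹, fun x => ?_⟩
  have h2 : g * φ x * g⁻¹ = x := by rw [← hg x, hid x]
  calc φ x = g⁻¹ * (g * φ x * g⁻¹) * g := by group
    _ = g⁻¹ * x * g⁻¹⁻¹ := by rw [h2, inv_inv]

end Cfsg.Agent.Lib.Helper10
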