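import Cfsg.Agent.Lib.Helper10.Tab

set_option autoImplicit false

namespace Cfsg.Agent.Lib.Helper10

open Cfsg

/-! ### Polycyclic generating sequences of 2-groups of permutations of the 24 points -/

section Abstract

variable {G : Type*} [Group G]

theorem conj_inv_mem_of (H : Subgroup G) (a : G)
    (hn : ∀ x ∈ H, a * x * a⁻¹ ∈ H) (hsq : a * a ∈ H) : ∀ x ∈ H, a⁻¹ * x * a ∈ H := by
  intro x hx
  have h1 : a⁻¹ * x * a = (a * a)⁻¹ * (a * x * a⁻¹) * (a * a) := by group
  rw [h1]
  exact H.mul_mem (H.mul_mem (H.inv_mem hsq) (hn x hx)) hsq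

/-- the union of `H` and the coset `aH`, a subgroup when `a` normalizes `H` and `a² ∈ H`. -/
def extTwo (H : Subgroup G) (a : G) (hn : ∀ x ∈ H, a * x * a⁻¹ ∈ H) (hsq : a * a ∈ H) :
    Subgroup G where
  carrier := {x | x ∈ H ∨ ∃ y ∈ H, x = a * y}
  one_mem' := Or.inl H.one_mem
  mul_mem' := by
    have hn' := conj_inv_mem_of H a hn hsq
    rintro x y (hx | ⟨u, hu, rfl⟩) (hy | ⟨v, hv, rfl⟩)
    · exact Or.inl (H.mul_mem hx hy)
    · right
      refine ⟨a⁻¹ * x * a * v, H.mul_mem (hn' x hx) hv, by group⟩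
    · right
      exact ⟨u * y, H.mul_mem hu hy, by group⟩
    · left
      have h1 : a * u * (a * v) = (a * a) * (a⁻¹ * u * a) * v := by group
      rw [h1]
      exact H.mul_mem (H.mul_mem hsq (hn' u hu)) hv
  inv_mem' := by
    have hn' := conj_inv_mem_of H a hn hsq
    rintro x (hx | ⟨u, hu, rfl⟩)
    · exact Or.inl (H.inv_mem hx)
    · right
      refine ⟨a⁻¹ * u⁻¹ * a * (a * a)⁻¹, H.mul_mem (hn' _ (H.inv_mem hu)) (H.inv_mem hsq), by group⟩

theorem mem_extTwo (H : Subgroup G) (a : G) (hn : ∀ x ∈ H, a * x * a⁻¹ ∈ H) (hsq : a * a ∈ H)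
    (x : G) : x ∈ extTwo H a hn hsq ↔ x ∈ H ∨ ∃ y ∈ H, x = a * y := Iff.rfl

/-- a map normalizing generators normalizes the closure. -/
theorem conj_mem_closure (s : Set G) (a : G) (K : Subgroup G)
    (h : ∀ x ∈ s, a * x * a⁻¹ ∈ K) : ∀ x ∈ Subgroup.closure s, a * x * a⁻¹ ∈ K := by
  intro x hx
  induction hx using Subgroup.closure_induction with
  | mem y hy => exact h y hy
  | one => simp
  | mul y z _ _ hy hz =>
    have : a * (y * z) * a⁻¹ = (a * y * a⁻¹) * (a * z * a⁻¹) := by group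
    rw [this]; exact K.mul_mem hy hz
  | inv y _ hy =>
    have : a * y⁻¹ * a⁻¹ = (a * y * a⁻¹)⁻¹ := by group
    rw [this]; exact K.inv_mem hy

/-- a subgroup mapped into itself by a conjugation, in a finite setting, is mapped onto itself. -/
theorem conj_mem_iff_of_finite (S : Subgroup G) [Finite S] (g : G)
    (h : ∀ x ∈ S, g * x * g⁻¹ ∈ S) : ∀ x, x ∈ S ↔ g * x * g⁻¹ ∈ S := by
  intro x
  refine ⟨h x, fun hx => ?_⟩
  let f : S → S := fun y => ⟨g * y * g⁻¹, h y y.2⟩
  have hinj : Function.Injective f := by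
    intro y y' hyy
    have := congrArg Subtype.val hyy
    simp only [f] at this
    exact Subtype.ext (mul_left_cancel (mul_right_cancel this))
  obtain ⟨y, hy⟩ := (Finite.injective_iff_surjective.mp hinj) ⟨g * x * g⁻¹, hx⟩
  have := congrArg Subtype.val hy
  simp only [f] at this
  have hxy : (y : G) = x := mul_left_cancel (mul_right_cancel this)
  rw [← hxy]; exact y.2

end Abstract

/-! ### Normal forms -/

/-- the normal-form word of the mask `m` on the first `i` generators (top generator first). -/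
def nf : ℕ → ℕ → List ℕ
  | 0, _ => []
  | i + 1, m => if m.testBit i then i :: nf i m else nf i m

theorem nf_lt (i m : ℕ) : ∀ j ∈ nf i m, j < i := by
  induction i with
  | zero => intro j hj; simp [nf] at hj
  | succ i ih =>
    intro j hj
    unfold nf at hj
    split_ifs at hj
    · rcases List.mem_cons.mp hj with rfl | h
      · omega
      · have := ih j h; omega
    · have := ih j hj; omega

theorem nf_succ_of_lt (i m : ℕ) (h : m < 2 ^ i) : nf (i + 1) m = nf i m := by
  show (if m.testBit i then i :: nf i m else nf i m) = nf i m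
  rw [Nat.testBit_lt_two_pow h]
  rfl

theorem nf_add_of_lt (i d m : ℕ) (h : m < 2 ^ i) : nf (i + d) m = nf i m := by
  induction d with
  | zero => rfl
  | succ d ih =>
    rw [← Nat.add_assoc, nf_succ_of_lt _ _ (lt_of_lt_of_le h (Nat.pow_le_pow_right (by norm_num) (by omega))), ih]

theorem nf_low (i m : ℕ) : nf i (m + 2 ^ i) = nf i m := by
  have key : ∀ j, j ≤ i → nf j (m + 2 ^ i) = nf j m := by
    intro j
    induction j with
    | zero => intro _; rfl
    | succ j ih =>
      intro hj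
      show (if (m + 2 ^ i).testBit j then j :: nf j (m + 2 ^ i) else nf j (m + 2 ^ i)) =
        (if m.testBit j then j :: nf j m else nf j m)
      rw [ih (by omega)]
      have : (m + 2 ^ i).testBit j = m.testBit j := by
        rw [Nat.add_comm]
        exact Nat.testBit_two_pow_add_gt (by omega) m
      rw [this]
  exact key i le_rfl

theorem nf_succ_add (i m : ℕ) (h : m < 2 ^ i) : nf (i + 1) (m + 2 ^ i) = i :: nf i m := by
  show (if (m + 2 ^ i).testBit i then i :: nf i (m + 2 ^ i) else nf i (m + 2 ^ i)) = i :: nf i m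
  rw [nf_low]
  have : (m + 2 ^ i).testBit i = true := by
    rw [Nat.add_comm]
    rw [Nat.testBit_two_pow_add_eq]
    rw [Nat.testBit_lt_two_pow h]
    rfl
  rw [this]
  rfl

section PC

variable (sv : ℕ → Equiv.Perm GolayPt) (lit : ℕ → ℕ → ℕ)

/-- the subgroup generated by the first `i` generators. -/
def Hs (i : ℕ) : Subgroup (Equiv.Perm GolayPt) := Subgroup.closure {x | ∃ j < i, x = sv j}

theorem sv_mem_Hs {i j : ℕ} (h : j < i) : sv j ∈ Hs sv i := Subgroup.subset_closure ⟨j, h, rfl⟩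

theorem Hs_mono {i j : ℕ} (h : i ≤ j) : Hs sv i ≤ Hs sv j := by
  apply Subgroup.closure_mono
  rintro x ⟨l, hl, rfl⟩
  exact ⟨l, by omega, rfl⟩

theorem wprod_mem_Hs (i : ℕ) (w : List ℕ) (h : ∀ j ∈ w, j < i) : wprod sv w ∈ Hs sv i := by
  induction w with
  | nil => exact (Hs sv i).one_mem
  | cons a w ih =>
    exact (Hs sv i).mul_mem (sv_mem_Hs sv (h a (List.mem_cons_self))) 
      (ih (fun j hj => h j (List.mem_cons_of_mem _ hj)))

theorem nfprod_mem_Hs (i m : ℕ) : wprod sv (nf i m) ∈ Hs sv i :=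
  wprod_mem_Hs sv i _ (nf_lt i m)

theorem Hs_zero : Hs sv 0 = ⊥ := by
  unfold Hs
  rw [Subgroup.closure_eq_bot_iff]
  rintro x ⟨j, hj, rfl⟩
  omega

/-- the relations of generator `i`: its square and the conjugates of lower generators are given
normal forms on the lower generators. -/
def relOK (i : ℕ) (sq : ℕ) (cj : ℕ → ℕ) : Bool :=
  (List.range 24).all (fun x => lit i (lit i x) == wtab lit (nf i sq) x) &&
  (List.range i).all (fun j => (List.range 24).all
    (fun x => lit i (lit j x) == wtab lit (nf i (cj j)) (lit i x)))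

variable {sv lit}

theorem step_Hs (hlit : ∀ i, IsTab (sv i) (lit i)) (i : ℕ) (sq : ℕ) (cj : ℕ → ℕ)
    (h : relOK lit i sq cj = true) :
    ∀ x ∈ Hs sv (i + 1), x ∈ Hs sv i ∨ ∃ y ∈ Hs sv i, x = sv i * y := by
  unfold relOK at h
  rw [Bool.and_eq_true, List.all_eq_true, List.all_eq_true] at h
  obtain ⟨h1, h2⟩ := h
  have hsq : sv i * sv i ∈ Hs sv i := by
    have : sv i * sv i = wprod sv (nf i sq) := by
      apply IsTab.eq_of ((hlit i).mul (hlit i)) (isTab_wprod sv lit hlit _)
      intro x hx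
      have := h1 x (List.mem_range.mpr hx)
      rw [beq_iff_eq] at this
      exact this
    rw [this]; exact nfprod_mem_Hs sv i sq
  have hn : ∀ x ∈ Hs sv i, sv i * x * (sv i)⁻¹ ∈ Hs sv i := by
    apply conj_mem_closure
    rintro x ⟨j, hj, rfl⟩
    have h3 := h2 j (List.mem_range.mpr hj)
    rw [List.all_eq_true] at h3
    have : sv i * sv j = wprod sv (nf i (cj j)) * sv i := by
      apply IsTab.eq_of ((hlit i).mul (hlit j)) ((isTab_wprod sv lit hlit _).mul (hlit i))
      intro x hx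
      have := h3 x (List.mem_range.mpr hx)
      rw [beq_iff_eq] at this
      exact this
    rw [this, mul_inv_cancel_right]
    exact nfprod_mem_Hs sv i _
  intro x hx
  have hle : Hs sv (i + 1) ≤ extTwo (Hs sv i) (sv i) hn hsq := by
    unfold Hs
    rw [Subgroup.closure_le]
    rintro y ⟨j, hj, rfl⟩
    rcases Nat.lt_succ_iff_lt_or_eq.mp hj with hj | rfl
    · exact Or.inl (sv_mem_Hs sv hj)
    · exact Or.inr ⟨1, (Hs sv j).one_mem, by simp⟩
  exact hle hx

/-- every element of `Hs i` has a normal form, given the relation checks below `i`. -/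
theorem exists_nf (hlit : ∀ i, IsTab (sv i) (lit i)) (sq : ℕ → ℕ) (cj : ℕ → ℕ → ℕ) (k : ℕ)
    (h : ∀ i < k, relOK lit i (sq i) (cj i) = true) :
    ∀ i ≤ k, ∀ x ∈ Hs sv i, ∃ m < 2 ^ i, x = wprod sv (nf i m) := by
  intro i
  induction i with
  | zero =>
    intro _ x hx
    rw [Hs_zero, Subgroup.mem_bot] at hx
    exact ⟨0, by norm_num, by rw [hx]; rfl⟩
  | succ i ih =>
    intro hi x hx
    rcases step_Hs hlit i (sq i) (cj i) (h i (by omega)) x hx with hx | ⟨y, hy, rfl⟩
    · obtain ⟨m, hm, rfl⟩ := ih (by omega) x hx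
      exact ⟨m, by rw [pow_succ]; omega, by rw [nf_succ_of_lt i m hm]⟩
    · obtain ⟨m, hm, rfl⟩ := ih (by omega) y hy
      refine ⟨m + 2 ^ i, by rw [pow_succ]; omega, ?_⟩
      rw [nf_succ_add i m hm]
      rfl

/-! ### The order -/

/-- generator `i` is not a normal-form product of the lower generators. -/
def indepOK (lit : ℕ → ℕ → ℕ) (i : ℕ) : Bool :=
  (List.range (2 ^ i)).all fun m => (List.range 24).any fun x => wtab lit (nf i m) x != lit i x

theorem sv_not_mem (hlit : ∀ i, IsTab (sv i) (lit i)) (i : ℕ)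
    (hnf : ∀ x ∈ Hs sv i, ∃ m < 2 ^ i, x = wprod sv (nf i m)) (h : indepOK lit i = true) :
    sv i ∉ Hs sv i := by
  intro hmem
  obtain ⟨m, hm, e⟩ := hnf _ hmem
  unfold indepOK at h
  rw [List.all_eq_true] at h
  have h1 := h m (List.mem_range.mpr hm)
  rw [List.any_eq_true] at h1
  obtain ⟨x, hx, hne⟩ := h1
  have hx' := List.mem_range.mp hx
  have h2 : IsTab (sv i) (wtab lit (nf i m)) := by
    rw [e]; exact isTab_wprod sv lit hlit _
  have := (hlit i).tab_eq h2 hx'
  rw [bne_iff_ne] at hne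
  exact hne this.symm

theorem card_Hs_ge (hlit : ∀ i, IsTab (sv i) (lit i)) (k : ℕ)
    (hnf : ∀ i ≤ k, ∀ x ∈ Hs sv i, ∃ m < 2 ^ i, x = wprod sv (nf i m))
    (h : ∀ i < k, indepOK lit i = true) : ∀ i ≤ k, 2 ^ i ≤ Nat.card (Hs sv i) := by
  intro i
  induction i with
  | zero =>
    intro _
    have : 0 < Nat.card (Hs sv 0) := Nat.card_pos
    rw [pow_zero]; omega
  | succ i ih =>
    intro hi
    have h1 := ih (by omega)
    have hle : Hs sv i ≤ Hs sv (i + 1) := Hs_mono sv (by omega)
    have hdvd : Nat.card (Hs sv i) ∣ Nat.card (Hs sv (i + 1)) := Subgroup.card_dvd_of_le hle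
    obtain ⟨c, hc⟩ := hdvd
    have hpos : 0 < Nat.card (Hs sv (i + 1)) := Nat.card_pos
    have hc0 : c ≠ 0 := by
      intro h0; rw [h0, Nat.mul_zero] at hc; omega
    by_cases hc1 : c = 1
    · exfalso
      rw [hc1, Nat.mul_one] at hc
      have heq : Hs sv i = Hs sv (i + 1) := Subgroup.eq_of_le_of_card_ge hle (by omega)
      apply sv_not_mem hlit i (hnf i (by omega)) (h i (by omega))
      rw [heq]
      exact sv_mem_Hs sv (by omega)
    · have hc2 : 2 ≤ c := by omega
      rw [hc, pow_succ]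
      calc 2 ^ i * 2 ≤ Nat.card (Hs sv i) * 2 := Nat.mul_le_mul_right 2 h1
        _ ≤ Nat.card (Hs sv i) * c := Nat.mul_le_mul_left _ hc2

theorem card_Hs_le (k : ℕ)
    (hnf : ∀ x ∈ Hs sv k, ∃ m < 2 ^ k, x = wprod sv (nf k m)) : Nat.card (Hs sv k) ≤ 2 ^ k := by
  let f : Fin (2 ^ k) → Hs sv k := fun m => ⟨wprod sv (nf k m), nfprod_mem_Hs sv k m⟩
  have hf : Function.Surjective f := by
    rintro ⟨x, hx⟩
    obtain ⟨m, hm, e⟩ := hnf x hx
    exact ⟨⟨m, hm⟩, Subtype.ext e.symm⟩
  have := Nat.card_le_card_of_surjective f hf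
  simpa using this

theorem card_Hs (hlit : ∀ i, IsTab (sv i) (lit i)) (k : ℕ)
    (hnf : ∀ i ≤ k, ∀ x ∈ Hs sv i, ∃ m < 2 ^ i, x = wprod sv (nf i m))
    (h : ∀ i < k, indepOK lit i = true) : Nat.card (Hs sv k) = 2 ^ k :=
  le_antisymm (card_Hs_le k (hnf k le_rfl)) (card_Hs_ge hlit k hnf h k le_rfl)

/-! ### The centre -/

/-- only the masks `0` and `mz` commute with all generators. -/
def pcCentOK (lit : ℕ → ℕ → ℕ) (k mz : ℕ) : Bool :=
  (List.range (2 ^ k)).all fun m => m == 0 || m == mz ||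
    (List.range k).any fun j => (List.range 24).any fun x =>
      wtab lit (nf k m) (lit j x) != lit j (wtab lit (nf k m) x)

theorem center_Hs (hlit : ∀ i, IsTab (sv i) (lit i)) (k mz : ℕ)
    (hnf : ∀ x ∈ Hs sv k, ∃ m < 2 ^ k, x = wprod sv (nf k m)) (h : pcCentOK lit k mz = true) :
    ∀ x ∈ Hs sv k, (∀ j < k, x * sv j = sv j * x) → x = 1 ∨ x = wprod sv (nf k mz) := by
  intro x hx hcomm
  obtain ⟨m, hm, rfl⟩ := hnf x hx
  unfold pcCentOK at h
  rw [List.all_eq_true] at h
  have h1 := h m (List.mem_range.mpr hm)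
  rw [Bool.or_eq_true, Bool.or_eq_true] at h1
  rcases h1 with (h1 | h1) | h1
  · left
    rw [beq_iff_eq] at h1
    rw [h1]
    have : nf k 0 = [] := by
      clear * -
      induction k with
      | zero => rfl
      | succ k ih =>
        show (if (0 : ℕ).testBit k then k :: nf k 0 else nf k 0) = []
        rw [Nat.zero_testBit]; exact ih
    rw [this]; rfl
  · right
    rw [beq_iff_eq] at h1
    rw [h1]
  · exfalso
    rw [List.any_eq_true] at h1
    obtain ⟨j, hj, h2⟩ := h1
    rw [List.any_eq_true] at h2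
    obtain ⟨x, hx, hne⟩ := h2
    rw [bne_iff_ne] at hne
    apply hne
    have hj' := List.mem_range.mp hj
    have hx' := List.mem_range.mp hx
    have hw := isTab_wprod sv lit hlit (nf k m)
    have t1 : IsTab (wprod sv (nf k m) * sv j) (wtab lit (nf k m) ∘ lit j) := hw.mul (hlit j)
    have t2 : IsTab (wprod sv (nf k m) * sv j) (lit j ∘ wtab lit (nf k m)) := by
      rw [hcomm j hj']; exact (hlit j).mul hw
    exact t1.tab_eq t2 hx'

/-! ### Point stabilizers -/

/-- the first `i` generators fix the points `bs`, and no other normal form does. -/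
def stabOK (lit : ℕ → ℕ → ℕ) (k i : ℕ) (bs : List ℕ) : Bool :=
  ((List.range i).all fun j => bs.all fun b => lit j b == b) &&
  (List.range (2 ^ k)).all fun m => decide (m < 2 ^ i) || bs.any fun b => wtab lit (nf k m) b != b

theorem stab_eq (hlit : ∀ i, IsTab (sv i) (lit i)) (k i : ℕ) (bs : List ℕ) (hik : i ≤ k)
    (hbs : ∀ b ∈ bs, b < 24)
    (hnf : ∀ x ∈ Hs sv k, ∃ m < 2 ^ k, x = wprod sv (nf k m)) (h : stabOK lit k i bs = true) :
    ∀ x, x ∈ Hs sv i ↔ (x ∈ Hs sv k ∧ ∀ b ∈ bs, x (pt b) = pt b) := by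
  unfold stabOK at h
  rw [Bool.and_eq_true, List.all_eq_true, List.all_eq_true] at h
  obtain ⟨h1, h2⟩ := h
  intro x
  constructor
  · intro hx
    refine ⟨Hs_mono sv hik hx, ?_⟩
    unfold Hs at hx
    induction hx using Subgroup.closure_induction with
    | mem y hy =>
      obtain ⟨j, hj, rfl⟩ := hy
      intro b hb
      have h3 := h1 j (List.mem_range.mpr hj)
      rw [List.all_eq_true] at h3
      have h4 := h3 b hb
      rw [beq_iff_eq] at h4
      rw [(hlit j).apply_pt (hbs b hb), h4]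
    | one => intro b _; rfl
    | mul y z _ _ hy hz =>
      intro b hb
      show y (z (pt b)) = pt b
      rw [hz b hb, hy b hb]
    | inv y _ hy =>
      intro b hb
      rw [Equiv.Perm.inv_eq_iff_eq, hy b hb]
  · rintro ⟨hx, hfix⟩
    obtain ⟨m, hm, rfl⟩ := hnf x hx
    have h3 := h2 m (List.mem_range.mpr hm)
    rw [Bool.or_eq_true] at h3
    rcases h3 with h3 | h3
    · have hmi : m < 2 ^ i := of_decide_eq_true h3
      obtain ⟨d, rfl⟩ := Nat.exists_eq_add_of_le hik
      rw [nf_add_of_lt i d m hmi]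
      exact nfprod_mem_Hs sv i m
    · exfalso
      rw [List.any_eq_true] at h3
      obtain ⟨b, hb, hne⟩ := h3
      rw [bne_iff_ne] at hne
      apply hne
      have hw := isTab_wprod sv lit hlit (nf k m)
      have := hw (pt b)
      rw [hfix b hb, idx_pt (hbs b hb)] at this
      exact this.symm

/-- `h` normalizes `K`. -/
def Normalizes (h : Equiv.Perm GolayPt) (K : Subgroup (Equiv.Perm GolayPt)) : Prop :=
  ∀ s, s ∈ K ↔ h * s * h⁻¹ ∈ K

theorem Normalizes.inv {h : Equiv.Perm GolayPt} {K : Subgroup (Equiv.Perm GolayPt)}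
    (hn : Normalizes h K) : Normalizes h⁻¹ K := by
  intro s
  have := hn (h⁻¹ * s * h⁻¹⁻¹)
  have e : h * (h⁻¹ * s * h⁻¹⁻¹) * h⁻¹ = s := by group
  rw [e] at this
  exact this.symm

theorem normalizes_of_stab {K L : Subgroup (Equiv.Perm GolayPt)} {bs : List ℕ}
    (hst : ∀ x, x ∈ L ↔ (x ∈ K ∧ ∀ b ∈ bs, x (pt b) = pt b))
    {h : Equiv.Perm GolayPt} (hn : Normalizes h K) (hfix : ∀ b ∈ bs, h (pt b) = pt b) :
    Normalizes h L := by
  intro s
  rw [hst, hst, ← hn s]
  have hfix' : ∀ b ∈ bs, h⁻¹ (pt b) = pt b := by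
    intro b hb
    rw [Equiv.Perm.inv_eq_iff_eq, hfix b hb]
  constructor
  · rintro ⟨h1, h2⟩
    refine ⟨h1, fun b hb => ?_⟩
    show h (s (h⁻¹ (pt b))) = pt b
    rw [hfix' b hb, h2 b hb, hfix b hb]
  · rintro ⟨h1, h2⟩
    refine ⟨h1, fun b hb => ?_⟩
    have := h2 b hb
    change h (s (h⁻¹ (pt b))) = pt b at this
    rw [hfix' b hb] at this
    have h3 : h (s (pt b)) = h (pt b) := by rw [this, hfix b hb]
    exact h.injective h3

/-! ### Orbit representatives -/

/-- `R` assigns to each point index a representative of its `K`-orbit. -/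
def IsOrbRep (K : Subgroup (Equiv.Perm GolayPt)) (R : ℕ → ℕ) : Prop :=
  ∀ x < 24, ∀ y < 24, (∃ s ∈ K, s (pt x) = pt y) ↔ R y = R x

/-- `R` is constant on orbits of the first `i` generators, with witnesses `W` reaching each point
from its representative. -/
def repOK (lit : ℕ → ℕ → ℕ) (i : ℕ) (R W : ℕ → ℕ) : Bool :=
  ((List.range i).all fun j => (List.range 24).all fun x => R (lit j x) == R x) &&
  (List.range 24).all fun x => decide (R x < 24) && wtab lit (nf i (W x)) (R x) == x

theorem isOrbRep_Hs (hlit : ∀ i, IsTab (sv i) (lit i)) (i : ℕ) (R W : ℕ → ℕ)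
    (h : repOK lit i R W = true) : IsOrbRep (Hs sv i) R := by
  unfold repOK at h
  rw [Bool.and_eq_true, List.all_eq_true, List.all_eq_true] at h
  obtain ⟨h1, h2⟩ := h
  have hinv : ∀ s ∈ Hs sv i, ∀ x < 24, R (idx (s (pt x))) = R x := by
    intro s hs
    unfold Hs at hs
    induction hs using Subgroup.closure_induction with
    | mem y hy =>
      obtain ⟨j, hj, rfl⟩ := hy
      intro x hx
      have h3 := h1 j (List.mem_range.mpr hj)
      rw [List.all_eq_true] at h3
      have h4 := h3 x (List.mem_range.mpr hx)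
      rw [beq_iff_eq] at h4
      rw [hlit j (pt x), idx_pt hx, h4]
    | one => intro x hx; show R (idx (pt x)) = R x; rw [idx_pt hx]
    | mul y z _ _ hy hz =>
      intro x hx
      show R (idx (y (z (pt x)))) = R x
      have := hy (idx (z (pt x))) (idx_lt _)
      rw [pt_idx] at this
      rw [this, hz x hx]
    | inv y _ hy =>
      intro x hx
      have := hy (idx (y⁻¹ (pt x))) (idx_lt _)
      rw [pt_idx] at this
      have e : y (y⁻¹ (pt x)) = pt x := by simp
      rw [e, idx_pt hx] at this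
      exact this.symm
  have hwit : ∀ x < 24, wprod sv (nf i (W x)) (pt (R x)) = pt x := by
    intro x hx
    have h3 := h2 x (List.mem_range.mpr hx)
    rw [Bool.and_eq_true, beq_iff_eq] at h3
    rw [(isTab_wprod sv lit hlit _).apply_pt (of_decide_eq_true h3.1), h3.2]
  intro x hx y hy
  constructor
  · rintro ⟨s, hs, e⟩
    have := hinv s hs x hx
    rw [e, idx_pt hy] at this
    exact this
  · intro e
    refine ⟨wprod sv (nf i (W y)) * (wprod sv (nf i (W x)))⁻¹,
      (Hs sv i).mul_mem (nfprod_mem_Hs sv i _) ((Hs sv i).inv_mem (nfprod_mem_Hs sv i _)), ?_⟩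
    show wprod sv (nf i (W y)) ((wprod sv (nf i (W x)))⁻¹ (pt x)) = pt y
    have : (wprod sv (nf i (W x)))⁻¹ (pt x) = pt (R x) := by
      rw [Equiv.Perm.inv_eq_iff_eq, hwit x hx]
    rw [this, ← e, hwit y hy]

end PC

end Cfsg.Agent.Lib.Helper10
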