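import Cfsg.Agent.Lib.Helper10.PC
import Cfsg.Agent.Lib.Helper10.CentC

set_option autoImplicit false

namespace Cfsg.Agent.Lib.Helper10

open Cfsg

/-! ### Invariants of a normalizing element -/

/-- the number of point indices with the same representative as `x`. -/
def orbSize (R : ℕ → ℕ) (x : ℕ) : ℕ := ((Finset.range 24).filter fun y => R y = R x).card

/-- the index `y` is compatible with being the image of the index `a` under a permutation
normalizing the groups whose orbit representatives are `Rs` and fixing the points `F`. -/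
def compat (Rs : List (ℕ → ℕ)) (F : List ℕ) (a y : ℕ) : Bool :=
  (Rs.all fun R => orbSize R y == orbSize R a &&
    F.all fun f => decide (R y = R f ↔ R a = R f)) &&
  F.all fun f => f == a || y != f

theorem orbit_size_eq {K : Subgroup (Equiv.Perm GolayPt)} {R : ℕ → ℕ} (hR : IsOrbRep K R)
    {h : Equiv.Perm GolayPt} (hn : Normalizes h K) (a : ℕ) (ha : a < 24) :
    orbSize R (idx (h (pt a))) = orbSize R a := by
  unfold orbSize
  have hy : idx (h (pt a)) < 24 := idx_lt _
  have hpy : pt (idx (h (pt a))) = h (pt a) := pt_idx _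
  apply Finset.card_nbij' (fun x => idx (h⁻¹ (pt x))) (fun x => idx (h (pt x)))
  · intro x hx
    simp only [Finset.coe_filter, Finset.mem_range, Set.mem_setOf_eq] at hx ⊢
    refine ⟨idx_lt _, ?_⟩
    obtain ⟨s, hs, e⟩ := (hR _ hy x hx.1).mpr hx.2
    apply (hR a ha _ (idx_lt _)).mp
    refine ⟨h⁻¹ * s * h⁻¹⁻¹, (hn.inv s).mp hs, ?_⟩
    show h⁻¹ (s (h⁻¹⁻¹ (pt a))) = pt (idx (h⁻¹ (pt x)))
    rw [inv_inv, ← hpy, e, pt_idx]
  · intro x hx
    simp only [Finset.coe_filter, Finset.mem_range, Set.mem_setOf_eq] at hx ⊢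
    refine ⟨idx_lt _, ?_⟩
    obtain ⟨s, hs, e⟩ := (hR a ha x hx.1).mpr hx.2
    apply (hR _ hy _ (idx_lt _)).mp
    refine ⟨h * s * h⁻¹, (hn s).mp hs, ?_⟩
    show h (s (h⁻¹ (pt (idx (h (pt a)))))) = pt (idx (h (pt x)))
    rw [hpy, pt_idx]
    have : h⁻¹ (h (pt a)) = pt a := by simp
    rw [this, e]
  · intro x hx
    simp only [Finset.coe_filter, Finset.mem_range, Set.mem_setOf_eq] at hx
    show idx (h (pt (idx (h⁻¹ (pt x))))) = x
    rw [pt_idx]
    have : h (h⁻¹ (pt x)) = pt x := by simp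
    rw [this, idx_pt hx.1]
  · intro x hx
    simp only [Finset.coe_filter, Finset.mem_range, Set.mem_setOf_eq] at hx
    show idx (h⁻¹ (pt (idx (h (pt x))))) = x
    rw [pt_idx]
    have : h⁻¹ (h (pt x)) = pt x := by simp
    rw [this, idx_pt hx.1]

theorem orbit_fix_iff {K : Subgroup (Equiv.Perm GolayPt)} {R : ℕ → ℕ} (hR : IsOrbRep K R)
    {h : Equiv.Perm GolayPt} (hn : Normalizes h K) (f : ℕ) (hf : f < 24)
    (hfix : h (pt f) = pt f) (a : ℕ) (ha : a < 24) :
    R (idx (h (pt a))) = R f ↔ R a = R f := by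
  have hy : idx (h (pt a)) < 24 := idx_lt _
  have hfix' : h⁻¹ (pt f) = pt f := by rw [Equiv.Perm.inv_eq_iff_eq, hfix]
  constructor
  · intro e
    obtain ⟨s, hs, es⟩ := (hR f hf _ hy).mpr e
    apply (hR f hf a ha).mp
    refine ⟨h⁻¹ * s * h⁻¹⁻¹, (hn.inv s).mp hs, ?_⟩
    show h⁻¹ (s (h⁻¹⁻¹ (pt f))) = pt a
    rw [inv_inv, hfix, es, pt_idx]
    simp
  · intro e
    obtain ⟨s, hs, es⟩ := (hR f hf a ha).mpr e
    apply (hR f hf _ hy).mp
    refine ⟨h * s * h⁻¹, (hn s).mp hs, ?_⟩
    show h (s (h⁻¹ (pt f))) = pt (idx (h (pt a)))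
    rw [hfix', es, pt_idx]

theorem compat_sound (h : Equiv.Perm GolayPt) (Rs : List (ℕ → ℕ)) (F : List ℕ)
    (hRs : ∀ R ∈ Rs, ∃ K : Subgroup (Equiv.Perm GolayPt), IsOrbRep K R ∧ Normalizes h K)
    (hF : ∀ f ∈ F, f < 24 ∧ h (pt f) = pt f) (a : ℕ) (ha : a < 24) :
    compat Rs F a (idx (h (pt a))) = true := by
  unfold compat
  rw [Bool.and_eq_true, List.all_eq_true, List.all_eq_true]
  constructor
  · intro R hR
    obtain ⟨K, hK, hn⟩ := hRs R hR
    rw [Bool.and_eq_true, beq_iff_eq, List.all_eq_true]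
    refine ⟨orbit_size_eq hK hn a ha, fun f hf => ?_⟩
    apply decide_eq_true
    exact orbit_fix_iff hK hn f (hF f hf).1 (hF f hf).2 a ha
  · intro f hf
    rw [Bool.or_eq_true, beq_iff_eq, bne_iff_ne]
    by_cases e : idx (h (pt a)) = f
    · left
      have h1 : h (pt a) = pt f := eq_pt_of_idx e
      rw [← (hF f hf).2] at h1
      exact (pt_injective ha (hF f hf).1 (h.injective h1)).symm
    · exact Or.inr e

theorem Normalizes.of_mem {K : Subgroup (Equiv.Perm GolayPt)} {s : Equiv.Perm GolayPt}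
    (hs : s ∈ K) : Normalizes s K := by
  intro x
  constructor
  · intro hx
    exact K.mul_mem (K.mul_mem hs hx) (K.inv_mem hs)
  · intro hx
    have : x = s⁻¹ * (s * x * s⁻¹) * s := by group
    rw [this]
    exact K.mul_mem (K.mul_mem (K.inv_mem hs) hx) hs

theorem Normalizes.inv_mul {K : Subgroup (Equiv.Perm GolayPt)} {s h : Equiv.Perm GolayPt}
    (hs : s ∈ K) (hn : Normalizes h K) : Normalizes (s⁻¹ * h) K := by
  intro x
  rw [hn x]
  have e : s⁻¹ * h * x * (s⁻¹ * h)⁻¹ = s⁻¹ * (h * x * h⁻¹) * s⁻¹⁻¹ := by group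
  rw [e]
  exact (Normalizes.of_mem (K.inv_mem hs)) _

/-- an element of `M24` fixing the listed points is trivial, checked on the 48 candidates agreeing
with the word `W` on the first five base points. -/
def fixCond (W : List ℕ) (F : List ℕ) (w : List ℕ) : Bool :=
  F.all fun f => (List.range 24).all fun q => evalW W q != f || evalW w q == f

def fixGood (W : List ℕ) (w : List ℕ) : Bool :=
  (List.range 24).all fun q => evalW w q == evalW W q

theorem eq_one_of_fixes_list (W : List ℕ) (F : List ℕ)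
    (h5 : ∀ i < 5, evalW W (base.getD i 0) ∈ F)
    (hOK : caseOK (fixCond W F) (fixGood W) W = true)
    {σ : Equiv.Perm GolayPt} (hσ : σ ∈ M24) (hfix : ∀ f ∈ F, σ (pt f) = pt f) : σ = 1 := by
  have hσ' : σ * wordPerm W ∈ M24 := M24.mul_mem hσ (wordPerm_mem_M24 W)
  have hW : ∀ q, q < 24 → wordPerm W (pt q) = pt (evalW W q) := fun q hq =>
    (isTab_wordPerm W).apply_pt hq
  obtain ⟨w, e, hg⟩ := case_sound (fixCond W F) (fixGood W) W hOK (σ * wordPerm W) hσ' (by
    intro i hi
    show σ (wordPerm W (bpt i)) = wordPerm W (bpt i)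
    have hb : base.getD i 0 < 24 := by
      have : ∀ i : Fin 5, base.getD i 0 < 24 := by decide
      exact this ⟨i, hi⟩
    unfold bpt
    rw [hW _ hb]
    exact hfix _ (h5 i hi)) (by
    intro w e
    unfold fixCond
    rw [List.all_eq_true]
    intro f hf
    rw [List.all_eq_true]
    intro q hq
    have hq' := List.mem_range.mp hq
    rw [Bool.or_eq_true, bne_iff_ne, beq_iff_eq]
    by_cases hqf : evalW W q = f
    · right
      have h1 := (isTab_wordPerm w) (pt q)
      rw [← e, idx_pt hq'] at h1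
      rw [← h1]
      show idx (σ (wordPerm W (pt q))) = f
      rw [hW q hq', hqf, hfix f hf]
      have : f < 24 := by
        rw [← hqf]
        have := (isTab_wordPerm W) (pt q)
        rw [idx_pt hq'] at this
        rw [← this]; exact idx_lt _
      exact idx_pt this
    · exact Or.inl hqf)
  have hw : wordPerm w = wordPerm W := by
    apply (isTab_wordPerm w).eq_of (isTab_wordPerm W)
    intro q hq
    unfold fixGood at hg
    rw [List.all_eq_true] at hg
    have := hg q (List.mem_range.mpr hq)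
    rwa [beq_iff_eq] at this
  rw [hw] at e
  exact mul_right_cancel (e.trans (one_mul _).symm)

/-! ### Fusion steps -/

theorem wprod_append {G : Type*} [Monoid G] (v : ℕ → G) (a b : List ℕ) :
    wprod v (a ++ b) = wprod v a * wprod v b := by
  induction a with
  | nil => simp [wprod]
  | cons k a ih => simp [wprod, ih, mul_assoc]

theorem fuse_step {T S0 M : Subgroup (Equiv.Perm GolayPt)}
    (hcl : ∀ x ∈ T, ∀ g ∈ M, g * x * g⁻¹ ∈ S0 → g * x * g⁻¹ ∈ T)
    {x g y : Equiv.Perm GolayPt} {X Gt Y : ℕ → ℕ} (hx : x ∈ T) (hg : g ∈ M) (hy : y ∈ S0)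
    (tx : IsTab x X) (tg : IsTab g Gt) (ty : IsTab y Y)
    (h : ∀ i < 24, Gt (X i) = Y (Gt i)) : y ∈ T := by
  have e : g * x = y * g := IsTab.eq_of (tg.mul tx) (ty.mul tg) h
  have e2 : g * x * g⁻¹ = y := by rw [e, mul_inv_cancel_right]
  have := hcl x hx g hg (by rw [e2]; exact hy)
  rwa [e2] at this

/-- a nontrivial normal subgroup of a finite `p`-group contains a nontrivial central element. -/
theorem exists_central_of_normal {P : Type*} [Group P] [Finite P] {p : ℕ}
    [Fact p.Prime] (hP : IsPGroup p P) (N : Subgroup P) [N.Normal] (hN : N ≠ ⊥) :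
    ∃ z ∈ N, z ∈ Subgroup.center P ∧ z ≠ 1 := by
  have hNp : IsPGroup p N := hP.to_subgroup N
  have hdvd : p ∣ Nat.card N := by
    rcases hNp.card_eq_or_dvd with h1 | h1
    · exact absurd (Subgroup.card_eq_one.mp h1) hN
    · exact h1
  have h1 : (1 : N) ∈ MulAction.fixedPoints (ConjAct P) N := by
    intro g
    exact smul_one g
  obtain ⟨b, hb, hb1⟩ :=
    (hP.of_equiv ConjAct.toConjAct).exists_fixed_point_of_prime_dvd_card_of_fixed_point N hdvd h1
  refine ⟨b, b.2, ?_, fun h => hb1 (Subtype.ext h.symm)⟩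
  rw [Subgroup.mem_center_iff]
  intro g
  have := hb (ConjAct.toConjAct g)
  have h2 := congrArg Subtype.val this
  rw [ConjAct.Subgroup.val_conj_smul, ConjAct.toConjAct_smul] at h2
  calc g * (b : P) = (g * b * g⁻¹) * g := by group
    _ = b * g := by rw [h2]

end Cfsg.Agent.Lib.Helper10
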