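import Cfsg.Agent.Lib.Helper10.PC2
import Cfsg.Agent.Lib.Helper10.M12Gen
import Cfsg.Agent.Lib.Helper10.M22Gen
import Cfsg.Agent.Lib.Helper10.M23Gen

set_option autoImplicit false

namespace Cfsg.Agent.Lib.Helper10

open Cfsg

theorem wordPerm_mem_M12 (W : List ℕ) (hW : presTab (evalW W) = true) : wordPerm W ∈ Spor.M12 :=
  (mem_M12_iff _).mpr ⟨wordPerm_mem_M24 W, pres_of_presTab (isTab_wordPerm W) hW⟩

theorem wordPerm_mem_M11 (W : List ℕ) (hW : presTab (evalW W) = true) (h0 : evalW W 0 = 0) :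
    wordPerm W ∈ Spor.M11 :=
  (mem_M11_iff _).mpr ⟨wordPerm_mem_M24 W, pres_of_presTab (isTab_wordPerm W) hW, by
    rw [(isTab_wordPerm W).apply_pt (by norm_num), h0]⟩

theorem wordPerm_mem_M22 (W : List ℕ) (h23 : evalW W 23 = 23) (h0 : evalW W 0 = 0) :
    wordPerm W ∈ Spor.M22 :=
  (mem_M22_iff _).mpr ⟨wordPerm_mem_M24 W, by
    rw [(isTab_wordPerm W).apply_pt (by norm_num), h23], by
    rw [(isTab_wordPerm W).apply_pt (by norm_num), h0]⟩

theorem mem_M23_iff (σ : Equiv.Perm GolayPt) : σ ∈ Spor.M23 ↔ σ ∈ M24 ∧ σ (pt 23) = pt 23 := by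
  unfold Spor.M23
  simp only [Subgroup.mem_inf, MulAction.mem_stabilizer_iff, Equiv.Perm.smul_def]
  have h1 : (none : GolayPt) = pt 23 := rfl
  rw [h1]

theorem wordPerm_mem_M23 (W : List ℕ) (h23 : evalW W 23 = 23) : wordPerm W ∈ Spor.M23 :=
  (mem_M23_iff _).mpr ⟨wordPerm_mem_M24 W, by
    rw [(isTab_wordPerm W).apply_pt (by norm_num), h23]⟩

/-- an element of `M12` fixing the images of the five base points of the dodecad under an
element of `M12` is trivial. -/
theorem eq_one_of_fixes_five12 (W : List ℕ) (hW : presTab (evalW W) = true)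
    {σ : Equiv.Perm GolayPt} (hσ : σ ∈ Spor.M12)
    (hfix : ∀ i < 5, σ (pt (evalW W (base12.getD i 0))) = pt (evalW W (base12.getD i 0))) :
    σ = 1 := by
  have hg := wordPerm_mem_M12 W hW
  have hσ' : (wordPerm W)⁻¹ * σ * wordPerm W ∈ K12 := by
    rw [← M12_eq_K12]
    exact Spor.M12.mul_mem (Spor.M12.mul_mem (Spor.M12.inv_mem hg) hσ) hg
  have h1 := eq_one_of_fixes_base12 hσ' (by
    intro i hi
    show (wordPerm W)⁻¹ (σ (wordPerm W (bpt12 i))) = bpt12 i
    have hb : base12.getD i 0 < 24 := by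
      have : ∀ i : Fin 5, base12.getD i 0 < 24 := by decide
      exact this ⟨i, hi⟩
    unfold bpt12
    rw [(isTab_wordPerm W).apply_pt hb, hfix i hi, ← (isTab_wordPerm W).apply_pt hb]
    simp)
  have : σ = wordPerm W * ((wordPerm W)⁻¹ * σ * wordPerm W) * (wordPerm W)⁻¹ := by group
  rw [this, h1]; group

end Cfsg.Agent.Lib.Helper10
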