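import Cfsg.Agent.Lib.Helper10.M24Mem
import Cfsg.Agent.S0370
import Cfsg.Agent.S0372
import Cfsg.Agent.S0373

set_option autoImplicit false

namespace Cfsg.Agent.Lib.Helper10

open Cfsg

/-- the shift `x ↦ x + 1`. -/
noncomputable def gA : Equiv.Perm GolayPt := Equiv.optionCongr (Equiv.addRight (1 : ZMod 23))

/-- generators and inverses, indexed by `0..4`. -/
noncomputable def gen : ℕ → Equiv.Perm GolayPt
  | 0 => gA
  | 1 => projInv
  | 2 => cubeTwist
  | 3 => gA⁻¹
  | 4 => cubeTwist⁻¹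
  | _ => 1

def tbl0 : List ℕ := [1, 2, 3, 4, 5, 6, 7, 8, 9, 10, 11, 12, 13, 14, 15, 16, 17, 18, 19, 20, 21, 22, 0, 23]
def tbl1 : List ℕ := [23, 22, 11, 15, 17, 9, 19, 13, 20, 5, 16, 2, 21, 7, 18, 3, 10, 4, 14, 6, 8, 12, 1, 0]
def tbl2 : List ℕ := [0, 18, 6, 3, 2, 21, 1, 5, 16, 12, 7, 19, 8, 9, 17, 15, 13, 11, 4, 22, 10, 20, 14, 23]
def tbl3 : List ℕ := [22, 0, 1, 2, 3, 4, 5, 6, 7, 8, 9, 10, 11, 12, 13, 14, 15, 16, 17, 18, 19, 20, 21, 23]
def tbl4 : List ℕ := [0, 6, 4, 3, 18, 7, 2, 10, 12, 13, 20, 17, 9, 16, 22, 15, 8, 14, 1, 11, 21, 5, 19, 23]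

/-- image tables of the generators. -/
def tbl : ℕ → ℕ → ℕ
  | 0, i => tbl0.getD i 0
  | 1, i => tbl1.getD i 0
  | 2, i => tbl2.getD i 0
  | 3, i => tbl3.getD i 0
  | 4, i => tbl4.getD i 0
  | _, i => i

theorem gA_apply (p : GolayPt) : gA p = Option.map (fun x => x + 1) p := by
  cases p <;> rfl

theorem spec0 : ∀ p : GolayPt, idx (Option.map (fun x : ZMod 23 => x + 1) p) = tbl0.getD (idx p) 0 := by
  decide +kernel

theorem spec1 : ∀ p : GolayPt, idx (projInvFun p) = tbl1.getD (idx p) 0 := by decide +kernel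

theorem spec2 : ∀ p : GolayPt, idx (cubeTwistFun p) = tbl2.getD (idx p) 0 := by decide +kernel

theorem spec3 : ∀ p : GolayPt, Option.map (fun x : ZMod 23 => x + 1) (pt (tbl3.getD (idx p) 0)) = p := by
  decide +kernel

theorem spec4 : ∀ p : GolayPt, cubeTwistFun (pt (tbl4.getD (idx p) 0)) = p := by decide +kernel

theorem tbl3_lt : ∀ i : Fin 24, tbl3.getD i 0 < 24 := by decide +kernel
theorem tbl4_lt : ∀ i : Fin 24, tbl4.getD i 0 < 24 := by decide +kernel

theorem gen_spec (g : ℕ) (p : GolayPt) : idx (gen g p) = tbl g (idx p) := by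
  match g with
  | 0 => show idx (gA p) = _; rw [gA_apply]; exact spec0 p
  | 1 => exact spec1 p
  | 2 => exact spec2 p
  | 3 =>
    show idx (gA⁻¹ p) = tbl3.getD (idx p) 0
    have h : gA⁻¹ p = pt (tbl3.getD (idx p) 0) := by
      rw [Equiv.Perm.inv_eq_iff_eq, gA_apply]
      exact (spec3 p).symm
    rw [h, idx_pt (tbl3_lt ⟨idx p, idx_lt p⟩)]
  | 4 =>
    show idx (cubeTwist⁻¹ p) = tbl4.getD (idx p) 0
    have h : cubeTwist⁻¹ p = pt (tbl4.getD (idx p) 0) := by
      rw [Equiv.Perm.inv_eq_iff_eq]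
      exact (spec4 p).symm
    rw [h, idx_pt (tbl4_lt ⟨idx p, idx_lt p⟩)]
  | (n + 5) => rfl

/-- the permutation given by a word in the generators. -/
noncomputable def wordPerm : List ℕ → Equiv.Perm GolayPt
  | [] => 1
  | g :: w => gen g * wordPerm w

/-- the action of a word on indices. -/
def evalW : List ℕ → ℕ → ℕ
  | [], i => i
  | g :: w, i => tbl g (evalW w i)

theorem evalW_spec (w : List ℕ) (p : GolayPt) : idx (wordPerm w p) = evalW w (idx p) := by
  induction w with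
  | nil => rfl
  | cons g w ih =>
    show idx (gen g (wordPerm w p)) = tbl g (evalW w (idx p))
    rw [gen_spec, ih]

theorem wordPerm_pt {w : List ℕ} {i j : ℕ} (hi : i < 24) (h : evalW w i = j) :
    wordPerm w (pt i) = pt j := by
  have := evalW_spec w (pt i)
  rw [idx_pt hi, h] at this
  rw [← this, pt_idx]

/-- the subgroup generated by the three permutations. -/
def H : Subgroup (Equiv.Perm GolayPt) :=
  Subgroup.closure {Equiv.optionCongr (Equiv.addRight (1 : ZMod 23)), Cfsg.projInv, Cfsg.cubeTwist}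

theorem gen_mem_H (g : ℕ) : gen g ∈ H := by
  have h0 : gA ∈ H := Subgroup.subset_closure (by simp [gA])
  have h1 : projInv ∈ H := Subgroup.subset_closure (by simp)
  have h2 : cubeTwist ∈ H := Subgroup.subset_closure (by simp)
  match g with
  | 0 => exact h0
  | 1 => exact h1
  | 2 => exact h2
  | 3 => exact H.inv_mem h0
  | 4 => exact H.inv_mem h2
  | (n + 5) => exact H.one_mem

theorem wordPerm_mem_H (w : List ℕ) : wordPerm w ∈ H := by
  induction w with
  | nil => exact H.one_mem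
  | cons g w ih => exact H.mul_mem (gen_mem_H g) ih

theorem H_le_M24 : H ≤ M24 := by
  unfold H
  rw [Subgroup.closure_le]
  rintro σ (rfl | rfl | rfl)
  · exact Cfsg.Agent.S0370.result
  · exact Cfsg.Agent.S0372.result
  · exact Cfsg.Agent.S0373.result

theorem wordPerm_mem_M24 (w : List ℕ) : wordPerm w ∈ M24 := H_le_M24 (wordPerm_mem_H w)

end Cfsg.Agent.Lib.Helper10
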