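import Mathlib
import Cfsg.Agent.Lib.Helper48.RSpDefs2

set_option autoImplicit false
set_option linter.unusedVariables false
set_option linter.unusedSectionVars false
set_option linter.unnecessarySeqFocus false

/-!
# Leaf K-RSp-P4 (S2281): `n = 2`, characteristic `2`, `|F| ≥ 4`: `X` is all symmetric `2 × 2` matrices
-/

namespace Cfsg.Agent.Lib.Helper10.RSp

open Matrix Cfsg.Agent.Lib.Helper48.RSp Cfsg.Agent.Lib.Helper18

variable {F : Type*} [Field F]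

/-- the symmetric `2 × 2` matrix with coordinates `(a,b,c)` -/
def mk3 (a b c : F) : SM 0 F := !![a, b; b, c]

theorem mk3_add (a b c a' b' c' : F) : mk3 a b c + mk3 a' b' c' = mk3 (a + a') (b + b') (c + c') := by
  ext i j
  fin_cases i <;> fin_cases j <;> simp [mk3]

theorem mk3_sub (a b c a' b' c' : F) : mk3 a b c - mk3 a' b' c' = mk3 (a - a') (b - b') (c - c') := by
  ext i j
  fin_cases i <;> fin_cases j <;> simp [mk3]

theorem mk3_transpose (a b c : F) : (mk3 a b c)ᵀ = mk3 a b c := by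
  ext i j
  fin_cases i <;> fin_cases j <;> simp [mk3]

theorem eq_mk3 (S : SM 0 F) (hS : Sᵀ = S) : S = mk3 (S 0 0) (S 0 1) (S 1 1) := by
  have h10 : S 1 0 = S 0 1 := by
    have := congrFun (congrFun hS 0) 1
    simpa [Matrix.transpose_apply] using this
  ext i j
  fin_cases i <;> fin_cases j <;> simp [mk3, h10]

theorem smul_E00 (l : F) : l • E00 0 F = mk3 l 0 0 := by
  ext i j
  fin_cases i <;> fin_cases j <;> simp [mk3, E00, Matrix.single]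

theorem U_mk3 (h2 : (2 : F) = 0) (a b c : F) :
    Uup 0 F * mk3 a b c * (Uup 0 F)ᵀ = mk3 (a + c) (b + c) c := by
  ext i j
  fin_cases i <;> fin_cases j <;>
    simp [mk3, Uup, Nup, Matrix.mul_apply, Fin.sum_univ_two, Matrix.add_apply, Matrix.one_apply] <;>
    linear_combination b * h2

theorem L_mk3 (t a : F) :
    Lbi 0 (fun j => if j = 0 then t else 1) * mk3 a 0 0 * (Lbi 0 (fun j => if j = 0 then t else 1))ᵀ
      = mk3 a (a * t) (a * t ^ 2) := by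
  ext i j
  fin_cases i <;> fin_cases j <;>
    simp [mk3, Lbi, Matrix.mul_apply, Fin.sum_univ_two] <;> ring

theorem tau_mk3 (h2 : (2 : F) = 0) (t σ β a b : F) :
    tauMat t σ β * mk3 a b 0 * (tauMat t σ β)ᵀ
      = mk3 (a + a * (σ * β * t) ^ 2) (b + a * (1 + σ * β * t) * (σ * β * t) * t)
          (a * (σ * β * t) ^ 2 * t ^ 2) := by
  ext i j
  fin_cases i <;> fin_cases j <;>
    simp [mk3, tauMat, Matrix.mul_apply, Fin.sum_univ_two]
  · linear_combination (a * σ * β * t + (-1) * (σ * β) * b * (1 + σ * β * t)) * h2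
  · linear_combination (-(σ * β * t) ^ 2 * b) * h2
  · linear_combination (-(σ * β * t) ^ 2 * b) * h2
  · linear_combination (σ * β * t * t * b * (1 - σ * β * t)) * h2

theorem sym_all_two {F : Type*} [Field F] (X : AddSubgroup (SM 0 F)) (t σ l : F)
    (ht : t ≠ 0) (hσ : σ ≠ 0) (hl0 : l ≠ 0)
    (hU : ∀ S ∈ X, Uup 0 F * S * (Uup 0 F)ᵀ ∈ X)
    (hL : ∀ S ∈ X, Sᵀ = S → (∀ j, S (Fin.last 1) j = 0) →
      Lbi 0 (fun j => if j = 0 then t else 1) * S * (Lbi 0 (fun j => if j = 0 then t else 1))ᵀ ∈ X)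
    (hτ : ∀ S ∈ X, Sᵀ = S → S 1 1 = 0 → ∀ S₂ ∈ X,
      tauMat t σ (S 0 1) * S₂ * (tauMat t σ (S 0 1))ᵀ ∈ X)
    (h2 : (2 : F) = 0) (hl : l • E00 0 F ∈ X)
    (hgen : ∀ x : F, x ≠ 0 → ∃ k : ℕ, x = (σ * t ^ 4 * l) ^ (2 * k + 1))
    (h4 : ∃ ρ₁ ρ₂ : F, ρ₁ ≠ 0 ∧ ρ₂ ≠ 0 ∧ ρ₁ ≠ ρ₂) :
    ∀ S : SM 0 F, Sᵀ = S → S ∈ X := by
  -- (U - 1): `(a,b,c) ∈ X ⇒ (c,c,0) ∈ X`
  have hUd : ∀ a b c : F, mk3 a b c ∈ X → mk3 c c 0 ∈ X := by
    intro a b c h
    have h1 := hU _ h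
    rw [U_mk3 h2] at h1
    have h3 := X.sub_mem h1 h
    rw [mk3_sub] at h3
    have e1 : a + c - a = c := by ring
    have e2 : b + c - b = c := by ring
    have e3 : c - c = 0 := by ring
    rw [e1, e2, e3] at h3
    exact h3
  -- `L`: `(a,0,0) ∈ X ⇒ (a, a t, a t²) ∈ X`
  have hL' : ∀ a : F, mk3 a 0 0 ∈ X → mk3 a (a * t) (a * t ^ 2) ∈ X := by
    intro a h
    have h1 := hL _ h (mk3_transpose _ _ _) (by
      intro j
      fin_cases j <;> simp [mk3, Fin.last])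
    rw [L_mk3] at h1
    exact h1
  -- `τ`: the `h`-vector
  have hτ' : ∀ β a b : F, mk3 β β 0 ∈ X → mk3 a b 0 ∈ X →
      mk3 (a * (σ * β * t) ^ 2) (a * (1 + σ * β * t) * (σ * β * t) * t)
        (a * (σ * β * t) ^ 2 * t ^ 2) ∈ X := by
    intro β a b hβ hab
    have h1 := hτ _ hβ (mk3_transpose _ _ _) (by simp [mk3]) _ hab
    have e : mk3 β β 0 0 1 = β := by simp [mk3]
    rw [e, tau_mk3 h2] at h1
    have h3 := X.sub_mem h1 hab
    rw [mk3_sub] at h3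
    have e1 : a + a * (σ * β * t) ^ 2 - a = a * (σ * β * t) ^ 2 := by ring
    have e2 : b + a * (1 + σ * β * t) * (σ * β * t) * t - b
        = a * (1 + σ * β * t) * (σ * β * t) * t := by ring
    have e3 : a * (σ * β * t) ^ 2 * t ^ 2 - 0 = a * (σ * β * t) ^ 2 * t ^ 2 := by ring
    rw [e1, e2, e3] at h3
    exact h3
  -- the set `C`
  have hl' : mk3 l 0 0 ∈ X := by
    rw [← smul_E00]
    exact hl
  have hC0 : mk3 (l * t ^ 2) (l * t ^ 2) 0 ∈ X := hUd _ _ _ (hL' _ hl')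
  have hCmul : ∀ α β : F, mk3 α α 0 ∈ X → mk3 β β 0 ∈ X →
      mk3 (α * (σ * β * t) ^ 2 * t ^ 2) (α * (σ * β * t) ^ 2 * t ^ 2) 0 ∈ X := by
    intro α β hα hβ
    exact hUd _ _ _ (hτ' β α α hβ hα)
  have hzero : mk3 (0 : F) 0 0 ∈ X := by
    have : mk3 (0 : F) 0 0 = 0 := by
      ext i j
      fin_cases i <;> fin_cases j <;> simp [mk3]
    rw [this]
    exact X.zero_mem
  have hσt : σ * t ^ 2 ≠ 0 := mul_ne_zero hσ (pow_ne_zero _ ht)
  have hpow : ∀ k : ℕ, mk3 ((σ * t ^ 4 * l) ^ (2 * k + 1) / (σ * t ^ 2))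
      ((σ * t ^ 4 * l) ^ (2 * k + 1) / (σ * t ^ 2)) 0 ∈ X := by
    intro k
    induction k with
    | zero =>
      have e : (σ * t ^ 4 * l) ^ (2 * 0 + 1) / (σ * t ^ 2) = l * t ^ 2 := by
        rw [Nat.mul_zero, Nat.zero_add, pow_one]
        field_simp
      rw [e]
      exact hC0
    | succ k ih =>
      have h1 := hCmul _ _ ih hC0
      have e : (σ * t ^ 4 * l) ^ (2 * k + 1) / (σ * t ^ 2) * (σ * (l * t ^ 2) * t) ^ 2 * t ^ 2
          = (σ * t ^ 4 * l) ^ (2 * (k + 1) + 1) / (σ * t ^ 2) := by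
        have e' : (σ * t ^ 4 * l) ^ (2 * (k + 1) + 1)
            = (σ * t ^ 4 * l) ^ (2 * k + 1) * (σ * t ^ 4 * l) ^ 2 := by
          rw [← pow_add]
          congr 1
        rw [e']
        generalize (σ * t ^ 4 * l) ^ (2 * k + 1) = w
        field_simp
      rw [e] at h1
      exact h1
  have hC : ∀ y : F, mk3 y y 0 ∈ X := by
    intro y
    by_cases hy : y = 0
    · rw [hy]
      exact hzero
    · obtain ⟨k, hk⟩ := hgen (y * (σ * t ^ 2)) (mul_ne_zero hy hσt)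
      have h1 := hpow k
      rw [← hk] at h1
      have e : y * (σ * t ^ 2) / (σ * t ^ 2) = y := by
        field_simp
      rw [e] at h1
      exact h1
  -- all `h(α, ρ)` are in `X`
  have hh : ∀ α ρ : F, mk3 (α * ρ ^ 2) (α * (1 + ρ) * ρ * t) (α * ρ ^ 2 * t ^ 2) ∈ X := by
    intro α ρ
    have h1 := hτ' (ρ / (σ * t)) α α (hC _) (hC _)
    have e : σ * (ρ / (σ * t)) * t = ρ := by
      field_simp
    rw [e] at h1
    exact h1
  -- `F B_01 ⊆ X`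
  obtain ⟨ρ₁, ρ₂, h1, h2', h12⟩ := h4
  have hne : ρ₁⁻¹ - ρ₂⁻¹ ≠ 0 := by
    intro h
    apply h12
    have : ρ₁⁻¹ = ρ₂⁻¹ := sub_eq_zero.mp h
    exact inv_injective this
  have hB : ∀ κ : F, mk3 0 κ 0 ∈ X := by
    intro κ
    set κ' : F := κ / (t * (ρ₁⁻¹ - ρ₂⁻¹)) with hκ'
    have ha := hh (κ' / ρ₁ ^ 2) ρ₁
    have hb := hh (κ' / ρ₂ ^ 2) ρ₂
    have h3 := X.sub_mem ha hb
    rw [mk3_sub] at h3
    have e1 : κ' / ρ₁ ^ 2 * ρ₁ ^ 2 - κ' / ρ₂ ^ 2 * ρ₂ ^ 2 = 0 := by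
      field_simp
      ring
    have e2 : κ' / ρ₁ ^ 2 * (1 + ρ₁) * ρ₁ * t - κ' / ρ₂ ^ 2 * (1 + ρ₂) * ρ₂ * t = κ := by
      have : κ' / ρ₁ ^ 2 * (1 + ρ₁) * ρ₁ * t - κ' / ρ₂ ^ 2 * (1 + ρ₂) * ρ₂ * t
          = κ' * (t * (ρ₁⁻¹ - ρ₂⁻¹)) := by
        field_simp
        ring
      rw [this, hκ']
      field_simp
    have e3 : κ' / ρ₁ ^ 2 * ρ₁ ^ 2 * t ^ 2 - κ' / ρ₂ ^ 2 * ρ₂ ^ 2 * t ^ 2 = 0 := by
      field_simp
      ring
    rw [e1, e2, e3] at h3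
    exact h3
  have hE0 : ∀ c : F, mk3 c 0 0 ∈ X := by
    intro c
    have h3 := X.sub_mem (hC c) (hB c)
    rw [mk3_sub] at h3
    simpa using h3
  have hE1 : ∀ c : F, mk3 0 0 c ∈ X := by
    intro c
    have h3 := X.sub_mem (X.sub_mem (hL' _ (hE0 (c / t ^ 2))) (hE0 (c / t ^ 2))) (hB (c / t ^ 2 * t))
    rw [mk3_sub, mk3_sub] at h3
    have e : c / t ^ 2 * t ^ 2 = c := by field_simp
    simpa [e] using h3
  intro S hS
  rw [eq_mk3 S hS]
  have h3 := X.add_mem (X.add_mem (hE0 (S 0 0)) (hB (S 0 1))) (hE1 (S 1 1))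
  rw [mk3_add, mk3_add] at h3
  simpa using h3

end Cfsg.Agent.Lib.Helper10.RSp
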