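import Mathlib
import Cfsg.Agent.Lib.Helper20.RU2Defs

set_option autoImplicit false
set_option linter.unusedVariables false
set_option linter.unusedSectionVars false
set_option linter.unnecessarySeqFocus false
set_option linter.unusedSimpArgs false

/-!
# Leaf K-RU2-H (S2278): the words in characteristic `2`
-/

namespace Cfsg.Agent.Lib.Helper10.RU2

open Matrix Cfsg.Agent.Lib.Helper73.RU Cfsg.Agent.Lib.Helper20.RU2

theorem A3_sq {F : Type*} [Field F] (h2 : (2 : F) = 0) :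
    A3 F * A3 F = tvm ((1 : F) • (Pi.single 0 1 : Fin 3 → F)) (Pi.single 2 1) := by
  ext i j
  fin_cases i <;> fin_cases j <;>
    simp [A3, tvm, vecMulVec, Matrix.mul_apply, Fin.sum_univ_three, Matrix.add_apply, Matrix.one_apply] <;>
    grind

theorem word_E13 {F : Type*} [Field F] (h2 : (2 : F) = 0) {ω : F} (hω : ω ^ 2 = ω + 1) :
    A3 F * vM4 ω * vM4 ω * A3 F * A3 F * vM4inv ω * A3 F * A3 F * vM4 ω * vM4 ω =
      tvm (ω • (Pi.single 0 1 : Fin 3 → F)) (Pi.single 2 1) := by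
  have e0 : A3 F * vM4 ω = (!![0, 1, 0; ω + 1, 0, 1; ω, 1, 1] : Matrix (Fin 3) (Fin 3) F) := by
    ext i j
    fin_cases i <;> fin_cases j <;>
      simp [A3, vM4, vM4inv, Matrix.mul_apply, Fin.sum_univ_three] <;> grind
  have e1 : (!![0, 1, 0; ω + 1, 0, 1; ω, 1, 1] : Matrix (Fin 3) (Fin 3) F) * vM4 ω = !![1, 1, 0; 1, 1, 1; 1, 0, 1] := by
    ext i j
    fin_cases i <;> fin_cases j <;>
      simp [A3, vM4, vM4inv, Matrix.mul_apply, Fin.sum_univ_three] <;> grind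
  have e2 : (!![1, 1, 0; 1, 1, 1; 1, 0, 1] : Matrix (Fin 3) (Fin 3) F) * A3 F = !![1, 0, 1; 1, 0, 0; 1, 1, 1] := by
    ext i j
    fin_cases i <;> fin_cases j <;>
      simp [A3, vM4, vM4inv, Matrix.mul_apply, Fin.sum_univ_three] <;> grind
  have e3 : (!![1, 0, 1; 1, 0, 0; 1, 1, 1] : Matrix (Fin 3) (Fin 3) F) * A3 F = !![1, 1, 1; 1, 1, 0; 1, 0, 0] := by
    ext i j
    fin_cases i <;> fin_cases j <;>
      simp [A3, vM4, vM4inv, Matrix.mul_apply, Fin.sum_univ_three] <;> grind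
  have e4 : (!![1, 1, 1; 1, 1, 0; 1, 0, 0] : Matrix (Fin 3) (Fin 3) F) * vM4inv ω = !![ω + 1, 0, 1; 0, 1, 0; 1, 0, 0] := by
    ext i j
    fin_cases i <;> fin_cases j <;>
      simp [A3, vM4, vM4inv, Matrix.mul_apply, Fin.sum_univ_three] <;> grind
  have e5 : (!![ω + 1, 0, 1; 0, 1, 0; 1, 0, 0] : Matrix (Fin 3) (Fin 3) F) * A3 F = !![ω + 1, ω + 1, 1; 0, 1, 1; 1, 1, 0] := by
    ext i j
    fin_cases i <;> fin_cases j <;>
      simp [A3, vM4, vM4inv, Matrix.mul_apply, Fin.sum_univ_three] <;> grind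
  have e6 : (!![ω + 1, ω + 1, 1; 0, 1, 1; 1, 1, 0] : Matrix (Fin 3) (Fin 3) F) * A3 F = !![ω + 1, 0, ω; 0, 1, 0; 1, 0, 1] := by
    ext i j
    fin_cases i <;> fin_cases j <;>
      simp [A3, vM4, vM4inv, Matrix.mul_apply, Fin.sum_univ_three] <;> grind
  have e7 : (!![ω + 1, 0, ω; 0, 1, 0; 1, 0, 1] : Matrix (Fin 3) (Fin 3) F) * vM4 ω = !![0, ω, ω; 1, 1, 0; ω + 1, 1, 1] := by
    ext i j
    fin_cases i <;> fin_cases j <;>
      simp [A3, vM4, vM4inv, Matrix.mul_apply, Fin.sum_univ_three] <;> grind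
  have e8 : (!![0, ω, ω; 1, 1, 0; ω + 1, 1, 1] : Matrix (Fin 3) (Fin 3) F) * vM4 ω = !![1, 0, ω; 0, 1, 0; 0, 0, 1] := by
    ext i j
    fin_cases i <;> fin_cases j <;>
      simp [A3, vM4, vM4inv, Matrix.mul_apply, Fin.sum_univ_three] <;> grind
  rw [e0, e1, e2, e3, e4, e5, e6, e7, e8]
  ext i j
  fin_cases i <;> fin_cases j <;>
    simp [tvm, vecMulVec, Matrix.add_apply, Matrix.one_apply]

theorem word_cL {F : Type*} [Field F] (h2 : (2 : F) = 0) {ω : F} (hω : ω ^ 2 = ω + 1) :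
    A3 F * A3 F * vM4 ω * vM4 ω * A3 F * vM4 ω * vM4 ω * A3 F * A3 F =
      cL F := by
  have e0 : A3 F * A3 F = (!![1, 0, 1; 0, 1, 0; 0, 0, 1] : Matrix (Fin 3) (Fin 3) F) := by
    ext i j
    fin_cases i <;> fin_cases j <;>
      simp [A3, vM4, vM4inv, Matrix.mul_apply, Fin.sum_univ_three] <;> grind
  have e1 : (!![1, 0, 1; 0, 1, 0; 0, 0, 1] : Matrix (Fin 3) (Fin 3) F) * vM4 ω = !![ω + 1, 1, 1; 1, 1, 0; ω, 1, 1] := by
    ext i j
    fin_cases i <;> fin_cases j <;>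
      simp [A3, vM4, vM4inv, Matrix.mul_apply, Fin.sum_univ_three] <;> grind
  have e2 : (!![ω + 1, 1, 1; 1, 1, 0; ω, 1, 1] : Matrix (Fin 3) (Fin 3) F) * vM4 ω = !![0, 0, 1; 0, 1, 0; 1, 0, 1] := by
    ext i j
    fin_cases i <;> fin_cases j <;>
      simp [A3, vM4, vM4inv, Matrix.mul_apply, Fin.sum_univ_three] <;> grind
  have e3 : (!![0, 0, 1; 0, 1, 0; 1, 0, 1] : Matrix (Fin 3) (Fin 3) F) * A3 F = !![0, 0, 1; 0, 1, 1; 1, 1, 1] := by
    ext i j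
    fin_cases i <;> fin_cases j <;>
      simp [A3, vM4, vM4inv, Matrix.mul_apply, Fin.sum_univ_three] <;> grind
  have e4 : (!![0, 0, 1; 0, 1, 1; 1, 1, 1] : Matrix (Fin 3) (Fin 3) F) * vM4 ω = !![ω, 1, 1; ω + 1, 0, 1; ω, 0, 1] := by
    ext i j
    fin_cases i <;> fin_cases j <;>
      simp [A3, vM4, vM4inv, Matrix.mul_apply, Fin.sum_univ_three] <;> grind
  have e5 : (!![ω, 1, 1; ω + 1, 0, 1; ω, 0, 1] : Matrix (Fin 3) (Fin 3) F) * vM4 ω = !![1, 0, 1; 1, 1, 1; 0, 1, 1] := by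
    ext i j
    fin_cases i <;> fin_cases j <;>
      simp [A3, vM4, vM4inv, Matrix.mul_apply, Fin.sum_univ_three] <;> grind
  have e6 : (!![1, 0, 1; 1, 1, 1; 0, 1, 1] : Matrix (Fin 3) (Fin 3) F) * A3 F = !![1, 1, 1; 1, 0, 0; 0, 1, 0] := by
    ext i j
    fin_cases i <;> fin_cases j <;>
      simp [A3, vM4, vM4inv, Matrix.mul_apply, Fin.sum_univ_three] <;> grind
  have e7 : (!![1, 1, 1; 1, 0, 0; 0, 1, 0] : Matrix (Fin 3) (Fin 3) F) * A3 F = !![1, 0, 0; 1, 1, 0; 0, 1, 1] := by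
    ext i j
    fin_cases i <;> fin_cases j <;>
      simp [A3, vM4, vM4inv, Matrix.mul_apply, Fin.sum_univ_three] <;> grind
  rw [e0, e1, e2, e3, e4, e5, e6, e7]
  ext i j
  fin_cases i <;> fin_cases j <;> simp [cL]

theorem vM4_mul_inv {F : Type*} [Field F] (h2 : (2 : F) = 0) (ω : F) : vM4 ω * vM4inv ω = 1 := by
  ext i j
  fin_cases i <;> fin_cases j <;>
    simp [vM4, vM4inv, Matrix.mul_apply, Fin.sum_univ_three, Matrix.one_apply] <;> grind

theorem det_g4 {F : Type*} [Field F] (h2 : (2 : F) = 0) (ω : F) : (g4 ω).det = 1 := by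
  rw [Matrix.det_fin_three]
  simp [g4]
  grind

theorem g4_mul_A3 {F : Type*} [Field F] (ω : F) : g4 ω * A3 F = vM4 ω * g4 ω := by
  ext i j
  fin_cases i <;> fin_cases j <;>
    simp [g4, A3, vM4, Matrix.mul_apply, Fin.sum_univ_three] <;> ring

end Cfsg.Agent.Lib.Helper10.RU2
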