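import Cfsg.Agent.Lib.Helper10.SchurTwoU
import Cfsg.Agent.S0381
import Cfsg.Agent.S1554
import Cfsg.Agent.Lib.Helper23.SchurTwoE
import Cfsg.Agent.Lib.Helper36.Idx253d
import Cfsg.Agent.Lib.Helper92.M24Invol

set_option autoImplicit false

/-! Keystone K-S2037-J: the explicit package for `M23` (octad stabiliser `2^4 : A7` of index 253). -/

namespace Cfsg.Agent.Lib.Helper10.SchurTwo

open Cfsg MulAction Cfsg.Agent.Lib.Helper10
open Cfsg.Agent.Lib.Helper35 (bO octFix octStab mem_octFix conj_mem_octFix octFix_free perm_inv_apply perm_apply_inv)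
open Cfsg.Agent.S0381 (fixK mem_fixK wAt eq_word sq_fixO word_spec target_of_mem eq_one_of_fix4)
open scoped Pointwise

/-! ### basic facts on the base octad -/

theorem bO_mem : bO ∈ octads := fs_mem_octads octO_lt octO_enc octO_pc

theorem none_mem_bO : (none : GolayPt) ∈ bO := (mem_fs octO none).mpr (by decide)

theorem pt4_not_mem_bO : pt 4 ∉ bO := fun h => by
  have := (mem_fs octO (pt 4)).mp h
  revert this
  decide

theorem pt23 : pt 23 = none := rfl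

theorem word_pres {w : List ℕ} {S : ℕ} (h : ∀ i : Fin 24, S.testBit (evalW w i) = S.testBit i) :
    Pres (wordPerm w) S := by
  intro p
  rw [evalW_spec]
  exact h ⟨idx p, idx_lt p⟩

theorem word_smul_bO {w : List ℕ} (h : ∀ i : Fin 24, octO.testBit (evalW w i) = octO.testBit i) :
    wordPerm w • bO = bO := smul_eq_of_pres (word_pres h)

theorem wAt_spec (c : Fin 24) (hc : okTarget 5 c = true) :
    wordPerm (wAt c) ∈ octFix bO ∧ wordPerm (wAt c) (pt 4) = pt c := by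
  have h := word_spec (pt c) (by rw [idx_pt c.2]; exact hc)
  rw [idx_pt c.2] at h
  exact ⟨h.1, h.2.1⟩

/-- every element of the pointwise stabiliser is one of the sixteen words. -/
theorem octFix_eq_wAt {g : Equiv.Perm GolayPt} (hg : g ∈ octFix bO) :
    ∃ c : Fin 24, okTarget 5 c = true ∧ g = wordPerm (wAt c) ∧ g (pt 4) = pt c := by
  have hc := (mem_targets 5 _).mp (target_of_mem hg)
  refine ⟨⟨idx (g (pt 4)), idx_lt _⟩, hc, eq_word hg, ?_⟩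
  rw [pt_idx]

theorem octFix_le_M23 : octFix bO ≤ Spor.M23 := by
  intro g hg
  rw [mem_octFix] at hg
  exact ⟨hg.1, mem_stabilizer_iff.mpr (hg.2 none none_mem_bO)⟩

/-! ### the data -/

def cw23 : List ℕ := [0, 0, 2, 0, 2, 0, 2, 4, 3, 4, 3, 3, 2, 2, 3, 2, 0, 4, 3, 4, 3, 4]
def dw23 : List ℕ := [0, 0, 2, 0, 2, 0, 2, 2, 0, 2, 0, 2, 3, 4, 0, 4, 4, 0, 0, 2, 0, 2]

/-- for an outside point `q ≠ 4`, a word fixing `none`, the point `4` and the octad, moving `q` to `6`. -/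
def gqTab : List (List ℕ) := [[], [], [], [], [], [], [], [0, 0, 2, 0, 2, 0, 2, 2, 0, 2, 0, 2, 3, 4, 0, 4, 4, 0, 0, 2, 0, 2, 0, 0, 2, 0, 2, 0, 2, 4, 3, 4, 3, 3, 2, 2, 3, 2, 0, 4, 3, 4, 3, 4], [0, 0, 2, 0, 2, 0, 2, 4, 3, 4, 3, 3, 2, 2, 3, 2, 0, 4, 3, 4, 3, 4, 0, 0, 2, 0, 2, 0, 2, 4, 3, 4, 3, 3, 2, 2, 3, 2, 0, 4, 3, 4, 3, 4], [0, 0, 2, 0, 2, 0, 2, 4, 3, 4, 3, 3, 2, 2, 3, 2, 0, 4, 3, 4, 3, 4, 0, 0, 2, 0, 2, 0, 2, 2, 0, 2, 0, 2, 3, 4, 0, 4, 4, 0, 0, 2, 0, 2], [0, 0, 2, 0, 2, 0, 2, 4, 3, 4, 3, 3, 2, 2, 3, 2, 0, 4, 3, 4, 3, 4, 0, 0, 2, 0, 2, 0, 2, 4, 3, 4, 3, 3, 2, 2, 3, 2, 0, 4, 3, 4, 3, 4, 0, 0, 2, 0, 2, 0, 2, 2, 0, 2, 0, 2, 3, 4, 0, 4, 4, 0, 0, 2, 0, 2], [0, 0, 2, 0, 2, 0, 2, 2, 0, 2, 0, 2, 3, 4, 0, 4, 4, 0, 0, 2, 0, 2, 0, 0, 2, 0, 2, 0, 2, 2, 0, 2, 0, 2, 3, 4, 0, 4, 4, 0, 0, 2, 0, 2, 0, 0, 2, 0, 2, 0, 2, 2, 0, 2, 0, 2, 3, 4, 0, 4, 4, 0, 0, 2, 0, 2], [0, 0, 2,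 0, 2, 0, 2, 2, 0, 2, 0, 2, 3, 4, 0, 4, 4, 0, 0, 2, 0, 2, 0, 0, 2, 0, 2, 0, 2, 2, 0, 2, 0, 2, 3, 4, 0, 4, 4, 0, 0, 2, 0, 2], [0, 0, 2, 0, 2, 0, 2, 2, 0, 2, 0, 2, 3, 4, 0, 4, 4, 0, 0, 2, 0, 2], [], [0, 0, 2, 0, 2, 0, 2, 2, 0, 2, 0, 2, 3, 4, 0, 4, 4, 0, 0, 2, 0, 2, 0, 0, 2, 0, 2, 0, 2, 4, 3, 4, 3, 3, 2, 2, 3, 2, 0, 4, 3, 4, 3, 4, 0, 0, 2, 0, 2, 0, 2, 2, 0, 2, 0, 2, 3, 4, 0, 4, 4, 0, 0, 2, 0, 2], [0, 0, 2, 0, 2, 0, 2, 2, 0, 2, 0, 2, 3, 4, 0, 4, 4, 0, 0, 2, 0, 2, 0, 0, 2, 0, 2, 0, 2, 4, 3, 4, 3, 3, 2, 2, 3, 2, 0, 4, 3, 4, 3, 4, 0, 0, 2, 0, 2, 0, 2, 4, 3, 4, 3, 3, 2, 2, 3, 2, 0, 4, 3, 4, 3, 4, 0, 0, 2, 0, 2, 0, 2, 4, 3, 4, 3, 3, 2, 2, 3, 2, 0, 4, 3, 4, 3, 4], [], [0, 0, 2, 0, 2, 0, 2, 2, 0, 2, 0, 2, 3, 4, 0, 4, 4, 0, 0, 2, 0, 2, 0, 0, 2, 0, 2, 0, 2, 4, 3, 4, 3, 3, 2, 2, 3, 2, 0, 4, 3, 4, 3, 4, 0, 0, 2, 0, 2, 0, 2, 4, 3, 4, 3, 3, 2, 2, 3, 2, 0, 4, 3, 4, 3, 4], [0,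 0, 2, 0, 2, 0, 2, 2, 0, 2, 0, 2, 3, 4, 0, 4, 4, 0, 0, 2, 0, 2, 0, 0, 2, 0, 2, 0, 2, 2, 0, 2, 0, 2, 3, 4, 0, 4, 4, 0, 0, 2, 0, 2, 0, 0, 2, 0, 2, 0, 2, 4, 3, 4, 3, 3, 2, 2, 3, 2, 0, 4, 3, 4, 3, 4], [0, 0, 2, 0, 2, 0, 2, 4, 3, 4, 3, 3, 2, 2, 3, 2, 0, 4, 3, 4, 3, 4, 0, 0, 2, 0, 2, 0, 2, 2, 0, 2, 0, 2, 3, 4, 0, 4, 4, 0, 0, 2, 0, 2, 0, 0, 2, 0, 2, 0, 2, 4, 3, 4, 3, 3, 2, 2, 3, 2, 0, 4, 3, 4, 3, 4, 0, 0, 2, 0, 2, 0, 2, 4, 3, 4, 3, 3, 2, 2, 3, 2, 0, 4, 3, 4, 3, 4], [0, 0, 2, 0, 2, 0, 2, 4, 3, 4, 3, 3, 2, 2, 3, 2, 0, 4, 3, 4, 3, 4, 0, 0, 2, 0, 2, 0, 2, 2, 0, 2, 0, 2, 3, 4, 0, 4, 4, 0, 0, 2, 0, 2, 0, 0, 2, 0, 2, 0, 2, 4, 3, 4, 3, 3, 2, 2, 3, 2, 0, 4, 3, 4, 3, 4], [0, 0, 2, 0, 2, 0, 2, 4, 3, 4, 3, 3, 2, 2, 3, 2, 0, 4, 3, 4, 3, 4], []]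

def gq (c : ℕ) : List ℕ := gqTab.getD c []

/-- expression of the sixteen elements by the four generators `wAt 6, 7, 8, 9`. -/
def exprTab : List (List ℕ) := [[], [], [], [], [], [], [6], [7], [8], [9], [6, 7, 9], [7, 9], [6, 9], [7, 8, 9], [], [7, 8], [6, 8, 9], [], [6, 7, 8], [6, 7, 8, 9], [6, 8], [8, 9], [6, 7], []]

def exprW (c : ℕ) : List ℕ := ((exprTab.getD c []).map wAt).flatten

theorem gq_check : ∀ c : Fin 24, okTarget 5 c = true → c.val ≠ 4 →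
    evalW (gq c) 23 = 23 ∧ ∀ i : Fin 24, evalW (gq c ++ wAt c) i = evalW (wAt 6 ++ gq c) i := by
  decide +kernel

theorem expr_check : ∀ c : Fin 24, okTarget 5 c = true →
    (∀ q ∈ exprTab.getD c [], q = 6 ∨ q = 7 ∨ q = 8 ∨ q = 9) ∧
      ∀ i : Fin 24, evalW (wAt c) i = evalW (exprW c) i := by
  decide +kernel

theorem c_fix_check : ∀ c : Fin 24, okTarget 5 c = true → evalW cw23 c = c → c.val = 4 := by
  decide +kernel


/-! ### the subgroups, inside the symmetric group -/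

/-- the stabiliser of the base octad in `M23`. -/
abbrev H0 : Subgroup (Equiv.Perm GolayPt) :=
  Spor.M23 ⊓ MulAction.stabilizer (Equiv.Perm GolayPt) bO

/-- the complement: the stabiliser of the octad, the point `4` and the extra point. -/
abbrev A0 : Subgroup (Equiv.Perm GolayPt) :=
  Cfsg.M24 ⊓ MulAction.stabilizer (Equiv.Perm GolayPt) bO ⊓
    MulAction.stabilizer (Equiv.Perm GolayPt) (pt 4) ⊓
    MulAction.stabilizer (Equiv.Perm GolayPt) (none : GolayPt)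

theorem card_H0 : Nat.card ↥H0 = 40320 :=
  Cfsg.Agent.Lib.Helper36.Idx253.card_stab_octad none bO bO_mem none_mem_bO

theorem octFix_le_H0 : octFix bO ≤ H0 := fun g hg =>
  ⟨octFix_le_M23 hg, (Cfsg.Agent.S1554.octFix_le_octStab bO hg).2⟩

theorem A0_le_H0 : A0 ≤ H0 := fun g hg => ⟨⟨hg.1.1.1, hg.2⟩, hg.1.1.2⟩

theorem H0_le_octStab : H0 ≤ octStab bO := fun g hg => ⟨hg.1.1, hg.2⟩

theorem H0_conj {h n : Equiv.Perm GolayPt} (hh : h ∈ H0) (hn : n ∈ octFix bO) :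
    h * n * h⁻¹ ∈ octFix bO := by
  have := conj_mem_octFix hh.1.1 hn
  rwa [mem_stabilizer_iff.mp hh.2] at this

theorem H0_decomp {h : Equiv.Perm GolayPt} (hh : h ∈ H0) :
    ∃ n ∈ octFix bO, ∃ a ∈ A0, h = n * a := by
  obtain ⟨k, hk, a, ha, hka⟩ := Cfsg.Agent.S1554.decompose bO_mem pt4_not_mem_bO (H0_le_octStab hh)
  refine ⟨k, hk, a, ⟨⟨ha.1, ha.2⟩, mem_stabilizer_iff.mpr ?_⟩, hka.symm⟩
  have hk0 : k none = none := ((mem_octFix _ _).mp hk).2 none none_mem_bO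
  have hh0 : h none = none := mem_stabilizer_iff.mp hh.1.2
  have : a = k⁻¹ * h := by rw [← hka]; group
  rw [this]
  show k⁻¹ (h none) = none
  rw [hh0, Equiv.Perm.inv_eq_iff_eq, hk0]

theorem octFix_inter_A0 {x : Equiv.Perm GolayPt} (hx : x ∈ octFix bO) (hxA : x ∈ A0) : x = 1 :=
  octFix_free bO_mem hx pt4_not_mem_bO (mem_stabilizer_iff.mp hxA.1.2)

theorem cw23_mem_A0 : wordPerm cw23 ∈ A0 := by
  refine ⟨⟨⟨wordPerm_mem_M24 _, ?_⟩, ?_⟩, ?_⟩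
  · exact mem_stabilizer_iff.mpr (word_smul_bO (by decide +kernel))
  · exact mem_stabilizer_iff.mpr (wordPerm_pt (by decide) (by decide +kernel))
  · exact mem_stabilizer_iff.mpr
      (wordPerm_pt (w := cw23) (i := 23) (j := 23) (by decide) (by decide +kernel))

theorem cw23_pow : wordPerm cw23 ^ 5 = 1 := by
  have : wordPerm (cw23 ++ cw23 ++ cw23 ++ cw23 ++ cw23) = wordPerm [] := word_eq (by decide +kernel)
  rw [wordPerm_app, wordPerm_app, wordPerm_app, wordPerm_app] at this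
  rw [pow_succ, pow_succ, pow_succ, pow_two]
  exact this

theorem cw23_free {n : Equiv.Perm GolayPt} (hn : n ∈ octFix bO)
    (h : wordPerm cw23 * n * (wordPerm cw23)⁻¹ = n) : n = 1 := by
  obtain ⟨c, hc, -, hnc⟩ := octFix_eq_wAt hn
  have h4 : wordPerm cw23 (pt 4) = pt 4 := wordPerm_pt (by decide) (by decide +kernel)
  have h4' : (wordPerm cw23)⁻¹ (pt 4) = pt 4 := by rw [Equiv.Perm.inv_eq_iff_eq, h4]
  have h1 : wordPerm cw23 (pt c) = pt c := by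
    have := congrArg (fun σ : Equiv.Perm GolayPt => σ (pt 4)) h
    simp only [Equiv.Perm.mul_apply, h4', hnc] at this
    exact this
  have h2 : evalW cw23 c = c := by
    have := evalW_spec cw23 (pt c)
    rw [h1, idx_pt c.2] at this
    exact this.symm
  have h3 := c_fix_check c hc h2
  apply octFix_free bO_mem hn pt4_not_mem_bO
  rw [hnc, h3]

/-- a nontrivial element of the pointwise stabiliser is conjugate to `wAt 6` by an element of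
`M23`. -/
theorem octFix_conj {n : Equiv.Perm GolayPt} (hn : n ∈ octFix bO) (hn1 : n ≠ 1) :
    ∃ g ∈ Spor.M23, g * n * g⁻¹ = wordPerm (wAt 6) := by
  obtain ⟨c, hc, hnw, hnc⟩ := octFix_eq_wAt hn
  have hc4 : c.val ≠ 4 := by
    intro h4
    apply hn1
    apply octFix_free bO_mem hn pt4_not_mem_bO
    rw [hnc, h4]
  obtain ⟨h23, htab⟩ := gq_check c hc hc4
  refine ⟨wordPerm (gq c), wordPerm_mem_M23 _ h23, ?_⟩
  rw [mul_inv_eq_iff_eq_mul, hnw, ← wordPerm_app, ← wordPerm_app]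
  exact word_eq (fun i hi => htab ⟨i, hi⟩)

/-- every involution of `M23` is conjugate in `M23` to `wAt 6`. -/
theorem invol_conj23 {t : Equiv.Perm GolayPt} (ht : t ∈ Spor.M23) (ht2 : t * t = 1) (ht1 : t ≠ 1) :
    ∃ g ∈ Spor.M23, g * t * g⁻¹ = wordPerm (wAt 6) := by
  have ht0 : t none = none := mem_stabilizer_iff.mp ht.2
  have ho : orderOf t = 2 := Cfsg.Agent.Lib.Helper92.orderOf_eq_two_of ⟨ht2, ht1⟩
  obtain ⟨k, hk, hkt⟩ := Cfsg.Agent.Lib.Helper92.invol_conj t ht.1 ho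
  have hfix : (k * t * k⁻¹) (k none) = k none := by
    simp only [Equiv.Perm.mul_apply, perm_inv_apply, ht0]
  rcases hkt with hkt | hkt
  · -- the fixed points of `t` form an octad through `none`
    set o1 : Finset GolayPt := Finset.univ.filter fun p => wordPerm Cfsg.Agent.Lib.Helper92.z1w p = p
      with ho1
    have ho1m : o1 ∈ octads := Cfsg.Agent.Lib.Helper92.z1_fixed_mem_octads
    have hom : k⁻¹ • o1 ∈ octads :=
      Cfsg.Agent.Lib.Helper10.smul_mem_octads (M24.inv_mem hk) ho1m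
    have hnone : (none : GolayPt) ∈ k⁻¹ • o1 := by
      rw [← Finset.inv_smul_mem_iff, inv_inv, ho1, Finset.mem_filter]
      refine ⟨Finset.mem_univ _, ?_⟩
      rw [← hkt]
      exact hfix
    have hfixo : ∀ p ∈ k⁻¹ • o1, t p = p := by
      intro p hp
      rw [← Finset.inv_smul_mem_iff, inv_inv, ho1, Finset.mem_filter] at hp
      have h2 := hp.2
      rw [← hkt] at h2
      simp only [Equiv.Perm.mul_apply, Equiv.Perm.smul_def, perm_inv_apply] at h2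
      exact k.injective h2
    obtain ⟨σ, hσ, hσ0, hσo⟩ := Cfsg.Agent.Lib.Helper36.Idx253.octad_trans none (k⁻¹ • o1) bO hom
      bO_mem hnone none_mem_bO
    have hσM : σ ∈ Spor.M23 := ⟨hσ, mem_stabilizer_iff.mpr hσ0⟩
    have hn : σ * t * σ⁻¹ ∈ octFix bO := by
      rw [mem_octFix]
      refine ⟨M24.mul_mem (M24.mul_mem hσ ht.1) (M24.inv_mem hσ), ?_⟩
      intro y hy
      have hy' : σ⁻¹ y ∈ k⁻¹ • o1 := by
        rw [← hσo] at hy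
        exact Finset.inv_smul_mem_iff.mpr hy
      simp only [Equiv.Perm.mul_apply]
      rw [hfixo _ hy', perm_apply_inv]
    have hn1 : σ * t * σ⁻¹ ≠ 1 := by
      intro h
      apply ht1
      have : t = σ⁻¹ * (σ * t * σ⁻¹) * σ := by group
      rw [this, h]; group
    obtain ⟨g, hg, hgn⟩ := octFix_conj hn hn1
    refine ⟨g * σ, Spor.M23.mul_mem hg hσM, ?_⟩
    rw [← hgn]; group
  · exact absurd (hkt ▸ hfix) (Cfsg.Agent.Lib.Helper92.z2_fixed _)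


/-! ### generation of the pointwise stabiliser -/

/-- the set of the four generators, in the symmetric group. -/
def gens4 : Set (Equiv.Perm GolayPt) :=
  {wordPerm (wAt 6), wordPerm (wAt 7), wordPerm (wAt 8), wordPerm (wAt 9)}

theorem wordPerm_flatten_mem (l : List ℕ) (hl : ∀ q ∈ l, q = 6 ∨ q = 7 ∨ q = 8 ∨ q = 9) :
    wordPerm ((l.map wAt).flatten) ∈ Subgroup.closure gens4 := by
  induction l with
  | nil => exact Subgroup.one_mem _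
  | cons q l ih =>
    rw [List.map_cons, List.flatten_cons, wordPerm_app]
    refine Subgroup.mul_mem _ (Subgroup.subset_closure ?_) (ih fun q' hq' => hl q' (List.mem_cons_of_mem _ hq'))
    unfold gens4
    rcases hl q List.mem_cons_self with rfl | rfl | rfl | rfl <;> simp

theorem octFix_le_closure : octFix bO ≤ Subgroup.closure gens4 := by
  intro x hx
  obtain ⟨c, hc, hxw, -⟩ := octFix_eq_wAt hx
  obtain ⟨hl, htab⟩ := expr_check c hc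
  have : wordPerm (wAt c) = wordPerm (exprW c) := word_eq (fun i hi => htab ⟨i, hi⟩)
  rw [hxw, this]
  exact wordPerm_flatten_mem _ hl

theorem wAt_mem_M23 (c : Fin 24) (hc : okTarget 5 c = true) : wordPerm (wAt c) ∈ Spor.M23 :=
  octFix_le_M23 (wAt_spec c hc).1

theorem wAt_app_ne_one {w : List ℕ} (h : evalW w 4 ≠ 4) : wordPerm w ≠ 1 := by
  intro e
  have h2 : wordPerm w (pt 4) = pt 4 := by rw [e]; rfl
  exact word_apply_ne (by decide) h h2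

/-! ### the package -/

theorem m23_two_package :
    ∃ (H N A : Subgroup ↥Cfsg.Spor.M23) (n₁ n₂ n₃ n₄ c : ↥Cfsg.Spor.M23),
      ¬ 2 ∣ H.index ∧ N ≤ H ∧ A ≤ H ∧
      (∀ h ∈ H, ∀ n ∈ N, h * n * h⁻¹ ∈ N) ∧
      (∀ h ∈ H, ∃ n ∈ N, ∃ a ∈ A, h = n * a) ∧
      (∀ x ∈ N, x ∈ A → x = 1) ∧
      (∀ n ∈ N, n * n = 1) ∧
      Nonempty (↥A ≃* alternatingGroup (Fin 7)) ∧
      n₁ ∈ N ∧ n₂ ∈ N ∧ n₃ ∈ N ∧ n₄ ∈ N ∧ N ≤ Subgroup.closure {n₁, n₂, n₃, n₄} ∧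
      c ∈ A ∧ c ^ 5 = 1 ∧ (∀ n ∈ N, c * n * c⁻¹ = n → n = 1) ∧
      (∀ τ : ↥Cfsg.Spor.M23, τ * τ = 1 → τ = 1 ∨ ∃ g : ↥Cfsg.Spor.M23, g * τ * g⁻¹ = n₁) ∧
      n₂ ≠ 1 ∧ n₃ ≠ 1 ∧ n₁ * n₂ ≠ 1 ∧ n₁ * n₃ ≠ 1 ∧ n₂ * n₃ ≠ 1 ∧ n₁ * (n₂ * n₃) ≠ 1 := by
  have h6 := wAt_spec ⟨6, by decide⟩ (by decide)
  have h7 := wAt_spec ⟨7, by decide⟩ (by decide)
  have h8 := wAt_spec ⟨8, by decide⟩ (by decide)
  have h9 := wAt_spec ⟨9, by decide⟩ (by decide)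
  have hAM : A0 ≤ Spor.M23 := fun g hg => (A0_le_H0 hg).1
  refine ⟨H0.subgroupOf Spor.M23, (octFix bO).subgroupOf Spor.M23, A0.subgroupOf Spor.M23,
    ⟨wordPerm (wAt 6), octFix_le_M23 h6.1⟩, ⟨wordPerm (wAt 7), octFix_le_M23 h7.1⟩,
    ⟨wordPerm (wAt 8), octFix_le_M23 h8.1⟩, ⟨wordPerm (wAt 9), octFix_le_M23 h9.1⟩,
    ⟨wordPerm cw23, hAM cw23_mem_A0⟩, ?_, ?_, ?_, ?_, ?_, ?_, ?_, ?_, h6.1, h7.1, h8.1, h9.1, ?_,
    cw23_mem_A0, ?_, ?_, ?_, ?_, ?_, ?_, ?_, ?_, ?_⟩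
  · -- index
    have h1 := (H0.subgroupOf Spor.M23).card_mul_index
    have h2 : Nat.card ↥(H0.subgroupOf Spor.M23) = 40320 := by
      rw [Nat.card_congr (Subgroup.subgroupOfEquivOfLe (inf_le_left : H0 ≤ Spor.M23)).toEquiv]
      exact card_H0
    rw [h2, card_M23] at h1
    omega
  · intro x hx
    exact Subgroup.mem_subgroupOf.mpr (octFix_le_H0 (Subgroup.mem_subgroupOf.mp hx))
  · intro x hx
    exact Subgroup.mem_subgroupOf.mpr (A0_le_H0 (Subgroup.mem_subgroupOf.mp hx))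
  · intro h hh n hn
    exact Subgroup.mem_subgroupOf.mpr
      (H0_conj (Subgroup.mem_subgroupOf.mp hh) (Subgroup.mem_subgroupOf.mp hn))
  · intro h hh
    obtain ⟨n, hn, a, ha, heq⟩ := H0_decomp (Subgroup.mem_subgroupOf.mp hh)
    exact ⟨⟨n, octFix_le_M23 hn⟩, Subgroup.mem_subgroupOf.mpr hn, ⟨a, hAM ha⟩,
      Subgroup.mem_subgroupOf.mpr ha, Subtype.ext heq⟩
  · intro x hx hxA
    exact Subtype.ext (octFix_inter_A0 (Subgroup.mem_subgroupOf.mp hx) (Subgroup.mem_subgroupOf.mp hxA))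
  · intro n hn
    exact Subtype.ext (sq_fixO (Subgroup.mem_subgroupOf.mp hn))
  · obtain ⟨e⟩ := Cfsg.Agent.Lib.Helper23.SchurTwo.complement_equiv_alt_seven bO bO_mem (pt 4)
      pt4_not_mem_bO none none_mem_bO
    exact ⟨(Subgroup.subgroupOfEquivOfLe hAM).trans e⟩
  · -- generation
    intro x hx
    have hx' : (x : Equiv.Perm GolayPt) ∈ Subgroup.closure gens4 :=
      octFix_le_closure (Subgroup.mem_subgroupOf.mp hx)
    have himg : Spor.M23.subtype '' ({⟨wordPerm (wAt 6), octFix_le_M23 h6.1⟩,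
        ⟨wordPerm (wAt 7), octFix_le_M23 h7.1⟩, ⟨wordPerm (wAt 8), octFix_le_M23 h8.1⟩,
        ⟨wordPerm (wAt 9), octFix_le_M23 h9.1⟩} : Set ↥Spor.M23) = gens4 := by
      unfold gens4
      simp [Set.image_insert_eq]
    rw [← himg, ← MonoidHom.map_closure, Subgroup.mem_map] at hx'
    obtain ⟨y, hy, hyx⟩ := hx'
    have : y = x := Subtype.ext hyx
    rwa [this] at hy
  · exact Subtype.ext cw23_pow
  · intro n hn h
    exact Subtype.ext (cw23_free (Subgroup.mem_subgroupOf.mp hn) (congrArg Subtype.val h))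
  · intro τ hτ
    by_cases hτ1 : τ = 1
    · exact Or.inl hτ1
    · right
      obtain ⟨g, hg, hgt⟩ := invol_conj23 τ.2 (congrArg Subtype.val hτ)
        (fun h => hτ1 (Subtype.ext h))
      exact ⟨⟨g, hg⟩, Subtype.ext hgt⟩
  · intro h
    exact wAt_app_ne_one (w := wAt 7) (by decide +kernel) (congrArg Subtype.val h)
  · intro h
    exact wAt_app_ne_one (w := wAt 8) (by decide +kernel) (congrArg Subtype.val h)
  · intro h
    have h' : wordPerm (wAt 6) * wordPerm (wAt 7) = 1 := congrArg Subtype.val h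
    rw [← wordPerm_app] at h'
    exact wAt_app_ne_one (by decide +kernel) h'
  · intro h
    have h' : wordPerm (wAt 6) * wordPerm (wAt 8) = 1 := congrArg Subtype.val h
    rw [← wordPerm_app] at h'
    exact wAt_app_ne_one (by decide +kernel) h'
  · intro h
    have h' : wordPerm (wAt 7) * wordPerm (wAt 8) = 1 := congrArg Subtype.val h
    rw [← wordPerm_app] at h'
    exact wAt_app_ne_one (by decide +kernel) h'
  · intro h
    have h' : wordPerm (wAt 6) * (wordPerm (wAt 7) * wordPerm (wAt 8)) = 1 := congrArg Subtype.val h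
    rw [← wordPerm_app, ← wordPerm_app] at h'
    exact wAt_app_ne_one (by decide +kernel) h'

end Cfsg.Agent.Lib.Helper10.SchurTwo
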