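import Cfsg.Agent.Lib.Helper10.SchurTwoJ
import Cfsg.Agent.S0360

set_option autoImplicit false

/-! Keystone K-S2038-J: the explicit package for `M24` (octad stabiliser `2^4 : A8` of index 759). -/

namespace Cfsg.Agent.Lib.Helper10.SchurTwo

open Cfsg MulAction Cfsg.Agent.Lib.Helper10
open Cfsg.Agent.Lib.Helper35 (bO octFix octStab mem_octFix conj_mem_octFix octFix_free perm_inv_apply perm_apply_inv)
open Cfsg.Agent.S0381 (fixK mem_fixK wAt eq_word sq_fixO word_spec target_of_mem eq_one_of_fix4)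
open scoped Pointwise

/-! ### orders -/

theorem card_octStab : Nat.card ↥(octStab bO) = 322560 := by
  have h := Cfsg.Agent.Lib.Helper36.Mono.card_eq_orbit_mulG (P := Equiv.Perm GolayPt) M24 bO octads
    (fun σ hσ => Cfsg.Agent.Lib.Helper10.smul_mem_octads hσ bO_mem)
    (fun c hc => by
      obtain ⟨g, hg⟩ := Cfsg.Agent.S0367.result bO c bO_mem hc
      exact ⟨g.1, g.2, hg⟩)
  rw [card_M24, Cfsg.Agent.S0360.result] at h
  have h2 : Nat.card ↥(octStab bO) = Nat.card ↥(M24 ⊓ MulAction.stabilizer (Equiv.Perm GolayPt) bO) := rfl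
  omega

theorem card_alt8 : Nat.card ↥(alternatingGroup (Fin 8)) = 20160 := by
  have h := two_mul_card_alternatingGroup (α := Fin 8)
  rw [Nat.card_eq_fintype_card]
  have h8 : (Fintype.card (Equiv.Perm (Fin 8))) = 40320 := by
    rw [Fintype.card_perm, Fintype.card_fin]; rfl
  omega

theorem card_alt7 : Nat.card ↥(alternatingGroup (Fin 7)) = 2520 := by
  have h := two_mul_card_alternatingGroup (α := Fin 7)
  rw [Nat.card_eq_fintype_card]
  have h7 : (Fintype.card (Equiv.Perm (Fin 7))) = 5040 := by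
    rw [Fintype.card_perm, Fintype.card_fin]; rfl
  omega

/-! ### involutions -/

theorem z1_fix0 : wordPerm Cfsg.Agent.Lib.Helper92.z1w (pt 0) = pt 0 :=
  wordPerm_pt (by decide) (by decide +kernel)

theorem invol_fix_z1 {t : Equiv.Perm GolayPt} (ht : t ∈ M24) (ht2 : t * t = 1) (ht1 : t ≠ 1)
    (p : GolayPt) (hp : t p = p) :
    ∃ k ∈ M24, k * t * k⁻¹ = wordPerm Cfsg.Agent.Lib.Helper92.z1w := by
  have ho : orderOf t = 2 := Cfsg.Agent.Lib.Helper92.orderOf_eq_two_of ⟨ht2, ht1⟩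
  obtain ⟨k, hk, hkt⟩ := Cfsg.Agent.Lib.Helper92.invol_conj t ht ho
  rcases hkt with hkt | hkt
  · exact ⟨k, hk, hkt⟩
  · exfalso
    have hfix : (k * t * k⁻¹) (k p) = k p := by
      simp only [Equiv.Perm.mul_apply, perm_inv_apply, hp]
    exact Cfsg.Agent.Lib.Helper92.z2_fixed _ (hkt ▸ hfix)

theorem invol_free_z2 {t : Equiv.Perm GolayPt} (ht : t ∈ M24) (ht2 : t * t = 1) (ht1 : t ≠ 1)
    (hp : ∀ p, t p ≠ p) :
    ∃ k ∈ M24, k * t * k⁻¹ = wordPerm Cfsg.Agent.Lib.Helper92.z2w := by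
  have ho : orderOf t = 2 := Cfsg.Agent.Lib.Helper92.orderOf_eq_two_of ⟨ht2, ht1⟩
  obtain ⟨k, hk, hkt⟩ := Cfsg.Agent.Lib.Helper92.invol_conj t ht ho
  rcases hkt with hkt | hkt
  · exfalso
    apply hp (k⁻¹ (pt 0))
    have h := z1_fix0
    rw [← hkt] at h
    simp only [Equiv.Perm.mul_apply] at h
    apply k.injective
    rw [h, perm_apply_inv]
  · exact ⟨k, hk, hkt⟩

theorem conj_of_conj {t s z : Equiv.Perm GolayPt} {k k' : Equiv.Perm GolayPt} (hk : k ∈ M24)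
    (hk' : k' ∈ M24) (h1 : k * t * k⁻¹ = z) (h2 : k' * s * k'⁻¹ = z) :
    ∃ g ∈ M24, g * t * g⁻¹ = s := by
  refine ⟨k'⁻¹ * k, M24.mul_mem (M24.inv_mem hk') hk, ?_⟩
  have : s = k'⁻¹ * z * k' := by rw [← h2]; group
  rw [this, ← h1]; group

theorem wAt6_facts : wordPerm (wAt 6) ∈ M24 ∧ wordPerm (wAt 6) * wordPerm (wAt 6) = 1 ∧
    wordPerm (wAt 6) ≠ 1 ∧ wordPerm (wAt 6) (pt 0) = pt 0 := by
  have h6 := wAt_spec ⟨6, by decide⟩ (by decide)
  refine ⟨((mem_octFix _ _).mp h6.1).1, sq_fixO h6.1, wAt_app_ne_one (by decide +kernel),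
    wordPerm_pt (by decide) (by decide +kernel)⟩

/-- an involution of `M24` with a fixed point is conjugate to `wAt 6`. -/
theorem invol_fix_conj {t : Equiv.Perm GolayPt} (ht : t ∈ M24) (ht2 : t * t = 1) (ht1 : t ≠ 1)
    (p : GolayPt) (hp : t p = p) : ∃ g ∈ M24, g * t * g⁻¹ = wordPerm (wAt 6) := by
  obtain ⟨k, hk, h1⟩ := invol_fix_z1 ht ht2 ht1 p hp
  obtain ⟨k', hk', h2⟩ := invol_fix_z1 wAt6_facts.1 wAt6_facts.2.1 wAt6_facts.2.2.1 (pt 0)
    wAt6_facts.2.2.2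
  exact conj_of_conj hk hk' h1 h2

/-- two fixed-point-free involutions of `M24` are conjugate. -/
theorem invol_free_conj {t s : Equiv.Perm GolayPt} (ht : t ∈ M24) (ht2 : t * t = 1) (ht1 : t ≠ 1)
    (hp : ∀ p, t p ≠ p) (hs : s ∈ M24) (hs2 : s * s = 1) (hs1 : s ≠ 1) (hq : ∀ p, s p ≠ p) :
    ∃ g ∈ M24, g * t * g⁻¹ = s := by
  obtain ⟨k, hk, h1⟩ := invol_free_z2 ht ht2 ht1 hp
  obtain ⟨k', hk', h2⟩ := invol_free_z2 hs hs2 hs1 hq
  exact conj_of_conj hk hk' h1 h2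

/-! ### the four-group data -/

def aw24 : List ℕ := [3, 1, 3, 4, 0, 0, 0, 2, 3, 3, 0, 4, 3, 4, 3, 3, 4, 4, 0, 2, 0, 4, 3, 2, 3, 3, 2, 0, 0, 4, 3, 4, 3, 3, 2, 0]
def bw24 : List ℕ := [1, 0, 0, 1, 0, 0, 4, 0, 4, 3, 2, 3, 2, 3, 4, 4, 3, 3, 3, 4, 4, 3, 4, 0, 0, 0, 2, 0, 4, 4, 4, 3, 4, 3, 3, 2, 2, 3, 2, 0, 4, 3, 4, 3, 4]
def dw24 : List ℕ := [2, 1, 3, 3, 1, 2, 2, 0, 3, 2, 2, 0, 0, 4, 4, 3, 2, 2, 3, 4, 0, 0, 0, 0, 2, 2, 3, 4, 3, 3, 3, 2, 3, 2, 0, 3, 4, 4, 3, 4, 3, 3, 3, 4, 3, 3, 2, 3, 3, 2, 0, 2, 0, 2, 3, 4, 0, 4, 4, 0, 0, 2, 0, 2, 1, 0, 0, 1, 0, 0, 4, 0, 4, 3, 2, 3, 2, 3, 4, 4, 3, 3, 3, 4, 4, 3, 4, 0, 0, 0, 2, 0, 4, 4, 4, 3, 4, 3, 3, 2, 2, 3, 2, 0, 4, 3, 4, 3, 4]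

theorem word_invol {w : List ℕ} (h : ∀ i < 24, evalW (w ++ w) i = evalW [] i) :
    wordPerm w * wordPerm w = 1 := by
  rw [← wordPerm_app, ← wordPerm_nil]
  exact word_eq h

theorem word_ne_one {w : List ℕ} {i : ℕ} (hi : i < 24) (h : evalW w i ≠ i) : wordPerm w ≠ 1 := by
  intro e
  have h2 : wordPerm w (pt i) = pt i := by rw [e]; rfl
  exact word_apply_ne hi h h2

/-- a word that is an involution with a fixed point is conjugate to `wAt 6`. -/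
theorem word_conj {w : List ℕ} (h2 : ∀ i < 24, evalW (w ++ w) i = evalW [] i) {i j : ℕ}
    (hi : i < 24) (hne : evalW w i ≠ i) (hj : j < 24) (hfix : evalW w j = j) :
    ∃ g ∈ M24, g * wordPerm w * g⁻¹ = wordPerm (wAt 6) :=
  invol_fix_conj (wordPerm_mem_M24 w) (word_invol h2) (word_ne_one hi hne) (pt j)
    (wordPerm_pt hj hfix)

theorem abd_free : ∀ i : Fin 24, evalW (aw24 ++ (bw24 ++ dw24)) i ≠ i := by decide +kernel


/-! ### the package -/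

/-- the complement `A8`: the stabiliser of the octad and the point `4`. -/
abbrev As : Subgroup (Equiv.Perm GolayPt) :=
  Cfsg.M24 ⊓ MulAction.stabilizer (Equiv.Perm GolayPt) bO ⊓
    MulAction.stabilizer (Equiv.Perm GolayPt) (pt 4)

theorem m24_two_package :
    ∃ (H N A A₇ : Subgroup ↥Cfsg.M24) (n₁ n₂ n₃ n₄ c a b d : ↥Cfsg.M24),
      ¬ 2 ∣ H.index ∧ N ≤ H ∧ A ≤ H ∧
      (∀ h ∈ H, ∀ n ∈ N, h * n * h⁻¹ ∈ N) ∧
      (∀ h ∈ H, ∃ n ∈ N, ∃ a ∈ A, h = n * a) ∧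
      (∀ x ∈ N, x ∈ A → x = 1) ∧
      (∀ n ∈ N, n * n = 1) ∧
      Nonempty (↥A ≃* alternatingGroup (Fin 8)) ∧
      A₇ ≤ A ∧ Nonempty (↥A₇ ≃* alternatingGroup (Fin 7)) ∧ (A₇.subgroupOf A).index = 8 ∧
      n₁ ∈ N ∧ n₂ ∈ N ∧ n₃ ∈ N ∧ n₄ ∈ N ∧ N ≤ Subgroup.closure {n₁, n₂, n₃, n₄} ∧
      c ∈ A₇ ∧ c ^ 5 = 1 ∧ (∀ n ∈ N, c * n * c⁻¹ = n → n = 1) ∧
      (∀ τ : ↥Cfsg.M24, τ * τ = 1 → τ = 1 ∨ (∃ g : ↥Cfsg.M24, g * τ * g⁻¹ = n₁) ∨
        ∃ g : ↥Cfsg.M24, g * τ * g⁻¹ = a * (b * d)) ∧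
      n₂ ≠ 1 ∧ n₃ ≠ 1 ∧ n₁ * n₂ ≠ 1 ∧ n₁ * n₃ ≠ 1 ∧ n₂ * n₃ ≠ 1 ∧ n₁ * (n₂ * n₃) ≠ 1 ∧
      (∀ v ∈ N, v ≠ 1 → ∃ g : ↥Cfsg.M24, g * v * g⁻¹ = n₁) ∧
      (∃ g : ↥Cfsg.M24, g * a * g⁻¹ = n₁) ∧ (∃ g : ↥Cfsg.M24, g * b * g⁻¹ = n₁) ∧
      (∃ g : ↥Cfsg.M24, g * d * g⁻¹ = n₁) ∧ (∃ g : ↥Cfsg.M24, g * (a * b) * g⁻¹ = n₁) ∧
      (∃ g : ↥Cfsg.M24, g * (a * d) * g⁻¹ = n₁) ∧ (∃ g : ↥Cfsg.M24, g * (b * d) * g⁻¹ = n₁) := by
  have h6 := wAt_spec ⟨6, by decide⟩ (by decide)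
  have h7 := wAt_spec ⟨7, by decide⟩ (by decide)
  have h8 := wAt_spec ⟨8, by decide⟩ (by decide)
  have h9 := wAt_spec ⟨9, by decide⟩ (by decide)
  have hNM : octFix bO ≤ M24 := inf_le_left
  have hAM : As ≤ M24 := fun g hg => hg.1.1
  have hA7M : A0 ≤ M24 := fun g hg => hg.1.1.1
  have hA7A : A0 ≤ As := fun g hg => hg.1
  have lift : ∀ {x y : Equiv.Perm GolayPt} (hx : x ∈ M24) (hy : y ∈ M24),
      (∃ g ∈ M24, g * x * g⁻¹ = y) → ∃ g : ↥Cfsg.M24, g * ⟨x, hx⟩ * g⁻¹ = ⟨y, hy⟩ := by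
    rintro x y hx hy ⟨g, hg, h⟩
    exact ⟨⟨g, hg⟩, Subtype.ext h⟩
  have habd2 : wordPerm (aw24 ++ (bw24 ++ dw24)) * wordPerm (aw24 ++ (bw24 ++ dw24)) = 1 :=
    word_invol (by decide +kernel)
  have habd1 : wordPerm (aw24 ++ (bw24 ++ dw24)) ≠ 1 := word_ne_one (i := 0) (by decide) (by decide +kernel)
  have habdf : ∀ p, wordPerm (aw24 ++ (bw24 ++ dw24)) p ≠ p := by
    intro p
    rw [Ne, Cfsg.Agent.Lib.Helper92.wordPerm_fix_iff]
    exact abd_free ⟨idx p, idx_lt p⟩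
  refine ⟨(octStab bO).subgroupOf M24, (octFix bO).subgroupOf M24, As.subgroupOf M24,
    A0.subgroupOf M24,
    ⟨wordPerm (wAt 6), hNM h6.1⟩, ⟨wordPerm (wAt 7), hNM h7.1⟩,
    ⟨wordPerm (wAt 8), hNM h8.1⟩, ⟨wordPerm (wAt 9), hNM h9.1⟩,
    ⟨wordPerm cw23, hA7M cw23_mem_A0⟩,
    ⟨wordPerm aw24, wordPerm_mem_M24 _⟩, ⟨wordPerm bw24, wordPerm_mem_M24 _⟩,
    ⟨wordPerm dw24, wordPerm_mem_M24 _⟩,
    ?_, ?_, ?_, ?_, ?_, ?_, ?_, ?_, ?_, ?_, ?_, h6.1, h7.1, h8.1, h9.1, ?_,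
    cw23_mem_A0, ?_, ?_, ?_, ?_, ?_, ?_, ?_, ?_, ?_, ?_, ?_, ?_, ?_, ?_, ?_, ?_⟩
  · -- index
    have h1 := ((octStab bO).subgroupOf M24).card_mul_index
    have h2 : Nat.card ↥((octStab bO).subgroupOf M24) = 322560 := by
      rw [Nat.card_congr (Subgroup.subgroupOfEquivOfLe (inf_le_left : octStab bO ≤ M24)).toEquiv]
      exact card_octStab
    rw [h2, card_M24] at h1
    omega
  · intro x hx
    exact Subgroup.mem_subgroupOf.mpr
      (Cfsg.Agent.S1554.octFix_le_octStab bO (Subgroup.mem_subgroupOf.mp hx))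
  · intro x hx
    exact Subgroup.mem_subgroupOf.mpr (Subgroup.mem_subgroupOf.mp hx).1
  · intro h hh n hn
    have hh' := Subgroup.mem_subgroupOf.mp hh
    have := conj_mem_octFix hh'.1 (Subgroup.mem_subgroupOf.mp hn)
    rw [mem_stabilizer_iff.mp hh'.2] at this
    exact Subgroup.mem_subgroupOf.mpr this
  · intro h hh
    obtain ⟨k, hk, a, ha, hka⟩ := Cfsg.Agent.S1554.decompose bO_mem pt4_not_mem_bO
      (Subgroup.mem_subgroupOf.mp hh)
    exact ⟨⟨k, hNM hk⟩, Subgroup.mem_subgroupOf.mpr hk, ⟨a, ha.1.1⟩,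
      Subgroup.mem_subgroupOf.mpr ha, Subtype.ext hka.symm⟩
  · intro x hx hxA
    exact Subtype.ext (octFix_free bO_mem (Subgroup.mem_subgroupOf.mp hx) pt4_not_mem_bO
      (mem_stabilizer_iff.mp (Subgroup.mem_subgroupOf.mp hxA).2))
  · intro n hn
    exact Subtype.ext (sq_fixO (Subgroup.mem_subgroupOf.mp hn))
  · obtain ⟨e⟩ := (Cfsg.Agent.S1554.result bO bO_mem (pt 4) pt4_not_mem_bO).2.2
    exact ⟨(Subgroup.subgroupOfEquivOfLe hAM).trans e⟩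
  · intro x hx
    exact Subgroup.mem_subgroupOf.mpr (hA7A (Subgroup.mem_subgroupOf.mp hx))
  · obtain ⟨e⟩ := Cfsg.Agent.Lib.Helper23.SchurTwo.complement_equiv_alt_seven bO bO_mem (pt 4)
      pt4_not_mem_bO none none_mem_bO
    exact ⟨(Subgroup.subgroupOfEquivOfLe hA7M).trans e⟩
  · -- index 8
    obtain ⟨e8⟩ := (Cfsg.Agent.S1554.result bO bO_mem (pt 4) pt4_not_mem_bO).2.2
    obtain ⟨e7⟩ := Cfsg.Agent.Lib.Helper23.SchurTwo.complement_equiv_alt_seven bO bO_mem (pt 4)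
      pt4_not_mem_bO none none_mem_bO
    have c8 : Nat.card ↥(As.subgroupOf M24) = 20160 := by
      rw [Nat.card_congr ((Subgroup.subgroupOfEquivOfLe hAM).trans e8).toEquiv]; exact card_alt8
    have c7 : Nat.card ↥((A0.subgroupOf M24).subgroupOf (As.subgroupOf M24)) = 2520 := by
      have hle : A0.subgroupOf M24 ≤ As.subgroupOf M24 := fun x hx =>
        Subgroup.mem_subgroupOf.mpr (hA7A (Subgroup.mem_subgroupOf.mp hx))
      rw [Nat.card_congr (Subgroup.subgroupOfEquivOfLe hle).toEquiv,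
        Nat.card_congr ((Subgroup.subgroupOfEquivOfLe hA7M).trans e7).toEquiv]
      exact card_alt7
    have h1 := ((A0.subgroupOf M24).subgroupOf (As.subgroupOf M24)).card_mul_index
    rw [c7, c8] at h1
    omega
  · -- generation
    intro x hx
    have hx' : (x : Equiv.Perm GolayPt) ∈ Subgroup.closure gens4 :=
      octFix_le_closure (Subgroup.mem_subgroupOf.mp hx)
    have himg : M24.subtype '' ({⟨wordPerm (wAt 6), hNM h6.1⟩,
        ⟨wordPerm (wAt 7), hNM h7.1⟩, ⟨wordPerm (wAt 8), hNM h8.1⟩,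
        ⟨wordPerm (wAt 9), hNM h9.1⟩} : Set ↥M24) = gens4 := by
      unfold gens4
      simp [Set.image_insert_eq]
    rw [← himg, ← MonoidHom.map_closure, Subgroup.mem_map] at hx'
    obtain ⟨y, hy, hyx⟩ := hx'
    have : y = x := Subtype.ext hyx
    rwa [this] at hy
  · exact Subtype.ext cw23_pow
  · intro n hn h
    exact Subtype.ext (cw23_free (Subgroup.mem_subgroupOf.mp hn) (congrArg Subtype.val h))
  · -- involution classes
    intro τ hτ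
    by_cases hτ1 : τ = 1
    · exact Or.inl hτ1
    · right
      have ht2 : (τ : Equiv.Perm GolayPt) * τ = 1 := congrArg Subtype.val hτ
      have ht1 : (τ : Equiv.Perm GolayPt) ≠ 1 := fun h => hτ1 (Subtype.ext h)
      by_cases hfix : ∃ p, (τ : Equiv.Perm GolayPt) p = p
      · left
        obtain ⟨p, hp⟩ := hfix
        obtain ⟨g, hg, hgt⟩ := invol_fix_conj τ.2 ht2 ht1 p hp
        exact ⟨⟨g, hg⟩, Subtype.ext hgt⟩
      · right
        rw [not_exists] at hfix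
        obtain ⟨g, hg, hgt⟩ := invol_free_conj τ.2 ht2 ht1 hfix (wordPerm_mem_M24 _) habd2 habd1 habdf
        refine ⟨⟨g, hg⟩, Subtype.ext ?_⟩
        rw [wordPerm_app, wordPerm_app] at hgt
        exact hgt
  · intro h
    exact wAt_app_ne_one (w := wAt 7) (by decide +kernel) (congrArg Subtype.val h)
  · intro h
    exact wAt_app_ne_one (w := wAt 8) (by decide +kernel) (congrArg Subtype.val h)
  · intro h
    have h' : wordPerm (wAt 6) * wordPerm (wAt 7) = 1 := congrArg Subtype.val h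
    rw [← wordPerm_app] at h'
    exact wAt_app_ne_one (by decide +kernel) h'
  · intro h
    have h' : wordPerm (wAt 6) * wordPerm (wAt 8) = 1 := congrArg Subtype.val h
    rw [← wordPerm_app] at h'
    exact wAt_app_ne_one (by decide +kernel) h'
  · intro h
    have h' : wordPerm (wAt 7) * wordPerm (wAt 8) = 1 := congrArg Subtype.val h
    rw [← wordPerm_app] at h'
    exact wAt_app_ne_one (by decide +kernel) h'
  · intro h
    have h' : wordPerm (wAt 6) * (wordPerm (wAt 7) * wordPerm (wAt 8)) = 1 := congrArg Subtype.val h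
    rw [← wordPerm_app, ← wordPerm_app] at h'
    exact wAt_app_ne_one (by decide +kernel) h'
  · intro v hv hv1
    obtain ⟨g, hg, hgv⟩ := octFix_conj (Subgroup.mem_subgroupOf.mp hv)
      (fun h => hv1 (Subtype.ext h))
    exact ⟨⟨g, hg.1⟩, Subtype.ext hgv⟩
  · exact lift _ _ (word_conj (w := aw24) (by decide +kernel) (i := 1) (by decide) (by decide +kernel)
      (j := 0) (by decide) (by decide +kernel))
  · exact lift _ _ (word_conj (w := bw24) (by decide +kernel) (i := 2) (by decide) (by decide +kernel)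
      (j := 0) (by decide) (by decide +kernel))
  · exact lift _ _ (word_conj (w := dw24) (by decide +kernel) (i := 0) (by decide) (by decide +kernel)
      (j := 1) (by decide) (by decide +kernel))
  · obtain ⟨g, hg, h⟩ := word_conj (w := aw24 ++ bw24) (by decide +kernel) (i := 1) (by decide)
      (by decide +kernel) (j := 0) (by decide) (by decide +kernel)
    rw [wordPerm_app] at h
    exact ⟨⟨g, hg⟩, Subtype.ext h⟩
  · obtain ⟨g, hg, h⟩ := word_conj (w := aw24 ++ dw24) (by decide +kernel) (i := 0) (by decide)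
      (by decide +kernel) (j := 2) (by decide) (by decide +kernel)
    rw [wordPerm_app] at h
    exact ⟨⟨g, hg⟩, Subtype.ext h⟩
  · obtain ⟨g, hg, h⟩ := word_conj (w := bw24 ++ dw24) (by decide +kernel) (i := 0) (by decide)
      (by decide +kernel) (j := 1) (by decide) (by decide +kernel)
    rw [wordPerm_app] at h
    exact ⟨⟨g, hg⟩, Subtype.ext h⟩

end Cfsg.Agent.Lib.Helper10.SchurTwo
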