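import Cfsg.Agent.Lib.Helper10.CentC
import Cfsg.Agent.Lib.Helper10.PC3

set_option autoImplicit false

/-! Keystone K-S2037-U / K-S2038-U: explicit 3-elements of `M23` and `M24` (words in the
generators of `Helper10.Perm`, certified by index tables). -/

namespace Cfsg.Agent.Lib.Helper10.SchurTwo

open Cfsg Cfsg.Agent.Lib.Helper10

/-- equality of two words from equality of their index tables. -/
theorem word_eq {a b : List ℕ} (h : ∀ i < 24, evalW a i = evalW b i) : wordPerm a = wordPerm b :=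
  (isTab_wordPerm a).eq_of (isTab_wordPerm b) h

theorem wordPerm_nil : wordPerm [] = 1 := rfl

/-- a word moving the index `i` is not a given permutation fixing `pt i`. -/
theorem word_apply_ne {w : List ℕ} {i : ℕ} (hi : i < 24) (h : evalW w i ≠ i) :
    wordPerm w (pt i) ≠ pt i := by
  intro e
  apply h
  have := evalW_spec w (pt i)
  rw [e, idx_pt hi] at this
  exact this.symm

theorem word_apply_eq {w : List ℕ} {i : ℕ} (hi : i < 24) (h : evalW w i = i) :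
    wordPerm w (pt i) = pt i := wordPerm_pt hi h

def xw23 : List ℕ := [3, 4, 4, 3, 3, 3, 4, 3, 2, 0, 0]
def yw23 : List ℕ := [0, 3, 4, 4, 3, 3, 2, 0, 0, 2, 0, 0, 0, 2, 2, 3, 4, 0, 3, 3, 3, 3, 4, 0, 0, 2, 0, 4, 4, 3, 2, 0, 4, 3, 4, 3, 3, 2, 2, 3, 2, 0, 4, 3, 4, 3, 4]
def gw23 : List ℕ := [3, 4, 0, 0, 0, 2, 3, 3, 3, 2, 0, 3, 4, 4, 3, 4, 0, 0, 0, 2, 0, 4, 4]

theorem m23_three_package :
    ∃ x y g : ↥Cfsg.Spor.M23, x ^ 3 = 1 ∧ y ^ 3 = 1 ∧ x * y = y * x ∧ g * x * g⁻¹ = x⁻¹ ∧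
      g * y * g⁻¹ = y ∧ x ≠ 1 ∧ y ≠ 1 ∧ x ∉ Subgroup.zpowers y := by
  have hx3 : wordPerm xw23 * wordPerm xw23 * wordPerm xw23 = 1 := by
    rw [← wordPerm_app, ← wordPerm_app, ← wordPerm_nil]
    exact word_eq (by decide +kernel)
  have hy3 : wordPerm yw23 * wordPerm yw23 * wordPerm yw23 = 1 := by
    rw [← wordPerm_app, ← wordPerm_app, ← wordPerm_nil]
    exact word_eq (by decide +kernel)
  have hxy : wordPerm xw23 * wordPerm yw23 = wordPerm yw23 * wordPerm xw23 := by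
    rw [← wordPerm_app, ← wordPerm_app]
    exact word_eq (by decide +kernel)
  have hxgx : wordPerm xw23 * (wordPerm gw23 * wordPerm xw23) = wordPerm gw23 := by
    rw [← wordPerm_app, ← wordPerm_app]
    exact word_eq (by decide +kernel)
  have hgy : wordPerm gw23 * wordPerm yw23 = wordPerm yw23 * wordPerm gw23 := by
    rw [← wordPerm_app, ← wordPerm_app]
    exact word_eq (by decide +kernel)
  refine ⟨⟨wordPerm xw23, wordPerm_mem_M23 xw23 (by decide +kernel)⟩,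
    ⟨wordPerm yw23, wordPerm_mem_M23 yw23 (by decide +kernel)⟩,
    ⟨wordPerm gw23, wordPerm_mem_M23 gw23 (by decide +kernel)⟩, ?_, ?_, ?_, ?_, ?_, ?_, ?_, ?_⟩
  · apply Subtype.ext
    show wordPerm xw23 ^ 3 = 1
    rw [pow_succ, pow_two]; exact hx3
  · apply Subtype.ext
    show wordPerm yw23 ^ 3 = 1
    rw [pow_succ, pow_two]; exact hy3
  · exact Subtype.ext hxy
  · rw [mul_inv_eq_iff_eq_mul, eq_comm, inv_mul_eq_iff_eq_mul]
    exact Subtype.ext hxgx.symm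
  · rw [mul_inv_eq_iff_eq_mul]
    exact Subtype.ext hgy
  · intro h
    have h1 : wordPerm xw23 = 1 := congrArg Subtype.val h
    have h2 : wordPerm xw23 (pt 3) = pt 3 := by rw [h1]; rfl
    exact word_apply_ne (by decide) (by decide +kernel) h2
  · intro h
    have h1 : wordPerm yw23 = 1 := congrArg Subtype.val h
    have h2 : wordPerm yw23 (pt 0) = pt 0 := by rw [h1]; rfl
    exact word_apply_ne (by decide) (by decide +kernel) h2
  · intro h
    obtain ⟨k, hk⟩ := Subgroup.mem_zpowers_iff.mp h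
    have h1 : wordPerm yw23 ^ k = wordPerm xw23 := by
      have := congrArg Subtype.val hk
      simpa using this
    have hfix : wordPerm yw23 (pt 11) = pt 11 := word_apply_eq (by decide) (by decide +kernel)
    have h2 : (wordPerm yw23 ^ k) (pt 11) = pt 11 :=
      Equiv.Perm.zpow_apply_eq_self_of_apply_eq_self hfix k
    rw [h1] at h2
    exact word_apply_ne (by decide) (by decide +kernel) h2


/-! ### a nonabelian subgroup generated by two elements of order 3 with central commutator -/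


theorem isPGroup_zpowers_of_pow_three {G : Type*} [Group G] (t : G) (ht3 : t ^ 3 = 1) :
    IsPGroup 3 (Subgroup.zpowers t) := by
  intro g
  refine ⟨1, ?_⟩
  obtain ⟨g, hg⟩ := g
  obtain ⟨k, rfl⟩ := Subgroup.mem_zpowers_iff.mp hg
  apply Subtype.ext
  show (t ^ k) ^ (3 ^ 1) = 1
  rw [pow_one, ← zpow_natCast, ← zpow_mul, mul_comm, zpow_mul, zpow_natCast, ht3, one_zpow]

theorem isPGroup_closure_pair {G : Type*} [Group G] [Finite G] (x y t : G)
    (hx3 : x ^ 3 = 1) (hy3 : y ^ 3 = 1) (ht3 : t ^ 3 = 1) (hxt : x * t = t * x) (hyt : y * t = t * y)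
    (hxy : x * y = t * y * x) : IsPGroup 3 (Subgroup.closure {x, y}) := by
  have hZ := isPGroup_zpowers_of_pow_three t ht3
  have hY := isPGroup_zpowers_of_pow_three y hy3
  have hX := isPGroup_zpowers_of_pow_three x hx3
  have hYZ : Subgroup.zpowers y ≤ Subgroup.normalizer ((Subgroup.zpowers t : Subgroup G) : Set G) := by
    rw [Subgroup.zpowers_le]
    apply Subgroup.mem_normalizer_fintype
    intro n hn
    obtain ⟨k, rfl⟩ := Subgroup.mem_zpowers_iff.mp hn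
    have hc : Commute y (t ^ k) := Commute.zpow_right hyt k
    rw [hc.eq, mul_inv_cancel_right]
    exact Subgroup.zpow_mem_zpowers t k
  have hA : IsPGroup 3 (Subgroup.zpowers y ⊔ Subgroup.zpowers t : Subgroup G) :=
    hY.to_sup_of_normal_right' hZ hYZ
  have hyA : y ∈ (Subgroup.zpowers y ⊔ Subgroup.zpowers t : Subgroup G) :=
    (le_sup_left : Subgroup.zpowers y ≤ _) (Subgroup.mem_zpowers y)
  have htA : t ∈ (Subgroup.zpowers y ⊔ Subgroup.zpowers t : Subgroup G) :=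
    (le_sup_right : Subgroup.zpowers t ≤ _) (Subgroup.mem_zpowers t)
  have hXA : Subgroup.zpowers x ≤ Subgroup.normalizer ((Subgroup.zpowers y ⊔ Subgroup.zpowers t : Subgroup G) : Set G) := by
    rw [Subgroup.zpowers_le]
    apply Subgroup.mem_normalizer_fintype
    have hle : (Subgroup.zpowers y ⊔ Subgroup.zpowers t : Subgroup G) ≤
        (Subgroup.zpowers y ⊔ Subgroup.zpowers t : Subgroup G).comap (MulAut.conj x).toMonoidHom := by
      apply sup_le
      · rw [Subgroup.zpowers_le]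
        rw [Subgroup.mem_comap]
        show x * y * x⁻¹ ∈ (Subgroup.zpowers y ⊔ Subgroup.zpowers t : Subgroup G)
        rw [hxy, mul_inv_cancel_right]
        exact Subgroup.mul_mem _ htA hyA
      · rw [Subgroup.zpowers_le]
        rw [Subgroup.mem_comap]
        show x * t * x⁻¹ ∈ (Subgroup.zpowers y ⊔ Subgroup.zpowers t : Subgroup G)
        rw [hxt, mul_inv_cancel_right]
        exact htA
    intro n hn
    exact hle hn
  have hP : IsPGroup 3 (Subgroup.zpowers x ⊔ (Subgroup.zpowers y ⊔ Subgroup.zpowers t) : Subgroup G) :=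
    hX.to_sup_of_normal_right' hA hXA
  apply hP.to_le
  rw [Subgroup.closure_le]
  rintro g (rfl | rfl)
  · exact (le_sup_left : Subgroup.zpowers g ≤ _) (Subgroup.mem_zpowers g)
  · exact (le_sup_right : (Subgroup.zpowers g ⊔ Subgroup.zpowers t : Subgroup G) ≤ _) hyA

theorem twentyseven_dvd_card_closure {G : Type*} [Group G] [Finite G] (x y t : G)
    (hx3 : x ^ 3 = 1) (hy3 : y ^ 3 = 1) (ht3 : t ^ 3 = 1) (hxt : x * t = t * x) (hyt : y * t = t * y)
    (hxy : x * y = t * y * x) (ht1 : t ≠ 1) : 27 ∣ Nat.card (Subgroup.closure {x, y}) := by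
  have hP := isPGroup_closure_pair x y t hx3 hy3 ht3 hxt hyt hxy
  obtain ⟨n, hn⟩ := IsPGroup.iff_card.mp hP
  have hxP : x ∈ Subgroup.closure {x, y} := Subgroup.subset_closure (by simp)
  have hyP : y ∈ Subgroup.closure {x, y} := Subgroup.subset_closure (by simp)
  have hnc : ¬ (∀ a b : ↥(Subgroup.closure {x, y}), a * b = b * a) := by
    intro h
    have h1 := congrArg Subtype.val (h ⟨x, hxP⟩ ⟨y, hyP⟩)
    have h2 : x * y = y * x := h1
    rw [hxy, mul_assoc] at h2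
    exact ht1 (by simpa using h2)
  have h3 : 3 ≤ n := by
    by_contra hlt
    rw [not_le] at hlt
    apply hnc
    have : Fact (Nat.Prime 3) := ⟨Nat.prime_three⟩
    interval_cases n
    · intro a b
      have : Subsingleton ↥(Subgroup.closure {x, y}) := by
        rw [← Finite.card_le_one_iff_subsingleton, hn]; norm_num
      rw [Subsingleton.elim a b]
    · have hc : IsCyclic ↥(Subgroup.closure {x, y}) := isCyclic_of_prime_card (p := 3) (by rw [hn]; norm_num)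
      intro a b
      exact hc.isMulCommutative.is_comm.comm a b
    · exact (IsPGroup.isMulCommutative_of_card_eq_prime_sq (p := 3) hn).is_comm.comm
  rw [hn]
  exact (by norm_num : 27 = 3 ^ 3) ▸ pow_dvd_pow 3 h3

theorem not_three_dvd_index_closure {G : Type*} [Group G] [Finite G] (x y t : G)
    (hx3 : x ^ 3 = 1) (hy3 : y ^ 3 = 1) (ht3 : t ^ 3 = 1) (hxt : x * t = t * x) (hyt : y * t = t * y)
    (hxy : x * y = t * y * x) (ht1 : t ≠ 1) (m : ℕ) (hcard : Nat.card G = 27 * m) (hm : ¬ 3 ∣ m) :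
    ¬ 3 ∣ (Subgroup.closure {x, y}).index := by
  obtain ⟨k, hk⟩ := twentyseven_dvd_card_closure x y t hx3 hy3 ht3 hxt hyt hxy ht1
  have h := (Subgroup.closure {x, y}).card_mul_index
  rw [hk, hcard, mul_assoc] at h
  have h2 : k * (Subgroup.closure {x, y}).index = m := Nat.eq_of_mul_eq_mul_left (by norm_num) h
  intro h3
  exact hm (h2 ▸ Dvd.dvd.mul_left h3 k)


/-! ### the package for `M24` -/

theorem conj_eq_of {G : Type*} [Group G] (g y r : G) (h : y * (g * y) = r * g) :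
    g * y * g⁻¹ = y⁻¹ * r := by
  rw [mul_inv_eq_iff_eq_mul, eq_comm, mul_assoc, inv_mul_eq_iff_eq_mul]
  exact h.symm

/-- the element of `M24` given by a word. -/
noncomputable def mk24 (w : List ℕ) : ↥Cfsg.M24 := ⟨wordPerm w, wordPerm_mem_M24 w⟩

theorem mk24_app (a b : List ℕ) : mk24 (a ++ b) = mk24 a * mk24 b :=
  Subtype.ext (wordPerm_app a b)

theorem mk24_nil : mk24 [] = 1 := rfl

theorem mk24_eq {a b : List ℕ} (h : ∀ i < 24, evalW a i = evalW b i) : mk24 a = mk24 b :=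
  Subtype.ext (word_eq h)

theorem mk24_ne_one {w : List ℕ} {i : ℕ} (hi : i < 24) (h : evalW w i ≠ i) : mk24 w ≠ 1 := by
  intro e
  have h1 : wordPerm w = 1 := congrArg Subtype.val e
  have h2 : wordPerm w (pt i) = pt i := by rw [h1]; rfl
  exact word_apply_ne hi h h2

def xw24 : List ℕ := [1, 3, 3, 3, 2, 0, 1, 2, 3, 2, 3, 2, 2, 3, 2, 1, 3, 4, 4]
def yw24 : List ℕ := [1, 2, 0, 2, 2, 3, 2, 3, 4, 1, 3, 4, 3, 2, 0, 1, 4, 4, 1, 2, 0, 2, 2, 3, 2, 3, 4, 1, 3, 4, 3, 2, 0, 1, 4, 4, 2, 1, 2, 1, 4, 4, 0, 2, 2, 2, 1, 3, 4, 0, 2, 0, 1, 2, 0, 4, 0, 4, 4, 3, 4, 1, 2, 2, 1, 3, 4, 0, 2, 0, 1, 2, 0, 4, 0, 4, 4, 3, 4, 1, 2, 1, 2, 1, 4, 4, 0, 2]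
def gw24 : List ℕ := [2, 1, 2, 1, 4, 4, 0, 2]
def xiw24 : List ℕ := [2, 2, 0, 1, 4, 0, 4, 4, 0, 4, 0, 4, 1, 3, 4, 0, 0, 0, 1]
def yiw24 : List ℕ := [4, 3, 2, 2, 1, 4, 1, 4, 1, 2, 0, 2, 2, 3, 2, 3, 4, 1, 3, 4, 3, 2, 0, 1, 4, 4, 1, 2, 0, 2, 2, 3, 2, 3, 4, 1, 3, 4, 3, 2, 0, 1, 4, 4, 4, 3, 2, 2, 1, 4, 1, 4, 2, 2, 1, 3, 4, 0, 2, 0, 1, 2, 0, 4, 0, 4, 4, 3, 4, 1, 2, 2, 1, 3, 4, 0, 2, 0, 1, 2, 0, 4, 0, 4, 4, 3, 4, 1]
def tw24 : List ℕ := xw24 ++ yw24 ++ xiw24 ++ yiw24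

theorem card_M24_eq : Nat.card ↥Cfsg.M24 = 27 * 9067520 := by
  rw [card_M24]

theorem m24_three_package :
    ∃ x y g : ↥Cfsg.M24, x ^ 3 = 1 ∧ y ^ 3 = 1 ∧ x * y * x⁻¹ * y⁻¹ ≠ 1 ∧
      (x * y * x⁻¹ * y⁻¹) * x = x * (x * y * x⁻¹ * y⁻¹) ∧
      (x * y * x⁻¹ * y⁻¹) * y = y * (x * y * x⁻¹ * y⁻¹) ∧
      g * (x * y * x⁻¹ * y⁻¹) = (x * y * x⁻¹ * y⁻¹) * g ∧
      (∃ i : ℕ, g * x * g⁻¹ = x⁻¹ * (x * y * x⁻¹ * y⁻¹) ^ i) ∧
      (∃ j : ℕ, g * y * g⁻¹ = y⁻¹ * (x * y * x⁻¹ * y⁻¹) ^ j) ∧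
      ¬ 3 ∣ (Subgroup.closure {x, y}).index := by
  have hx3 : mk24 xw24 ^ 3 = 1 := by
    rw [pow_succ, pow_two, ← mk24_app, ← mk24_app, ← mk24_nil]
    exact mk24_eq (by decide +kernel)
  have hy3 : mk24 yw24 ^ 3 = 1 := by
    rw [pow_succ, pow_two, ← mk24_app, ← mk24_app, ← mk24_nil]
    exact mk24_eq (by decide +kernel)
  have hxi : mk24 xiw24 = (mk24 xw24)⁻¹ := by
    apply eq_inv_of_mul_eq_one_right
    rw [← mk24_app, ← mk24_nil]
    exact mk24_eq (by decide +kernel)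
  have hyi : mk24 yiw24 = (mk24 yw24)⁻¹ := by
    apply eq_inv_of_mul_eq_one_right
    rw [← mk24_app, ← mk24_nil]
    exact mk24_eq (by decide +kernel)
  have ht : mk24 xw24 * mk24 yw24 * (mk24 xw24)⁻¹ * (mk24 yw24)⁻¹ = mk24 tw24 := by
    rw [← hxi, ← hyi, ← mk24_app, ← mk24_app, ← mk24_app]
    rfl
  have ht3 : mk24 tw24 ^ 3 = 1 := by
    rw [pow_succ, pow_two, ← mk24_app, ← mk24_app, ← mk24_nil]
    exact mk24_eq (by decide +kernel)
  have ht1 : mk24 tw24 ≠ 1 := mk24_ne_one (i := 0) (by decide) (by decide +kernel)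
  have htx : mk24 tw24 * mk24 xw24 = mk24 xw24 * mk24 tw24 := by
    rw [← mk24_app, ← mk24_app]
    exact mk24_eq (by decide +kernel)
  have hty : mk24 tw24 * mk24 yw24 = mk24 yw24 * mk24 tw24 := by
    rw [← mk24_app, ← mk24_app]
    exact mk24_eq (by decide +kernel)
  have hgt : mk24 gw24 * mk24 tw24 = mk24 tw24 * mk24 gw24 := by
    rw [← mk24_app, ← mk24_app]
    exact mk24_eq (by decide +kernel)
  have hxgx : mk24 xw24 * (mk24 gw24 * mk24 xw24) = mk24 gw24 := by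
    rw [← mk24_app, ← mk24_app]
    exact mk24_eq (by decide +kernel)
  have hygy : mk24 yw24 * (mk24 gw24 * mk24 yw24) = mk24 tw24 * (mk24 tw24 * mk24 gw24) := by
    rw [← mk24_app, ← mk24_app, ← mk24_app, ← mk24_app]
    exact mk24_eq (by decide +kernel)
  refine ⟨mk24 xw24, mk24 yw24, mk24 gw24, hx3, hy3, ?_, ?_, ?_, ?_, ⟨0, ?_⟩, ⟨2, ?_⟩, ?_⟩
  · rw [ht]; exact ht1
  · rw [ht]; exact htx
  · rw [ht]; exact hty
  · rw [ht]; exact hgt
  · rw [pow_zero]
    exact conj_eq_of _ _ _ (by rw [one_mul]; exact hxgx)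
  · rw [ht, pow_two]
    exact conj_eq_of _ _ _ (by rw [mul_assoc]; exact hygy)
  · refine not_three_dvd_index_closure (mk24 xw24) (mk24 yw24) (mk24 tw24) hx3 hy3 ht3 htx.symm hty.symm ?_
      ht1 9067520 card_M24_eq (by norm_num)
    rw [← ht]
    group

end Cfsg.Agent.Lib.Helper10.SchurTwo
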