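/-
S5665 pack (architect helper44), keystone 566512 K-SpU2-E2 `XS_KI_all`:
one non-zero centre in `XS M` gives all hermitian-isotropic vectors.
-/
import Cfsg.Agent.Lib.Helper44.SpUTools
import Cfsg.Agent.Lib.Helper43.AutOm5

set_option autoImplicit false
set_option linter.unusedSimpArgs false
set_option linter.unusedVariables false
set_option linter.unusedSectionVars false

namespace Cfsg.Agent.Lib.Helper10.SpU

open Matrix Cfsg.Agent.Lib.Helper18 Cfsg.Agent.Lib.Helper11.SpMax Cfsg.Agent.Lib.Helper44.SpU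
open Cfsg.Agent.Lib.Helper43.UF

variable {F : Type*} [Field F] [Fintype F] {m : ℕ}

local notation "V" => (Fin m ⊕ Fin m → F)
local notation "ff" => Cfsg.sympForm m F
local notation "GLm" => Matrix.GeneralLinearGroup (Fin m ⊕ Fin m) F
local notation "Mat" => Matrix (Fin m ⊕ Fin m) (Fin m ⊕ Fin m) F

/-- `δ w ∉ span {w, u, δ w - δ u}` when `u ∉ F[δ] w` -/
theorem δ_notMem_span (U : SData m F) (w u : V) (hw : w ≠ 0) (huw : u ∉ KL (NU U) w) :
    U.δ *ᵥ w ∉ Submodule.span F ({w, u, U.δ *ᵥ w - U.δ *ᵥ u} : Set V) := by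
  intro hmem
  obtain ⟨α, β, γ, h⟩ := Submodule.mem_span_triple.mp hmem
  by_cases hβγ : β = 0 ∧ γ = 0
  · obtain ⟨hβ, hγ⟩ := hβγ
    subst hβ; subst hγ
    rw [zero_smul, zero_smul, add_zero, add_zero] at h
    have h1 : α • w + (-1 : F) • (NU U).J w = 0 := by
      rw [NU_J, ← h]; module
    have := ((NU U).J_indep w hw α (-1) h1).2
    exact absurd this (by norm_num)
  · apply huw
    have hD : β ^ 2 - U.d * γ ^ 2 ≠ 0 := by
      intro h0
      apply hβγ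
      have := (NU U).irr β γ (by
        show β ^ 2 - 0 * β * γ + -U.d * γ ^ 2 = 0
        linear_combination h0)
      exact this
    -- `β u - γ δ u = (1 - γ) δ w - α w`
    have e1 : β • u - γ • (U.δ *ᵥ u) = (1 - γ) • (U.δ *ᵥ w) - α • w := by
      have : α • w + β • u + γ • (U.δ *ᵥ w - U.δ *ᵥ u) - U.δ *ᵥ w = 0 := sub_eq_zero.mpr h
      rw [← sub_eq_zero]
      rw [← this]; module
    -- apply `δ`
    have e2 : β • (U.δ *ᵥ u) - (γ * U.d) • u = ((1 - γ) * U.d) • w - α • (U.δ *ᵥ w) := by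
      have := congrArg (fun z => U.δ *ᵥ z) e1
      simp only [Matrix.mulVec_sub, Matrix.mulVec_smul, U.sq_apply, smul_smul] at this
      exact this
    rw [mem_KL_iff]
    refine ⟨(β ^ 2 - U.d * γ ^ 2)⁻¹ * (γ * ((1 - γ) * U.d) - β * α),
      (β ^ 2 - U.d * γ ^ 2)⁻¹ * (β * (1 - γ) - γ * α), ?_⟩
    rw [NU_J]
    have e3 : (β ^ 2 - U.d * γ ^ 2) • u =
        (γ * ((1 - γ) * U.d) - β * α) • w + (β * (1 - γ) - γ * α) • (U.δ *ᵥ w) := by
      have h3 : (β ^ 2 - U.d * γ ^ 2) • u =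
          β • (β • u - γ • (U.δ *ᵥ u)) + γ • (β • (U.δ *ᵥ u) - (γ * U.d) • u) := by module
      rw [h3, e1, e2]; module
    calc u = (β ^ 2 - U.d * γ ^ 2)⁻¹ • ((β ^ 2 - U.d * γ ^ 2) • u) := by
          rw [smul_smul, inv_mul_cancel₀ hD, one_smul]
      _ = _ := by rw [e3, smul_add, smul_smul, smul_smul]

/-- CASE 1 of E2: `u ∉ F[δ] w` -/
theorem XS_of_notMem (U : SData m F) (hm : 7 ≤ m) (M : Subgroup GLm)
    (hstep : ∀ w u : V, w ∈ XS m M → KI U u → ff w (U.δ *ᵥ u) = 0 → ff w u ≠ 0 → u ∈ XS m M)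
    (w : V) (hw : w ≠ 0) (hwX : w ∈ XS m M) (u : V) (hu : KI U u)
    (huw : u ∉ KL (NU U) w) : u ∈ XS m M := by
  classical
  have ha := δ_notMem_span U w u hw huw
  have hS : ((({w, u, U.δ *ᵥ w - U.δ *ᵥ u} : Finset V) : Set V)) =
      ({w, u, U.δ *ᵥ w - U.δ *ᵥ u} : Set V) := by
    rw [Finset.coe_insert, Finset.coe_insert, Finset.coe_singleton]
  rw [← hS] at ha
  have hcard : 2 * ({w, u, U.δ *ᵥ w - U.δ *ᵥ u} : Finset V).card + 3 ≤ 2 * m := by
    have := Finset.card_le_three (a := w) (b := u) (c := U.δ *ᵥ w - U.δ *ᵥ u)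
    omega
  obtain ⟨u₁, hu₁, hS₁, h1⟩ := exists_KI U hm _ hcard (U.δ *ᵥ w) ha
  have h_w : ff w (U.δ *ᵥ u₁) = 0 := hS₁ w (by simp)
  have h_u : ff u (U.δ *ᵥ u₁) = 0 := hS₁ u (by simp)
  have h_d : ff (U.δ *ᵥ w - U.δ *ᵥ u) (U.δ *ᵥ u₁) = 0 := hS₁ _ (by simp)
  rw [sf_sub_left, h1] at h_d
  have h2 : ff (U.δ *ᵥ u) (U.δ *ᵥ u₁) = 1 := (sub_eq_zero.mp h_d).symm
  rw [U.ff_δδ] at h1 h2
  have hwu₁ : ff w u₁ ≠ 0 := by
    intro h0
    rw [h0, mul_zero, neg_zero] at h1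
    exact zero_ne_one h1
  have huu₁ : ff u u₁ ≠ 0 := by
    intro h0
    rw [h0, mul_zero, neg_zero] at h2
    exact zero_ne_one h2
  have hu₁X : u₁ ∈ XS m M := hstep w u₁ hwX hu₁ h_w hwu₁
  refine hstep u₁ u hu₁X hu ?_ ?_
  · rw [U.ff_δ_symm u₁ u]; exact h_u
  · rw [sf_swap m u₁ u]
    exact neg_ne_zero.mpr huu₁

/-- **566512 K-SpU2-E2** -/
theorem XS_KI_all (U : SData m F) (hm : 7 ≤ m) (M : Subgroup GLm) (hM : M ≤ Cfsg.spGL m F)
    (hstep : ∀ w u : V, w ∈ XS m M → KI U u → ff w (U.δ *ᵥ u) = 0 → ff w u ≠ 0 → u ∈ XS m M)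
    (b : V) (hb : b ≠ 0) (hbX : b ∈ XS m M) : ∀ u : V, KI U u → u ∈ XS m M := by
  classical
  intro u hu
  by_cases hu0 : u = 0
  · rw [hu0]; exact XS_zero m M
  by_cases huL : u ∈ KL (NU U) b
  · have hn : 7 ≤ Fintype.card (Fin m ⊕ Fin m) := by rw [card_idx]; omega
    have hbound : Module.finrank F (KL (NU U) b) + (∅ : Finset V).card + 3 ≤
        Fintype.card (Fin m ⊕ Fin m) := by
      have := finrank_KL_le (NU U) b
      rw [card_idx, Finset.card_empty]; omega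
    obtain ⟨s, hsL, hsQ, -⟩ := Cfsg.Agent.Lib.Helper43.AutOm.exists_singular_orth_finset (Nf U)
      (Nf_nondeg U) hn ∅ (KL (NU U) b) hbound
    have hsX : s ∈ XS m M := XS_of_notMem U hm M hstep b hb hbX s hsQ hsL
    have hs0 : s ≠ 0 := by
      rintro rfl
      exact hsL (Submodule.zero_mem _)
    have hus : u ∉ KL (NU U) s := by
      intro h
      exact hsL (KL_le_of_mem (NU U) b u huL (mem_KL_symm (NU U) s u h hu0))
    exact XS_of_notMem U hm M hstep s hs0 hsX u hu hus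
  · exact XS_of_notMem U hm M hstep b hb hbX u hu huL

end Cfsg.Agent.Lib.Helper10.SpU
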