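import Mathlib
import Cfsg.Agent.Lib.Helper49.StSUDefs

/-!
# K-StSU pack (S2546): the central `3 × 3` block of `SU_n`, `n` odd (helper10)

`emb A` is the `n × n` matrix with central block `A` (rows/columns `n/2 - 1, n/2, n/2 + 1`) and the identity
elsewhere.  It is multiplicative, preserves determinants, and preserves `hJ n` iff `A` preserves `hJ 3`.
-/

set_option autoImplicit false
set_option linter.unusedSectionVars false
set_option linter.unusedVariables false

namespace Cfsg.Agent.Lib.Helper10.StSU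

open Cfsg Matrix Cfsg.Agent.Lib.Helper49.StSU

variable {n : ℕ} {F : Type*} [Field F] {q : ℕ}

/-- the central block of indices -/
def inB (n : ℕ) (x : Fin n) : Prop := n / 2 - 1 ≤ x.val ∧ x.val ≤ n / 2 + 1

instance instDecInB (n : ℕ) : DecidablePred (inB n) := fun x => by unfold inB; infer_instance

/-- the three central indices -/
def iota (hn : 2 ≤ n) (ho : n % 2 = 1) (j : Fin 3) : Fin n :=
  ⟨n / 2 - 1 + j.val, by have := j.2; omega⟩

theorem inB_iota (hn : 2 ≤ n) (ho : n % 2 = 1) (j : Fin 3) : inB n (iota hn ho j) := by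
  unfold inB iota
  have := j.2
  constructor <;> simp <;> omega

/-- `Fin 3 ≃` the central block -/
def e0 (hn : 2 ≤ n) (ho : n % 2 = 1) : Fin 3 ≃ {x : Fin n // inB n x} where
  toFun j := ⟨iota hn ho j, inB_iota hn ho j⟩
  invFun x := ⟨x.1.val - (n / 2 - 1), by have := x.2.1; have := x.2.2; omega⟩
  left_inv j := by
    apply Fin.ext
    simp [iota]
  right_inv x := by
    apply Subtype.ext
    apply Fin.ext
    have := x.2.1
    simp only [iota]
    omega

/-- `Fin 3 ⊕ rest ≃ Fin n` -/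
def eB (hn : 2 ≤ n) (ho : n % 2 = 1) : Fin 3 ⊕ {x : Fin n // ¬ inB n x} ≃ Fin n :=
  (Equiv.sumCongr (e0 hn ho) (Equiv.refl _)).trans (Equiv.sumCompl (inB n))

@[simp] theorem eB_inl (hn : 2 ≤ n) (ho : n % 2 = 1) (j : Fin 3) :
    eB hn ho (Sum.inl j) = iota hn ho j := rfl

@[simp] theorem eB_inr (hn : 2 ≤ n) (ho : n % 2 = 1) (r : {x : Fin n // ¬ inB n x}) :
    eB hn ho (Sum.inr r) = r.1 := rfl

/-- the block embedding -/
def emb (hn : 2 ≤ n) (ho : n % 2 = 1) (A : Matrix (Fin 3) (Fin 3) F) : Matrix (Fin n) (Fin n) F :=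
  (Matrix.fromBlocks A 0 0 1).submatrix (eB hn ho).symm (eB hn ho).symm

theorem emb_mul (hn : 2 ≤ n) (ho : n % 2 = 1) (A B : Matrix (Fin 3) (Fin 3) F) :
    emb hn ho (A * B) = emb hn ho A * emb hn ho B := by
  unfold emb
  rw [Matrix.submatrix_mul_equiv, Matrix.fromBlocks_multiply]
  simp

theorem emb_one (hn : 2 ≤ n) (ho : n % 2 = 1) :
    emb hn ho (1 : Matrix (Fin 3) (Fin 3) F) = 1 := by
  unfold emb
  rw [Matrix.fromBlocks_one, Matrix.submatrix_one_equiv]

theorem det_emb (hn : 2 ≤ n) (ho : n % 2 = 1) (A : Matrix (Fin 3) (Fin 3) F) :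
    (emb hn ho A).det = A.det := by
  unfold emb
  rw [Matrix.det_submatrix_equiv_self, Matrix.det_fromBlocks_zero₂₁, Matrix.det_one, mul_one]

theorem emb_iota_iota (hn : 2 ≤ n) (ho : n % 2 = 1) (A : Matrix (Fin 3) (Fin 3) F) (j l : Fin 3) :
    emb hn ho A (iota hn ho j) (iota hn ho l) = A j l := by
  unfold emb
  rw [Matrix.submatrix_apply, ← eB_inl hn ho j, ← eB_inl hn ho l, Equiv.symm_apply_apply,
    Equiv.symm_apply_apply, Matrix.fromBlocks_apply₁₁]

theorem exists_iota_of_inB (hn : 2 ≤ n) (ho : n % 2 = 1) {x : Fin n} (hx : inB n x) :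
    ∃ j : Fin 3, x = iota hn ho j :=
  ⟨(e0 hn ho).symm ⟨x, hx⟩, by
    have := (e0 hn ho).apply_symm_apply ⟨x, hx⟩
    exact (congrArg Subtype.val this).symm⟩

theorem emb_of_not (hn : 2 ≤ n) (ho : n % 2 = 1) (A : Matrix (Fin 3) (Fin 3) F) (x y : Fin n)
    (h : ¬ (inB n x ∧ inB n y)) : emb hn ho A x y = (1 : Matrix (Fin n) (Fin n) F) x y := by
  unfold emb
  rw [Matrix.submatrix_apply]
  obtain ⟨x', rfl⟩ := (eB hn ho).surjective x
  obtain ⟨y', rfl⟩ := (eB hn ho).surjective y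
  rw [Equiv.symm_apply_apply, Equiv.symm_apply_apply]
  rcases x' with j | r <;> rcases y' with l | s
  · exact absurd ⟨inB_iota hn ho j, inB_iota hn ho l⟩ h
  · rw [Matrix.fromBlocks_apply₁₂, Matrix.zero_apply, Matrix.one_apply, if_neg]
    intro e
    rw [eB_inl, eB_inr] at e
    exact s.2 (e ▸ inB_iota hn ho j)
  · rw [Matrix.fromBlocks_apply₂₁, Matrix.zero_apply, Matrix.one_apply, if_neg]
    intro e
    rw [eB_inl, eB_inr] at e
    exact r.2 (e ▸ inB_iota hn ho l)
  · rw [Matrix.fromBlocks_apply₂₂, Matrix.one_apply, Matrix.one_apply]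
    by_cases hrs : r = s
    · rw [if_pos hrs, if_pos (by rw [hrs])]
    · rw [if_neg hrs, if_neg]
      intro e
      exact hrs (Sum.inr_injective ((eB hn ho).injective e))

theorem emb_injective (hn : 2 ≤ n) (ho : n % 2 = 1) :
    Function.Injective (emb hn ho : Matrix (Fin 3) (Fin 3) F → Matrix (Fin n) (Fin n) F) := by
  intro A B h
  ext j l
  rw [← emb_iota_iota hn ho A j l, ← emb_iota_iota hn ho B j l, h]

/-- a matrix which is the identity outside the central block is `emb` of its central block -/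
theorem eq_emb_of_supp (hn : 2 ≤ n) (ho : n % 2 = 1) (M : Matrix (Fin n) (Fin n) F)
    (h : ∀ x y, ¬ (inB n x ∧ inB n y) → M x y = (1 : Matrix (Fin n) (Fin n) F) x y) :
    M = emb hn ho (M.submatrix (iota hn ho) (iota hn ho)) := by
  ext x y
  by_cases hxy : inB n x ∧ inB n y
  · obtain ⟨j, rfl⟩ := exists_iota_of_inB hn ho hxy.1
    obtain ⟨l, rfl⟩ := exists_iota_of_inB hn ho hxy.2
    rw [emb_iota_iota, Matrix.submatrix_apply]
  · rw [emb_of_not hn ho _ x y hxy, h x y hxy]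


/-! ### the action on vectors and the hermitian form -/

theorem iota_injective (hn : 2 ≤ n) (ho : n % 2 = 1) : Function.Injective (iota hn ho) := by
  intro j l h
  have := congrArg Fin.val h
  simp only [iota] at this
  exact Fin.ext (by omega)

theorem emb_mulVec_iota (hn : 2 ≤ n) (ho : n % 2 = 1) (A : Matrix (Fin 3) (Fin 3) F)
    (u : Fin n → F) (j : Fin 3) :
    (emb hn ho A *ᵥ u) (iota hn ho j) = (A *ᵥ (u ∘ iota hn ho)) j := by
  unfold emb
  rw [Matrix.submatrix_mulVec_equiv, Function.comp_apply, ← eB_inl hn ho j,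
    Equiv.symm_apply_apply, Matrix.fromBlocks_mulVec, Sum.elim_inl]
  simp only [Matrix.zero_mulVec, add_zero, Equiv.symm_symm]
  rfl

theorem emb_mulVec_of_not (hn : 2 ≤ n) (ho : n % 2 = 1) (A : Matrix (Fin 3) (Fin 3) F)
    (u : Fin n → F) (x : Fin n) (hx : ¬ inB n x) :
    (emb hn ho A *ᵥ u) x = u x := by
  unfold emb
  have hx' : x = eB hn ho (Sum.inr ⟨x, hx⟩) := rfl
  rw [Matrix.submatrix_mulVec_equiv, Function.comp_apply]
  conv_lhs => rw [hx']
  rw [Equiv.symm_apply_apply, Matrix.fromBlocks_mulVec, Sum.elim_inr]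
  simp only [Matrix.zero_mulVec, zero_add, Matrix.one_mulVec, Equiv.symm_symm]
  rfl

theorem rev_iota (hn : 2 ≤ n) (ho : n % 2 = 1) (j : Fin 3) :
    Fin.rev (iota hn ho j) = iota hn ho (Fin.rev j) := by
  apply Fin.ext
  have := j.2
  simp only [iota, Fin.val_rev]
  omega

theorem not_inB_rev (hn : 2 ≤ n) (ho : n % 2 = 1) {x : Fin n} (hx : ¬ inB n x) :
    ¬ inB n (Fin.rev x) := by
  unfold inB at hx ⊢
  have := x.2
  rw [Fin.val_rev]
  omega

/-- splitting the form into the central block and the rest -/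
theorem hJ_split (hn : 2 ≤ n) (ho : n % 2 = 1) (u v : Fin n → F) :
    hJ n F q u v = hJ 3 F q (u ∘ iota hn ho) (v ∘ iota hn ho) +
      ∑ r : {x : Fin n // ¬ inB n x}, u r.1 * (v (Fin.rev r.1)) ^ q := by
  unfold hJ
  rw [← Equiv.sum_comp (eB hn ho), Fintype.sum_sum_type]
  congr 1
  apply Finset.sum_congr rfl
  intro j _
  rw [eB_inl, rev_iota]
  rfl

theorem hJ_emb (hn : 2 ≤ n) (ho : n % 2 = 1) (A : Matrix (Fin 3) (Fin 3) F) (u v : Fin n → F) :
    hJ n F q (emb hn ho A *ᵥ u) (emb hn ho A *ᵥ v) =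
      hJ 3 F q (A *ᵥ (u ∘ iota hn ho)) (A *ᵥ (v ∘ iota hn ho)) +
      ∑ r : {x : Fin n // ¬ inB n x}, u r.1 * (v (Fin.rev r.1)) ^ q := by
  rw [hJ_split hn ho]
  congr 1
  · congr 1
    · funext j
      exact emb_mulVec_iota hn ho A u j
    · funext j
      exact emb_mulVec_iota hn ho A v j
  · apply Finset.sum_congr rfl
    intro r _
    rw [emb_mulVec_of_not hn ho A u r.1 r.2, emb_mulVec_of_not hn ho A v _ (not_inB_rev hn ho r.2)]

/-- `A` preserves the `3`-dimensional antidiagonal form -/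
def U3 (F : Type*) [Field F] (q : ℕ) (A : Matrix (Fin 3) (Fin 3) F) : Prop :=
  ∀ u v : Fin 3 → F, hJ 3 F q (A *ᵥ u) (A *ᵥ v) = hJ 3 F q u v

theorem hJ_emb_of_U3 (hn : 2 ≤ n) (ho : n % 2 = 1) {A : Matrix (Fin 3) (Fin 3) F} (hA : U3 F q A)
    (u v : Fin n → F) :
    hJ n F q (emb hn ho A *ᵥ u) (emb hn ho A *ᵥ v) = hJ n F q u v := by
  rw [hJ_emb, hJ_split hn ho u v, hA]

theorem U3_of_hJ_emb (hn : 2 ≤ n) (ho : n % 2 = 1) {A : Matrix (Fin 3) (Fin 3) F}
    (hA : ∀ u v : Fin n → F, hJ n F q (emb hn ho A *ᵥ u) (emb hn ho A *ᵥ v) = hJ n F q u v) :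
    U3 F q A := by
  intro u' v'
  have hu : Function.extend (iota hn ho) u' 0 ∘ iota hn ho = u' :=
    Function.extend_comp (iota_injective hn ho) u' 0
  have hv : Function.extend (iota hn ho) v' 0 ∘ iota hn ho = v' :=
    Function.extend_comp (iota_injective hn ho) v' 0
  have h := hA (Function.extend (iota hn ho) u' 0) (Function.extend (iota hn ho) v' 0)
  rw [hJ_emb, hJ_split hn ho, hu, hv] at h
  exact add_right_cancel h

theorem hJ3_eq (u v : Fin 3 → F) :
    hJ 3 F q u v = u 0 * (v 2) ^ q + u 1 * (v 1) ^ q + u 2 * (v 0) ^ q := by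
  unfold hJ
  rw [Fin.sum_univ_three]
  rfl

end Cfsg.Agent.Lib.Helper10.StSU
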