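import Mathlib
import Cfsg.Agent.Lib.Helper49.StSUDefs
import Cfsg.Agent.Lib.Helper10.StSUEmb

/-!
# K-StSU pack (S2546), keystone 254611 K-StSU-F3Lo (helper10): rank one identity, last simple root, `n` odd
-/

set_option autoImplicit false
set_option linter.unusedSectionVars false
set_option linter.unusedVariables false

namespace Cfsg.Agent.Lib.Helper10.StSU

open Cfsg Matrix Cfsg.Agent.Lib.Helper49.StSU

variable {n : ℕ} {F : Type*} [Field F] {q : ℕ}

/-! ### Frobenius facts -/

theorem frob_zero (ok : Ok n F q) : (0 : F) ^ q = 0 := by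
  have h := ok.frob_add 0 0
  rw [add_zero] at h
  have : (0 : F) ^ q + 0 = (0 : F) ^ q + (0 : F) ^ q := by rw [add_zero]; exact h
  exact (add_left_cancel this).symm

theorem frob_neg (ok : Ok n F q) (x : F) : (-x) ^ q = -x ^ q := by
  have h := ok.frob_add (-x) x
  rw [neg_add_cancel, frob_zero ok] at h
  exact eq_neg_of_add_eq_zero_left h.symm

/-! ### `3 × 3` unitary matrices -/

theorem U3_upper (ok : Ok n F q) (t s u : F) (h1 : t + s ^ q = 0)
    (h2 : u + s * s ^ q + u ^ q = 0) : U3 F q !![1, t, u; 0, 1, s; 0, 0, 1] := by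
  have h3 : s + t ^ q = 0 := by
    have : s ^ q = -t := by linear_combination h1
    have h4 : (s ^ q) ^ q = (-t) ^ q := by rw [this]
    rw [ok.frob_frob, frob_neg ok] at h4
    linear_combination h4
  intro u' v'
  rw [hJ3_eq, hJ3_eq]
  simp only [Matrix.mulVec, dotProduct, Fin.sum_univ_three, Matrix.of_apply, Matrix.cons_val',
    Matrix.cons_val_zero, Matrix.cons_val_one, Matrix.cons_val_two, Matrix.empty_val',
    Matrix.cons_val_fin_one, Matrix.head_cons, Matrix.tail_cons, Matrix.head_fin_const]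
  simp only [one_mul, zero_mul, zero_add, add_zero, ok.frob_add, mul_pow]
  linear_combination (u' 1 * v' 2 ^ q) * h1 + (u' 2 * v' 2 ^ q) * h2 + (u' 2 * v' 1 ^ q) * h3

theorem U3_diag (ok : Ok n F q) (d0 d1 d2 : F) (h02 : d0 * d2 ^ q = 1) (h11 : d1 * d1 ^ q = 1)
    (h20 : d2 * d0 ^ q = 1) : U3 F q !![d0, 0, 0; 0, d1, 0; 0, 0, d2] := by
  intro u' v'
  rw [hJ3_eq, hJ3_eq]
  simp only [Matrix.mulVec, dotProduct, Fin.sum_univ_three, Matrix.of_apply, Matrix.cons_val',
    Matrix.cons_val_zero, Matrix.cons_val_one, Matrix.cons_val_two, Matrix.empty_val',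
    Matrix.cons_val_fin_one, Matrix.head_cons, Matrix.tail_cons, Matrix.head_fin_const]
  simp only [zero_mul, zero_add, add_zero, mul_pow]
  linear_combination (u' 0 * v' 2 ^ q) * h02 + (u' 1 * v' 1 ^ q) * h11 + (u' 2 * v' 0 ^ q) * h20

/-- relations between the entries of a unitary upper unitriangular matrix -/
theorem rel_of_U3_upper (ok : Ok n F q) (t s u : F)
    (h : U3 F q !![1, t, u; 0, 1, s; 0, 0, 1]) :
    t + s ^ q = 0 ∧ u + s * s ^ q + u ^ q = 0 := by
  have e1 := h ![0, 1, 0] ![0, 0, 1]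
  have e2 := h ![0, 0, 1] ![0, 0, 1]
  rw [hJ3_eq, hJ3_eq] at e1 e2
  simp only [Matrix.mulVec, dotProduct, Fin.sum_univ_three, Matrix.of_apply, Matrix.cons_val',
    Matrix.cons_val_zero, Matrix.cons_val_one, Matrix.cons_val_two, Matrix.empty_val',
    Matrix.cons_val_fin_one, Matrix.head_cons, Matrix.tail_cons, Matrix.head_fin_const] at e1 e2
  simp only [one_mul, zero_mul, mul_zero, mul_one, zero_add, add_zero, one_pow, frob_zero ok] at e1 e2
  exact ⟨e1, by linear_combination e2⟩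

/-- the explicit `U T U⁻` decomposition -/
theorem ldu3 (t T u W s : F) (hs : s = -T) (hW : W = -u - t * T) (hu : u ≠ 0) (hW0 : W ≠ 0) :
    (!![0, 0, 1; 0, -1, 0; 1, 0, 0] : Matrix (Fin 3) (Fin 3) F) * !![1, t, u; 0, 1, s; 0, 0, 1] =
      !![1, -t / W, 1 / u; 0, 1, T / u; 0, 0, 1] * !![1 / W, 0, 0; 0, W / u, 0; 0, 0, u] *
        !![1, 0, 0; s / W, 1, 0; 1 / u, t / u, 1] := by
  subst hs
  ext i j
  fin_cases i <;> fin_cases j <;>
    simp [Matrix.mul_apply, Fin.sum_univ_three] <;> field_simp <;> (try rw [hW]) <;> (try ring)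


/-! ### group elements with a prescribed central block -/

/-- the element of the group with central block `A` -/
def blockElt (hn : 2 ≤ n) (ho : n % 2 = 1) (A : Matrix (Fin 3) (Fin 3) F) (hdet : A.det = 1)
    (hA : U3 F q A) : GJ n F q :=
  ⟨⟨emb hn ho A, by rw [det_emb]; exact hdet⟩,
    (mem_SUJ_iff _).2 (fun u v => hJ_emb_of_U3 hn ho hA u v)⟩

theorem mat_blockElt (hn : 2 ≤ n) (ho : n % 2 = 1) (A : Matrix (Fin 3) (Fin 3) F) (hdet : A.det = 1)
    (hA : U3 F q A) : mat (blockElt hn ho A hdet hA) = emb hn ho A := rfl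

theorem emb_eq_one_of (hn : 2 ≤ n) (ho : n % 2 = 1) (A : Matrix (Fin 3) (Fin 3) F) (a b : Fin n)
    (h : ∀ j l, a = iota hn ho j → b = iota hn ho l →
      A j l = (1 : Matrix (Fin 3) (Fin 3) F) j l) :
    emb hn ho A a b = (1 : Matrix (Fin n) (Fin n) F) a b := by
  by_cases hab : inB n a ∧ inB n b
  · obtain ⟨j, rfl⟩ := exists_iota_of_inB hn ho hab.1
    obtain ⟨l, rfl⟩ := exists_iota_of_inB hn ho hab.2
    rw [emb_iota_iota, h j l rfl rfl, Matrix.one_apply, Matrix.one_apply]
    by_cases hjl : j = l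
    · rw [if_pos hjl, if_pos (by rw [hjl])]
    · rw [if_neg hjl, if_neg (fun e => hjl (iota_injective hn ho e))]
  · exact emb_of_not hn ho A a b hab

/-- the matrix of the last reflection, `n` odd -/
theorem sOddMat_eq_emb (hn : 2 ≤ n) (ho : n % 2 = 1) :
    sOddMat n F = emb hn ho !![0, 0, 1; 0, -1, 0; 1, 0, 0] := by
  have h1 : sOddMat n F = emb hn ho ((sOddMat n F).submatrix (iota hn ho) (iota hn ho)) := by
    apply eq_emb_of_supp
    intro a b hab
    unfold inB at hab
    unfold sOddMat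
    rw [Matrix.one_apply]
    have ha := a.2
    have hb := b.2
    by_cases e : a = b
    · subst e
      rw [if_neg (by omega), if_neg (by omega), if_pos ⟨rfl, by omega, by omega, by omega⟩, if_pos rfl]
    · have e' : a.val ≠ b.val := fun h => e (Fin.ext h)
      rw [if_neg (by omega), if_neg (by omega), if_neg (fun h => e h.1), if_neg e]
  rw [h1]
  congr 1
  ext j l
  rw [Matrix.submatrix_apply]
  obtain ⟨k, hk⟩ : ∃ k, n / 2 = k + 1 := ⟨n / 2 - 1, by omega⟩
  unfold sOddMat iota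
  simp only [hk]
  fin_cases j <;> fin_cases l <;> simp <;> omega

/-- LEAF F3Lo -/
theorem rank_one_long_odd (ok : Ok n F q) (hn : 2 ≤ n) (ho : n % 2 = 1) (x : GJ n F q)
    (hx : x ∈ XL n F q) (hx1 : x ≠ 1) :
    ∃ x' ∈ XL n F q, ∃ h ∈ Tsub n F q, ∃ y ∈ YL n F q,
      sLast n F q * x = x' * h * y := by
  -- the central block of `x`
  have hsupp : ∀ a b, ¬ (inB n a ∧ inB n b) →
      mat x a b = (1 : Matrix (Fin n) (Fin n) F) a b := by
    intro a b hab
    apply hx a b
    intro hA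
    apply hab
    unfold inB
    have := a.2
    have := b.2
    omega
  obtain ⟨X, hXdef⟩ : ∃ X, X = (mat x).submatrix (iota hn ho) (iota hn ho) := ⟨_, rfl⟩
  have hXemb : mat x = emb hn ho X := by
    rw [hXdef]; exact eq_emb_of_supp hn ho (mat x) hsupp
  have hlow : ∀ j l : Fin 3, ¬ (j < l) → X j l = (1 : Matrix (Fin 3) (Fin 3) F) j l := by
    intro j l hjl
    rw [hXdef, Matrix.submatrix_apply, hx (iota hn ho j) (iota hn ho l), Matrix.one_apply,
      Matrix.one_apply]
    · by_cases e : j = l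
      · rw [if_pos e, if_pos (by rw [e])]
      · rw [if_neg e, if_neg (fun h => e (iota_injective hn ho h))]
    · intro hA
      apply hjl
      have := hA.2.1
      simp only [iota] at this
      exact Fin.lt_def.mpr (by omega)
  obtain ⟨t, ht⟩ : ∃ t, t = X 0 1 := ⟨_, rfl⟩
  obtain ⟨u, hu⟩ : ∃ u, u = X 0 2 := ⟨_, rfl⟩
  obtain ⟨s, hs⟩ : ∃ s, s = X 1 2 := ⟨_, rfl⟩
  have h00 : X 0 0 = 1 := by rw [hlow 0 0 (by decide)]; simp
  have h11 : X 1 1 = 1 := by rw [hlow 1 1 (by decide)]; simp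
  have h22 : X 2 2 = 1 := by rw [hlow 2 2 (by decide)]; simp
  have h10 : X 1 0 = 0 := by rw [hlow 1 0 (by decide)]; simp
  have h20 : X 2 0 = 0 := by rw [hlow 2 0 (by decide)]; simp
  have h21 : X 2 1 = 0 := by rw [hlow 2 1 (by decide)]; simp
  have hX : X = !![1, t, u; 0, 1, s; 0, 0, 1] := by
    ext j l
    fin_cases j <;> fin_cases l <;> simp [h00, h11, h22, h10, h20, h21, ht, hu, hs]
  have hU3 : U3 F q (!![1, t, u; 0, 1, s; 0, 0, 1] : Matrix (Fin 3) (Fin 3) F) := by
    rw [← hX]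
    apply U3_of_hJ_emb hn ho
    intro u' v'
    rw [← hXemb]
    exact hJ_mat x u' v'
  obtain ⟨r1, r2⟩ := rel_of_U3_upper ok t s u hU3
  -- consequences
  have hsq : s ^ q = -t := by linear_combination r1
  have hs' : s = -t ^ q := by
    have h4 : (s ^ q) ^ q = (-t) ^ q := by rw [hsq]
    rw [ok.frob_frob, frob_neg ok] at h4
    exact h4
  have hu0 : u ≠ 0 := by
    intro h0
    apply hx1
    apply mat_injective
    rw [mat_one, hXemb, hX]
    rw [h0, frob_zero ok, add_zero, zero_add] at r2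
    have hs0 : s = 0 := by
      rcases mul_eq_zero.mp r2 with h | h
      · exact h
      · exact (pow_eq_zero_iff (fun hq => by
          rw [hq, pow_zero] at h; exact one_ne_zero h)).mp h
    have ht0 : t = 0 := by
      rw [hs0, frob_zero ok, add_zero] at r1
      exact r1
    rw [h0, hs0, ht0]
    rw [← emb_one hn ho]
    congr 1
    ext j l
    fin_cases j <;> fin_cases l <;> simp
  have hW0 : u ^ q ≠ 0 := pow_ne_zero _ hu0
  have hW : u ^ q = -u - t * t ^ q := by
    have : s * s ^ q = t * t ^ q := by rw [hsq, hs']; ring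
    linear_combination r2 - this
  have hTq : (t ^ q) ^ q = t := ok.frob_frob t
  have hWq : (u ^ q) ^ q = u := ok.frob_frob u
  -- the factors
  have hUX' : U3 F q (!![1, -t / u ^ q, 1 / u; 0, 1, t ^ q / u; 0, 0, 1] :
      Matrix (Fin 3) (Fin 3) F) := by
    apply U3_upper ok
    · rw [div_pow, hTq]; ring
    · rw [div_pow, div_pow, hTq, one_pow]
      field_simp
      linear_combination hW
  have hUD : U3 F q (!![1 / u ^ q, 0, 0; 0, u ^ q / u, 0; 0, 0, u] :
      Matrix (Fin 3) (Fin 3) F) := by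
    apply U3_diag ok
    · field_simp
    · rw [div_pow, hWq]; field_simp
    · rw [div_pow, hWq, one_pow]; field_simp
  have hdX' : (!![1, -t / u ^ q, 1 / u; 0, 1, t ^ q / u; 0, 0, 1] :
      Matrix (Fin 3) (Fin 3) F).det = 1 := by
    rw [Matrix.det_fin_three]; simp
  have hdD : (!![1 / u ^ q, 0, 0; 0, u ^ q / u, 0; 0, 0, u] :
      Matrix (Fin 3) (Fin 3) F).det = 1 := by
    rw [Matrix.det_fin_three]; simp; field_simp
  obtain ⟨x', hx'⟩ : ∃ x' : GJ n F q, mat x' =
      emb hn ho !![1, -t / u ^ q, 1 / u; 0, 1, t ^ q / u; 0, 0, 1] :=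
    ⟨blockElt hn ho _ hdX' hUX', rfl⟩
  obtain ⟨h, hh⟩ : ∃ h : GJ n F q, mat h =
      emb hn ho !![1 / u ^ q, 0, 0; 0, u ^ q / u, 0; 0, 0, u] :=
    ⟨blockElt hn ho _ hdD hUD, rfl⟩
  have hS : mat (sLast n F q) = emb hn ho !![0, 0, 1; 0, -1, 0; 1, 0, 0] := by
    rw [ok.last hn]
    unfold sLastMat
    rw [if_neg (by omega)]
    exact sOddMat_eq_emb hn ho
  have hprod : mat (sLast n F q * x) =
      mat x' * mat h * emb hn ho !![1, 0, 0; s / u ^ q, 1, 0; 1 / u, t / u, 1] := by
    rw [mat_mul, hS, hXemb, hX, ← emb_mul, ldu3 t (t ^ q) u (u ^ q) s hs' hW hu0 hW0, emb_mul,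
      emb_mul, hx', hh]
  have hy : mat (h⁻¹ * x'⁻¹ * (sLast n F q * x)) =
      emb hn ho !![1, 0, 0; s / u ^ q, 1, 0; 1 / u, t / u, 1] := by
    rw [mat_mul, mat_mul, hprod, Matrix.mul_assoc (mat h⁻¹), Matrix.mul_assoc (mat x'),
      ← Matrix.mul_assoc (mat x'⁻¹), mat_inv_mul, Matrix.one_mul, ← Matrix.mul_assoc, mat_inv_mul,
      Matrix.one_mul]
  refine ⟨x', ?_, h, ?_, h⁻¹ * x'⁻¹ * (sLast n F q * x), ?_, ?_⟩
  · -- `x' ∈ XL`
    intro a b hab
    rw [hx']
    apply emb_eq_one_of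
    intro j l ha hb
    subst ha hb
    have hjl : ¬ (j < l) := by
      intro hjl
      apply hab
      have := Fin.lt_def.mp hjl
      have := j.2
      have := l.2
      simp only [iota]
      omega
    revert hjl
    fin_cases j <;> fin_cases l <;> simp
  · -- `h ∈ T`
    rw [mem_Tsub_iff]
    intro a b hab
    rw [hh]
    by_cases hB : inB n a ∧ inB n b
    · obtain ⟨j, rfl⟩ := exists_iota_of_inB hn ho hB.1
      obtain ⟨l, rfl⟩ := exists_iota_of_inB hn ho hB.2
      rw [emb_iota_iota]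
      have hjl : j ≠ l := fun e => hab (by rw [e])
      revert hjl
      fin_cases j <;> fin_cases l <;> simp
    · rw [emb_of_not hn ho _ a b hB, Matrix.one_apply_ne hab]
  · -- `y ∈ YL`
    intro a b hab
    rw [hy]
    apply emb_eq_one_of
    intro j l ha hb
    subst ha hb
    have hjl : ¬ (l < j) := by
      intro hjl
      apply hab
      have := Fin.lt_def.mp hjl
      have := j.2
      have := l.2
      simp only [iota]
      omega
    revert hjl
    fin_cases j <;> fin_cases l <;> simp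
  · group

end Cfsg.Agent.Lib.Helper10.StSU
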