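import Cfsg.Agent.Lib.Helper10.PC3
import Cfsg.Agent.Lib.Helper10.FusSimple

set_option autoImplicit false
set_option maxRecDepth 1000000

namespace Cfsg.Agent.Lib.Helper10.SylM12

open Cfsg Cfsg.Agent.Lib.Helper10

/-- words for the polycyclic generators of a Sylow 2-subgroup. -/
def wL : List (List ℕ) := [
  [0, 2, 3, 1, 0, 0, 3, 4, 3, 4, 3, 2, 4, 0, 0, 2, 2, 0, 4, 0, 2, 3, 3, 2, 3, 4, 3, 3, 2, 2, 2, 0, 2, 0, 2, 3, 4, 0, 4, 4, 0, 0, 2, 0, 2],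
  [3, 4, 0, 1, 2, 3, 2, 3, 0, 0, 4, 0, 4, 3, 4, 4, 0, 0, 0, 0, 4, 3, 3, 4, 3, 2, 2, 0, 0, 2, 0, 2, 3, 2, 2, 3, 2, 3, 3, 3, 2, 3, 2, 3, 2, 2, 4, 3, 4, 3, 3, 2, 2, 3, 2, 0, 4, 3, 4, 3, 4],
  [2, 2, 3, 1, 4, 0, 0, 2, 3, 2, 3, 3, 2, 0, 2, 0, 2, 0, 2, 0, 0, 0, 2, 2, 3, 4, 0, 3, 3, 3, 3, 4, 0, 0, 2, 0, 4, 4, 3, 2, 0],
  [0, 2, 3, 1, 0, 0, 4, 0, 2, 2, 0, 4, 4, 0, 4, 3, 2, 3, 3, 2, 0, 4, 4, 3, 3, 3, 4, 2, 2, 3, 2, 3, 3, 3, 2, 3, 2, 3, 2, 2],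
  [2, 2, 0, 2, 3, 2, 2, 3, 2, 0, 0, 0, 0, 0, 0, 0, 4, 0, 0, 0, 0, 2, 2, 0, 4, 4, 0, 2, 2, 0, 0, 2, 0, 4, 3, 2, 4, 3, 4, 3, 3, 2, 2, 3, 2, 0, 4, 3, 4, 3, 4],
  [4, 0, 0, 2, 2, 0, 4, 0, 2, 3, 4, 3, 2, 2, 0, 0, 2, 0, 2, 3, 3, 2, 3, 3, 3, 4, 0, 4, 3, 3, 3, 3, 4]]

/-- their tables. -/
def tL : List (List ℕ) := [
  [8, 4, 6, 18, 1, 7, 2, 5, 0, 9, 10, 11, 12, 13, 20, 23, 16, 22, 3, 19, 14, 21, 17, 15],
  [1, 8, 18, 2, 0, 15, 3, 23, 4, 9, 11, 10, 12, 13, 17, 7, 16, 20, 6, 21, 22, 19, 14, 5],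
  [2, 3, 8, 4, 18, 14, 0, 20, 6, 9, 19, 21, 12, 13, 7, 22, 16, 15, 1, 10, 5, 11, 23, 17],
  [0, 2, 1, 18, 6, 22, 4, 17, 8, 9, 10, 19, 16, 13, 14, 23, 12, 7, 3, 11, 20, 21, 5, 15],
  [0, 4, 6, 3, 1, 7, 2, 5, 8, 13, 21, 19, 16, 9, 14, 15, 12, 22, 18, 11, 20, 10, 17, 23],
  [0, 1, 6, 18, 4, 5, 2, 7, 8, 16, 11, 10, 13, 12, 20, 15, 9, 22, 3, 21, 14, 19, 17, 23]]

def lit (i x : ℕ) : ℕ := (tL.getD i []).getD x x

noncomputable def sv (i : ℕ) : Equiv.Perm GolayPt := wordPerm (wL.getD i [])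

theorem tab_check : ∀ i : Fin 6, ∀ x : Fin 24, evalW (wL.getD i []) x = lit i x := by decide +kernel

theorem hlit (i : ℕ) : IsTab (sv i) (lit i) := by
  intro p
  unfold sv
  rw [isTab_wordPerm (wL.getD i []) p]
  by_cases hi : i < 6
  · exact tab_check ⟨i, hi⟩ ⟨idx p, idx_lt p⟩
  · have h1 : wL.getD i [] = [] := List.getD_eq_default _ _ (by simp only [wL, List.length_cons, List.length_nil]; omega)
    have h2 : tL.getD i [] = [] := List.getD_eq_default _ _ (by simp only [tL, List.length_cons, List.length_nil]; omega)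
    unfold lit
    rw [h1, h2]
    rfl

def sqL : List ℕ := [0, 1, 1, 0, 0, 0]
def cjL : List (List ℕ) := [
  [],
  [1],
  [1, 3],
  [1, 4, 2],
  [1, 3, 5, 8],
  [1, 2, 5, 24, 16]]
def sq (i : ℕ) : ℕ := sqL.getD i 0
def cj (i j : ℕ) : ℕ := (cjL.getD i []).getD j 0

theorem rel_check : ∀ i : Fin 6, relOK lit i (sq i) (cj i) = true := by decide +kernel

theorem hnf : ∀ i ≤ 6, ∀ x ∈ Hs sv i, ∃ m < 2 ^ i, x = wprod sv (nf i m) :=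
  exists_nf hlit sq cj 6 (fun i hi => rel_check ⟨i, hi⟩)

theorem indep_check : ∀ i : Fin 6, indepOK lit i = true := by decide +kernel

theorem card_S : Nat.card (Hs sv 6) = 2 ^ 6 :=
  card_Hs hlit 6 hnf (fun i hi => indep_check ⟨i, hi⟩)

theorem cent_check : pcCentOK lit 6 1 = true := by decide +kernel

def memW (w : List ℕ) : Bool := presTab (evalW w)
theorem wmem (w : List ℕ) (h : memW w = true) : wordPerm w ∈ Spor.M12 := wordPerm_mem_M12 w (by simpa [memW] using h)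
theorem mem_check : ∀ i : Fin 6, memW (wL.getD i []) = true := by decide +kernel

theorem S_le : Hs sv 6 ≤ Spor.M12 := by
  unfold Hs
  rw [Subgroup.closure_le]
  rintro x ⟨j, hj, rfl⟩
  exact wmem _ (mem_check ⟨j, hj⟩)

/-! ### The normalizer -/

/-- elements of the group normalizing the Sylow subgroup. -/
def Good (h : Equiv.Perm GolayPt) : Prop := h ∈ Spor.M12 ∧ Normalizes h (Hs sv 6)

theorem good_of_mem {s : Equiv.Perm GolayPt} (hs : s ∈ Hs sv 6) : Good s :=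
  ⟨S_le hs, Normalizes.of_mem hs⟩

theorem good_inv_mul {s h : Equiv.Perm GolayPt} (hs : s ∈ Hs sv 6) (hh : Good h) : Good (s⁻¹ * h) :=
  ⟨(Spor.M12).mul_mem ((Spor.M12).inv_mem (S_le hs)) hh.1, Normalizes.inv_mul hs hh.2⟩

def RL0 : List ℕ := [0, 0, 0, 0, 0, 5, 0, 5, 0, 9, 10, 10, 9, 9, 5, 5, 9, 5, 0, 10, 5, 10, 5, 5]
def WL0 : List ℕ := [56, 29, 58, 62, 28, 49, 53, 62, 25, 13, 58, 62, 58, 25, 28, 43, 43, 40, 63, 28, 52, 25, 25, 58]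
def R0 (x : ℕ) : ℕ := RL0.getD x 0
def W0 (x : ℕ) : ℕ := WL0.getD x 0
theorem stab0 : stabOK lit 6 6 [] = true := by decide +kernel
theorem stabeq0 : ∀ x, x ∈ Hs sv 6 ↔ (x ∈ Hs sv 6 ∧ ∀ b ∈ ([] : List ℕ), x (pt b) = pt b) :=
  stab_eq hlit 6 6 [] (by norm_num) (by decide) (hnf 6 le_rfl) stab0
theorem rep0 : repOK lit 6 R0 W0 = true := by decide +kernel
theorem orb0 : IsOrbRep (Hs sv 6) R0 := isOrbRep_Hs hlit 6 R0 W0 rep0

def RL1 : List ℕ := [0, 0, 0, 0, 0, 5, 0, 5, 0, 9, 10, 10, 12, 13, 5, 5, 12, 5, 0, 10, 5, 10, 5, 5]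
def WL1 : List ℕ := [8, 12, 4, 15, 13, 14, 11, 15, 1, 4, 1, 13, 4, 4, 4, 11, 15, 7, 7, 4, 13, 15, 6, 10]
def R1 (x : ℕ) : ℕ := RL1.getD x 0
def W1 (x : ℕ) : ℕ := WL1.getD x 0
theorem stab1 : stabOK lit 6 4 [9] = true := by decide +kernel
theorem stabeq1 : ∀ x, x ∈ Hs sv 4 ↔ (x ∈ Hs sv 6 ∧ ∀ b ∈ ([9] : List ℕ), x (pt b) = pt b) :=
  stab_eq hlit 6 4 [9] (by norm_num) (by decide) (hnf 6 le_rfl) stab1
theorem rep1 : repOK lit 4 R1 W1 = true := by decide +kernel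
theorem orb1 : IsOrbRep (Hs sv 4) R1 := isOrbRep_Hs hlit 4 R1 W1 rep1

def RL2 : List ℕ := [0, 0, 0, 0, 0, 5, 0, 5, 0, 9, 10, 10, 12, 13, 5, 5, 16, 5, 0, 10, 5, 10, 5, 5]
def WL2 : List ℕ := [0, 2, 4, 6, 3, 0, 5, 1, 1, 6, 1, 2, 6, 6, 4, 2, 6, 7, 7, 5, 5, 6, 6, 3]
def R2 (x : ℕ) : ℕ := RL2.getD x 0
def W2 (x : ℕ) : ℕ := WL2.getD x 0
theorem stab2 : stabOK lit 6 3 [9, 12] = true := by decide +kernel
theorem stabeq2 : ∀ x, x ∈ Hs sv 3 ↔ (x ∈ Hs sv 6 ∧ ∀ b ∈ ([9, 12] : List ℕ), x (pt b) = pt b) :=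
  stab_eq hlit 6 3 [9, 12] (by norm_num) (by decide) (hnf 6 le_rfl) stab2
theorem rep2 : repOK lit 3 R2 W2 = true := by decide +kernel
theorem orb2 : IsOrbRep (Hs sv 3) R2 := isOrbRep_Hs hlit 3 R2 W2 rep2

def RL3 : List ℕ := [0, 1, 2, 3, 4, 5, 6, 7, 8, 9, 10, 11, 12, 13, 14, 15, 16, 17, 18, 19, 20, 21, 22, 23]
def WL3 : List ℕ := [0, 0, 0, 0, 0, 0, 0, 0, 0, 0, 0, 0, 0, 0, 0, 0, 0, 0, 0, 0, 0, 0, 0, 0]
def R3 (x : ℕ) : ℕ := RL3.getD x 0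
def W3 (x : ℕ) : ℕ := WL3.getD x 0
theorem stab3 : stabOK lit 6 0 [9, 12, 0] = true := by decide +kernel
theorem stabeq3 : ∀ x, x ∈ Hs sv 0 ↔ (x ∈ Hs sv 6 ∧ ∀ b ∈ ([9, 12, 0] : List ℕ), x (pt b) = pt b) :=
  stab_eq hlit 6 0 [9, 12, 0] (by norm_num) (by decide) (hnf 6 le_rfl) stab3
theorem rep3 : repOK lit 0 R3 W3 = true := by decide +kernel
theorem orb3 : IsOrbRep (Hs sv 0) R3 := isOrbRep_Hs hlit 0 R3 W3 rep3

theorem lev1 (h : Equiv.Perm GolayPt) (hn : Normalizes h (Hs sv 6)) (hb : ∀ b ∈ ([] : List ℕ), h (pt b) = pt b) :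
    ∀ R ∈ [R0], ∃ K : Subgroup (Equiv.Perm GolayPt), IsOrbRep K R ∧ Normalizes h K := by
  intro R hR
  simp only [List.mem_cons, List.mem_nil_iff, or_false] at hR
  subst hR
  · exact ⟨_, orb0, normalizes_of_stab (bs := []) stabeq0 hn (fun b hb' => hb b (by revert b; decide))⟩

theorem lev2 (h : Equiv.Perm GolayPt) (hn : Normalizes h (Hs sv 6)) (hb : ∀ b ∈ ([9] : List ℕ), h (pt b) = pt b) :
    ∀ R ∈ [R0, R1], ∃ K : Subgroup (Equiv.Perm GolayPt), IsOrbRep K R ∧ Normalizes h K := by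
  intro R hR
  simp only [List.mem_cons, List.mem_nil_iff, or_false] at hR
  rcases hR with rfl | rfl
  · exact ⟨_, orb0, normalizes_of_stab (bs := []) stabeq0 hn (fun b hb' => hb b (by revert b; decide))⟩
  · exact ⟨_, orb1, normalizes_of_stab (bs := [9]) stabeq1 hn (fun b hb' => hb b (by revert b; decide))⟩

theorem lev3 (h : Equiv.Perm GolayPt) (hn : Normalizes h (Hs sv 6)) (hb : ∀ b ∈ ([9, 12] : List ℕ), h (pt b) = pt b) :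
    ∀ R ∈ [R0, R1, R2], ∃ K : Subgroup (Equiv.Perm GolayPt), IsOrbRep K R ∧ Normalizes h K := by
  intro R hR
  simp only [List.mem_cons, List.mem_nil_iff, or_false] at hR
  rcases hR with rfl | rfl | rfl
  · exact ⟨_, orb0, normalizes_of_stab (bs := []) stabeq0 hn (fun b hb' => hb b (by revert b; decide))⟩
  · exact ⟨_, orb1, normalizes_of_stab (bs := [9]) stabeq1 hn (fun b hb' => hb b (by revert b; decide))⟩
  · exact ⟨_, orb2, normalizes_of_stab (bs := [9, 12]) stabeq2 hn (fun b hb' => hb b (by revert b; decide))⟩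

theorem lev4 (h : Equiv.Perm GolayPt) (hn : Normalizes h (Hs sv 6)) (hb : ∀ b ∈ ([9, 12, 0] : List ℕ), h (pt b) = pt b) :
    ∀ R ∈ [R0, R1, R2, R3], ∃ K : Subgroup (Equiv.Perm GolayPt), IsOrbRep K R ∧ Normalizes h K := by
  intro R hR
  simp only [List.mem_cons, List.mem_nil_iff, or_false] at hR
  rcases hR with rfl | rfl | rfl | rfl
  · exact ⟨_, orb0, normalizes_of_stab (bs := []) stabeq0 hn (fun b hb' => hb b (by revert b; decide))⟩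
  · exact ⟨_, orb1, normalizes_of_stab (bs := [9]) stabeq1 hn (fun b hb' => hb b (by revert b; decide))⟩
  · exact ⟨_, orb2, normalizes_of_stab (bs := [9, 12]) stabeq2 hn (fun b hb' => hb b (by revert b; decide))⟩
  · exact ⟨_, orb3, normalizes_of_stab (bs := [9, 12, 0]) stabeq3 hn (fun b hb' => hb b (by revert b; decide))⟩

theorem minv_of {h : Equiv.Perm GolayPt} (hh : h ∈ Spor.M12) (a : ℕ) (ha : a < 24) :
    d0.testBit (idx (h (pt a))) = d0.testBit a := by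
  have := ((mem_M12_iff h).mp hh).2 (pt a)
  rwa [idx_pt ha] at this

/-- `D J`: a good element fixing the base prefix fixes the derived points. -/
theorem D0 (h : Equiv.Perm GolayPt) (_hG : Good h) (_hb : ∀ b ∈ ([] : List ℕ), h (pt b) = pt b) : ∀ f ∈ ([] : List ℕ), h (pt f) = pt f := by
  intro f hf; simp at hf

theorem chk0 : ∀ y : Fin 24, compat [R0] [] 9 y = true → d0.testBit y = d0.testBit 9 → R0 y = R0 9 := by decide +kernel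
theorem B0 (h : Equiv.Perm GolayPt) (hG : Good h) (hb : ∀ b ∈ ([] : List ℕ), h (pt b) = pt b) :
    ∃ s ∈ Hs sv 6, Good (s⁻¹ * h) ∧ ∀ b ∈ ([9] : List ℕ), (s⁻¹ * h) (pt b) = pt b := by
  have hF := D0 h hG hb
  have hc := compat_sound h [R0] [] (lev1 h hG.2 hb) (fun f hf => ⟨by revert f; decide, hF f hf⟩) 9 (by norm_num)
  have hy := chk0 ⟨idx (h (pt 9)), idx_lt _⟩ hc (minv_of hG.1 9 (by norm_num))
  obtain ⟨s, hs, e⟩ := (orb0 9 (by norm_num) _ (idx_lt _)).mpr hy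
  rw [pt_idx] at e
  have hs' := (stabeq0 s).mp hs
  refine ⟨s, hs'.1, good_inv_mul hs'.1 hG, ?_⟩
  intro b hb'
  show s⁻¹ (h (pt b)) = pt b
  rw [Equiv.Perm.inv_eq_iff_eq]
  have hb'' : b = 9 ∨ b ∈ ([] : List ℕ) := by revert b; decide
  rcases hb'' with rfl | hb''
  · exact e.symm
  · rw [hb b hb'', hs'.2 b hb'']

theorem D1 (h : Equiv.Perm GolayPt) (hG : Good h) (hb : ∀ b ∈ ([9] : List ℕ), h (pt b) = pt b) : ∀ f ∈ ([9] : List ℕ), h (pt f) = pt f := by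
  have hF := D0 h hG (fun b hb' => hb b (by revert b; decide))
  intro f hf
  rcases List.mem_cons.mp hf with rfl | hf
  · exact hb _ (by decide)
  · exact hF f hf

theorem chk1 : ∀ y : Fin 24, compat [R0, R1] [9] 13 y = true → d0.testBit y = d0.testBit 13 → y.val = 13 := by decide +kernel
theorem D2 (h : Equiv.Perm GolayPt) (hG : Good h) (hb : ∀ b ∈ ([9] : List ℕ), h (pt b) = pt b) : ∀ f ∈ ([13, 9] : List ℕ), h (pt f) = pt f := by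
  have hF := D1 h hG hb
  have hc := compat_sound h [R0, R1] [9] (lev2 h hG.2 hb) (fun f hf => ⟨by revert f; decide, hF f hf⟩) 13 (by norm_num)
  have hy := chk1 ⟨idx (h (pt 13)), idx_lt _⟩ hc (minv_of hG.1 13 (by norm_num))
  have hfix : h (pt 13) = pt 13 := eq_pt_of_idx hy
  intro f hf
  rcases List.mem_cons.mp hf with rfl | hf
  · exact hfix
  · exact hF f hf

theorem chk2 : ∀ y : Fin 24, compat [R0, R1] [13, 9] 12 y = true → d0.testBit y = d0.testBit 12 → R1 y = R1 12 := by decide +kernel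
theorem B2 (h : Equiv.Perm GolayPt) (hG : Good h) (hb : ∀ b ∈ ([9] : List ℕ), h (pt b) = pt b) :
    ∃ s ∈ Hs sv 6, Good (s⁻¹ * h) ∧ ∀ b ∈ ([9, 12] : List ℕ), (s⁻¹ * h) (pt b) = pt b := by
  have hF := D2 h hG hb
  have hc := compat_sound h [R0, R1] [13, 9] (lev2 h hG.2 hb) (fun f hf => ⟨by revert f; decide, hF f hf⟩) 12 (by norm_num)
  have hy := chk2 ⟨idx (h (pt 12)), idx_lt _⟩ hc (minv_of hG.1 12 (by norm_num))
  obtain ⟨s, hs, e⟩ := (orb1 12 (by norm_num) _ (idx_lt _)).mpr hy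
  rw [pt_idx] at e
  have hs' := (stabeq1 s).mp hs
  refine ⟨s, hs'.1, good_inv_mul hs'.1 hG, ?_⟩
  intro b hb'
  show s⁻¹ (h (pt b)) = pt b
  rw [Equiv.Perm.inv_eq_iff_eq]
  have hb'' : b = 12 ∨ b ∈ ([9] : List ℕ) := by revert b; decide
  rcases hb'' with rfl | hb''
  · exact e.symm
  · rw [hb b hb'', hs'.2 b hb'']

theorem D3 (h : Equiv.Perm GolayPt) (hG : Good h) (hb : ∀ b ∈ ([9, 12] : List ℕ), h (pt b) = pt b) : ∀ f ∈ ([12, 13, 9] : List ℕ), h (pt f) = pt f := by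
  have hF := D2 h hG (fun b hb' => hb b (by revert b; decide))
  intro f hf
  rcases List.mem_cons.mp hf with rfl | hf
  · exact hb _ (by decide)
  · exact hF f hf

theorem chk3 : ∀ y : Fin 24, compat [R0, R1, R2] [12, 13, 9] 16 y = true → d0.testBit y = d0.testBit 16 → y.val = 16 := by decide +kernel
theorem D4 (h : Equiv.Perm GolayPt) (hG : Good h) (hb : ∀ b ∈ ([9, 12] : List ℕ), h (pt b) = pt b) : ∀ f ∈ ([16, 12, 13, 9] : List ℕ), h (pt f) = pt f := by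
  have hF := D3 h hG hb
  have hc := compat_sound h [R0, R1, R2] [12, 13, 9] (lev3 h hG.2 hb) (fun f hf => ⟨by revert f; decide, hF f hf⟩) 16 (by norm_num)
  have hy := chk3 ⟨idx (h (pt 16)), idx_lt _⟩ hc (minv_of hG.1 16 (by norm_num))
  have hfix : h (pt 16) = pt 16 := eq_pt_of_idx hy
  intro f hf
  rcases List.mem_cons.mp hf with rfl | hf
  · exact hfix
  · exact hF f hf

theorem chk4 : ∀ y : Fin 24, compat [R0, R1, R2] [16, 12, 13, 9] 0 y = true → d0.testBit y = d0.testBit 0 → R2 y = R2 0 := by decide +kernel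
theorem B4 (h : Equiv.Perm GolayPt) (hG : Good h) (hb : ∀ b ∈ ([9, 12] : List ℕ), h (pt b) = pt b) :
    ∃ s ∈ Hs sv 6, Good (s⁻¹ * h) ∧ ∀ b ∈ ([9, 12, 0] : List ℕ), (s⁻¹ * h) (pt b) = pt b := by
  have hF := D4 h hG hb
  have hc := compat_sound h [R0, R1, R2] [16, 12, 13, 9] (lev3 h hG.2 hb) (fun f hf => ⟨by revert f; decide, hF f hf⟩) 0 (by norm_num)
  have hy := chk4 ⟨idx (h (pt 0)), idx_lt _⟩ hc (minv_of hG.1 0 (by norm_num))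
  obtain ⟨s, hs, e⟩ := (orb2 0 (by norm_num) _ (idx_lt _)).mpr hy
  rw [pt_idx] at e
  have hs' := (stabeq2 s).mp hs
  refine ⟨s, hs'.1, good_inv_mul hs'.1 hG, ?_⟩
  intro b hb'
  show s⁻¹ (h (pt b)) = pt b
  rw [Equiv.Perm.inv_eq_iff_eq]
  have hb'' : b = 0 ∨ b ∈ ([9, 12] : List ℕ) := by revert b; decide
  rcases hb'' with rfl | hb''
  · exact e.symm
  · rw [hb b hb'', hs'.2 b hb'']

theorem D5 (h : Equiv.Perm GolayPt) (hG : Good h) (hb : ∀ b ∈ ([9, 12, 0] : List ℕ), h (pt b) = pt b) : ∀ f ∈ ([0, 16, 12, 13, 9] : List ℕ), h (pt f) = pt f := by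
  have hF := D4 h hG (fun b hb' => hb b (by revert b; decide))
  intro f hf
  rcases List.mem_cons.mp hf with rfl | hf
  · exact hb _ (by decide)
  · exact hF f hf

def WF : List ℕ := [3, 1, 3, 3, 4, 0, 2, 2, 3, 3, 3, 4, 4, 0, 4, 4, 0, 2, 2, 3, 4, 3, 3, 3, 2, 3, 2, 0, 4, 0, 4, 3, 3, 4, 4, 0, 0, 2, 3, 2, 3, 2, 0, 2, 0, 2, 0, 2, 3, 4, 0, 4, 4, 0, 0, 2, 0, 2]
theorem wfP : presTab (evalW WF) = true := by decide +kernel
theorem wf5 : ∀ i : Fin 5, evalW WF (base12.getD i 0) ∈ ([0, 16, 12, 13, 9] : List ℕ) := by decide +kernel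
theorem fin_last (h : Equiv.Perm GolayPt) (hG : Good h) (hb : ∀ b ∈ ([9, 12, 0] : List ℕ), h (pt b) = pt b) : h ∈ Hs sv 6 := by
  have hF := D5 h hG hb
  have h1 : h = 1 := eq_one_of_fixes_five12 WF wfP hG.1 (fun i hi => hF _ (wf5 ⟨i, hi⟩))
  rw [h1]; exact (Hs sv 6).one_mem

theorem fin2 (h : Equiv.Perm GolayPt) (hG : Good h) (hb : ∀ b ∈ ([9, 12] : List ℕ), h (pt b) = pt b) : h ∈ Hs sv 6 := by
  obtain ⟨s, hs, hG', hb'⟩ := B4 h hG hb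
  have := fin_last (s⁻¹ * h) hG' hb'
  have e : h = s * (s⁻¹ * h) := by group
  rw [e]; exact (Hs sv 6).mul_mem hs this

theorem fin1 (h : Equiv.Perm GolayPt) (hG : Good h) (hb : ∀ b ∈ ([9] : List ℕ), h (pt b) = pt b) : h ∈ Hs sv 6 := by
  obtain ⟨s, hs, hG', hb'⟩ := B2 h hG hb
  have := fin2 (s⁻¹ * h) hG' hb'
  have e : h = s * (s⁻¹ * h) := by group
  rw [e]; exact (Hs sv 6).mul_mem hs this

theorem fin0 (h : Equiv.Perm GolayPt) (hG : Good h) (hb : ∀ b ∈ ([] : List ℕ), h (pt b) = pt b) : h ∈ Hs sv 6 := by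
  obtain ⟨s, hs, hG', hb'⟩ := B0 h hG hb
  have := fin1 (s⁻¹ * h) hG' hb'
  have e : h = s * (s⁻¹ * h) := by group
  rw [e]; exact (Hs sv 6).mul_mem hs this

theorem normalizer_le : ∀ g ∈ Spor.M12, (∀ x ∈ Hs sv 6, g * x * g⁻¹ ∈ Hs sv 6) → g ∈ Hs sv 6 := by
  intro g hg hn
  exact fin0 g ⟨hg, conj_mem_iff_of_finite (Hs sv 6) g hn⟩ (by intro b hb; simp at hb)

/-! ### Strongly closed subgroups -/

theorem all_mem (T : Subgroup (Equiv.Perm GolayPt))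
    (hcl : ∀ x ∈ T, ∀ g ∈ Spor.M12, g * x * g⁻¹ ∈ Hs sv 6 → g * x * g⁻¹ ∈ T)
    (hz : wprod sv (nf 6 1) ∈ T) : ∀ i < 6, sv i ∈ T := by
  have d0 : wprod sv [0] ∈ T := hz
  have x1 : wprod sv [0] ∈ T := by
    exact d0
  have d1 : wprod sv [4, 3, 2, 1, 0] ∈ T :=
    fuse_step hcl (g := wordPerm [0, 2, 3, 1, 0, 0, 0, 2, 3, 3, 4, 4, 0, 2, 0, 2, 0, 2, 0, 3, 4, 4, 3, 3, 3, 4, 3, 2, 0, 0, 3, 2, 3, 3, 3, 4, 0, 4, 3, 3, 3, 3, 4, 2, 0, 2, 0, 2, 3, 4, 0, 4, 4, 0, 0, 2, 0, 2]) x1 (wmem _ (by decide +kernel)) (wprod_mem_Hs sv 6 _ (by decide))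
      (isTab_wprod sv lit hlit _) (isTab_wordPerm _) (isTab_wprod sv lit hlit _)
      (by have : ∀ i : Fin 24, evalW [0, 2, 3, 1, 0, 0, 0, 2, 3, 3, 4, 4, 0, 2, 0, 2, 0, 2, 0, 3, 4, 4, 3, 3, 3, 4, 3, 2, 0, 0, 3, 2, 3, 3, 3, 4, 0, 4, 3, 3, 3, 3, 4, 2, 0, 2, 0, 2, 3, 4, 0, 4, 4, 0, 0, 2, 0, 2] (wtab lit [0] i) = wtab lit [4, 3, 2, 1, 0] (evalW [0, 2, 3, 1, 0, 0, 0, 2, 3, 3, 4, 4, 0, 2, 0, 2, 0, 2, 0, 3, 4, 4, 3, 3, 3, 4, 3, 2, 0, 0, 3, 2, 3, 3, 3, 4, 0, 4, 3, 3, 3, 3, 4, 2, 0, 2, 0, 2, 3, 4, 0, 4, 4, 0, 0, 2, 0, 2] i) := by decide +kernel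
          exact fun i hi => this ⟨i, hi⟩)
  have x2 : wprod sv [4, 3, 2, 1, 0] ∈ T := by
    exact d1
  have d2 : wprod sv [3, 2, 1, 0] ∈ T :=
    fuse_step hcl (g := wordPerm [3, 3, 1, 3, 3, 3, 0, 4, 4, 3, 2, 0, 2, 2, 3, 2, 2, 0, 0, 4, 0, 4, 3, 3, 4, 4, 0, 0, 2, 3, 2, 3, 2, 0, 2, 0, 2, 0, 2, 3, 4, 0, 4, 4, 0, 0, 2, 0, 2]) x2 (wmem _ (by decide +kernel)) (wprod_mem_Hs sv 6 _ (by decide))
      (isTab_wprod sv lit hlit _) (isTab_wordPerm _) (isTab_wprod sv lit hlit _)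
      (by have : ∀ i : Fin 24, evalW [3, 3, 1, 3, 3, 3, 0, 4, 4, 3, 2, 0, 2, 2, 3, 2, 2, 0, 0, 4, 0, 4, 3, 3, 4, 4, 0, 0, 2, 3, 2, 3, 2, 0, 2, 0, 2, 0, 2, 3, 4, 0, 4, 4, 0, 0, 2, 0, 2] (wtab lit [4, 3, 2, 1, 0] i) = wtab lit [3, 2, 1, 0] (evalW [3, 3, 1, 3, 3, 3, 0, 4, 4, 3, 2, 0, 2, 2, 3, 2, 2, 0, 0, 4, 0, 4, 3, 3, 4, 4, 0, 0, 2, 3, 2, 3, 2, 0, 2, 0, 2, 0, 2, 3, 4, 0, 4, 4, 0, 0, 2, 0, 2] i) := by decide +kernel
          exact fun i hi => this ⟨i, hi⟩)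
  have x3 : wprod sv [3, 2, 1, 0, 4, 3, 2, 1, 0, 0] ∈ T := by
    have e : ([3, 2, 1, 0, 4, 3, 2, 1, 0, 0] : List ℕ) = [3, 2, 1, 0] ++ [4, 3, 2, 1, 0] ++ [0] := by decide
    rw [e]
    simp only [wprod_append]
    exact T.mul_mem (T.mul_mem (d2) d1) d0
  have d3 : wprod sv [5, 4, 0] ∈ T :=
    fuse_step hcl (g := wordPerm [0, 2, 3, 1, 2, 3, 2, 2, 3, 3, 4, 4, 0, 4, 4, 1, 3, 1, 2, 3, 2, 3, 4, 4, 3, 3, 4, 1, 0, 1]) x3 (wmem _ (by decide +kernel)) (wprod_mem_Hs sv 6 _ (by decide))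
      (isTab_wprod sv lit hlit _) (isTab_wordPerm _) (isTab_wprod sv lit hlit _)
      (by have : ∀ i : Fin 24, evalW [0, 2, 3, 1, 2, 3, 2, 2, 3, 3, 4, 4, 0, 4, 4, 1, 3, 1, 2, 3, 2, 3, 4, 4, 3, 3, 4, 1, 0, 1] (wtab lit [3, 2, 1, 0, 4, 3, 2, 1, 0, 0] i) = wtab lit [5, 4, 0] (evalW [0, 2, 3, 1, 2, 3, 2, 2, 3, 3, 4, 4, 0, 4, 4, 1, 3, 1, 2, 3, 2, 3, 4, 4, 3, 3, 4, 1, 0, 1] i) := by decide +kernel
          exact fun i hi => this ⟨i, hi⟩)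
  have x4 : wprod sv [5, 4, 0] ∈ T := by
    exact d3
  have d4 : wprod sv [4, 3] ∈ T :=
    fuse_step hcl (g := wordPerm [0, 2, 3, 1, 2, 3, 2, 3, 4, 3, 2, 2, 3, 4, 0, 0, 0, 2, 0, 0, 0, 2, 2, 3, 4, 0, 2, 2, 3, 2, 3, 3, 3, 2, 3, 2, 3, 2, 2, 4, 3, 4, 3, 3, 2, 2, 3, 2, 0, 4, 3, 4, 3, 4]) x4 (wmem _ (by decide +kernel)) (wprod_mem_Hs sv 6 _ (by decide))
      (isTab_wprod sv lit hlit _) (isTab_wordPerm _) (isTab_wprod sv lit hlit _)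
      (by have : ∀ i : Fin 24, evalW [0, 2, 3, 1, 2, 3, 2, 3, 4, 3, 2, 2, 3, 4, 0, 0, 0, 2, 0, 0, 0, 2, 2, 3, 4, 0, 2, 2, 3, 2, 3, 3, 3, 2, 3, 2, 3, 2, 2, 4, 3, 4, 3, 3, 2, 2, 3, 2, 0, 4, 3, 4, 3, 4] (wtab lit [5, 4, 0] i) = wtab lit [4, 3] (evalW [0, 2, 3, 1, 2, 3, 2, 3, 4, 3, 2, 2, 3, 4, 0, 0, 0, 2, 0, 0, 0, 2, 2, 3, 4, 0, 2, 2, 3, 2, 3, 3, 3, 2, 3, 2, 3, 2, 2, 4, 3, 4, 3, 3, 2, 2, 3, 2, 0, 4, 3, 4, 3, 4] i) := by decide +kernel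
          exact fun i hi => this ⟨i, hi⟩)
  have x5 : wprod sv [4, 3, 5, 4, 0, 4, 3, 2, 1, 0] ∈ T := by
    have e : ([4, 3, 5, 4, 0, 4, 3, 2, 1, 0] : List ℕ) = [4, 3] ++ [5, 4, 0] ++ [4, 3, 2, 1, 0] := by decide
    rw [e]
    simp only [wprod_append]
    exact T.mul_mem (T.mul_mem (d4) d3) d1
  have d5 : wprod sv [5, 2] ∈ T :=
    fuse_step hcl (g := wordPerm [3, 4, 0, 1, 0, 0, 0, 0, 4, 0, 4, 3, 2, 3, 2, 3, 4, 4, 3, 3, 3, 2, 2, 3, 4, 0, 2, 0, 0, 0, 0, 2, 0, 2, 0, 2, 3, 4, 0, 4, 4, 0, 0, 2, 0, 2]) x5 (wmem _ (by decide +kernel)) (wprod_mem_Hs sv 6 _ (by decide))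
      (isTab_wprod sv lit hlit _) (isTab_wordPerm _) (isTab_wprod sv lit hlit _)
      (by have : ∀ i : Fin 24, evalW [3, 4, 0, 1, 0, 0, 0, 0, 4, 0, 4, 3, 2, 3, 2, 3, 4, 4, 3, 3, 3, 2, 2, 3, 4, 0, 2, 0, 0, 0, 0, 2, 0, 2, 0, 2, 3, 4, 0, 4, 4, 0, 0, 2, 0, 2] (wtab lit [4, 3, 5, 4, 0, 4, 3, 2, 1, 0] i) = wtab lit [5, 2] (evalW [3, 4, 0, 1, 0, 0, 0, 0, 4, 0, 4, 3, 2, 3, 2, 3, 4, 4, 3, 3, 3, 2, 2, 3, 4, 0, 2, 0, 0, 0, 0, 2, 0, 2, 0, 2, 3, 4, 0, 4, 4, 0, 0, 2, 0, 2] i) := by decide +kernel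
          exact fun i hi => this ⟨i, hi⟩)
  intro i hi
  interval_cases i
  · have hm : wprod sv [0] ∈ T := by
      exact d0
    have e : sv 0 = wprod sv [0] := by
      apply IsTab.eq_of (hlit 0) (isTab_wprod sv lit hlit _)
      have : ∀ x : Fin 24, lit 0 x = wtab lit [0] x := by decide +kernel
      exact fun x hx => this ⟨x, hx⟩
    rw [e]; exact hm
  · have hm : wprod sv [5, 2, 4, 3, 5, 4, 0, 4, 3, 2, 1, 0] ∈ T := by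
      have e : ([5, 2, 4, 3, 5, 4, 0, 4, 3, 2, 1, 0] : List ℕ) = [5, 2] ++ [4, 3] ++ [5, 4, 0] ++ [4, 3, 2, 1, 0] := by decide
      rw [e]
      simp only [wprod_append]
      exact T.mul_mem (T.mul_mem (T.mul_mem (d5) d4) d3) d1
    have e : sv 1 = wprod sv [5, 2, 4, 3, 5, 4, 0, 4, 3, 2, 1, 0] := by
      apply IsTab.eq_of (hlit 1) (isTab_wprod sv lit hlit _)
      have : ∀ x : Fin 24, lit 1 x = wtab lit [5, 2, 4, 3, 5, 4, 0, 4, 3, 2, 1, 0] x := by decide +kernel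
      exact fun x hx => this ⟨x, hx⟩
    rw [e]; exact hm
  · have hm : wprod sv [5, 2, 5, 4, 0, 3, 2, 1, 0, 4, 3, 2, 1, 0] ∈ T := by
      have e : ([5, 2, 5, 4, 0, 3, 2, 1, 0, 4, 3, 2, 1, 0] : List ℕ) = [5, 2] ++ [5, 4, 0] ++ [3, 2, 1, 0] ++ [4, 3, 2, 1, 0] := by decide
      rw [e]
      simp only [wprod_append]
      exact T.mul_mem (T.mul_mem (T.mul_mem (d5) d3) d2) d1
    have e : sv 2 = wprod sv [5, 2, 5, 4, 0, 3, 2, 1, 0, 4, 3, 2, 1, 0] := by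
      apply IsTab.eq_of (hlit 2) (isTab_wprod sv lit hlit _)
      have : ∀ x : Fin 24, lit 2 x = wtab lit [5, 2, 5, 4, 0, 3, 2, 1, 0, 4, 3, 2, 1, 0] x := by decide +kernel
      exact fun x hx => this ⟨x, hx⟩
    rw [e]; exact hm
  · have hm : wprod sv [4, 3, 3, 2, 1, 0, 4, 3, 2, 1, 0] ∈ T := by
      have e : ([4, 3, 3, 2, 1, 0, 4, 3, 2, 1, 0] : List ℕ) = [4, 3] ++ [3, 2, 1, 0] ++ [4, 3, 2, 1, 0] := by decide
      rw [e]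
      simp only [wprod_append]
      exact T.mul_mem (T.mul_mem (d4) d2) d1
    have e : sv 3 = wprod sv [4, 3, 3, 2, 1, 0, 4, 3, 2, 1, 0] := by
      apply IsTab.eq_of (hlit 3) (isTab_wprod sv lit hlit _)
      have : ∀ x : Fin 24, lit 3 x = wtab lit [4, 3, 3, 2, 1, 0, 4, 3, 2, 1, 0] x := by decide +kernel
      exact fun x hx => this ⟨x, hx⟩
    rw [e]; exact hm
  · have hm : wprod sv [3, 2, 1, 0, 4, 3, 2, 1, 0] ∈ T := by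
      have e : ([3, 2, 1, 0, 4, 3, 2, 1, 0] : List ℕ) = [3, 2, 1, 0] ++ [4, 3, 2, 1, 0] := by decide
      rw [e]
      simp only [wprod_append]
      exact T.mul_mem (d2) d1
    have e : sv 4 = wprod sv [3, 2, 1, 0, 4, 3, 2, 1, 0] := by
      apply IsTab.eq_of (hlit 4) (isTab_wprod sv lit hlit _)
      have : ∀ x : Fin 24, lit 4 x = wtab lit [3, 2, 1, 0, 4, 3, 2, 1, 0] x := by decide +kernel
      exact fun x hx => this ⟨x, hx⟩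
    rw [e]; exact hm
  · have hm : wprod sv [4, 3, 2, 1, 0, 5, 4, 0, 4, 3, 2, 1, 0] ∈ T := by
      have e : ([4, 3, 2, 1, 0, 5, 4, 0, 4, 3, 2, 1, 0] : List ℕ) = [4, 3, 2, 1, 0] ++ [5, 4, 0] ++ [4, 3, 2, 1, 0] := by decide
      rw [e]
      simp only [wprod_append]
      exact T.mul_mem (T.mul_mem (d1) d3) d1
    have e : sv 5 = wprod sv [4, 3, 2, 1, 0, 5, 4, 0, 4, 3, 2, 1, 0] := by
      apply IsTab.eq_of (hlit 5) (isTab_wprod sv lit hlit _)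
      have : ∀ x : Fin 24, lit 5 x = wtab lit [4, 3, 2, 1, 0, 5, 4, 0, 4, 3, 2, 1, 0] x := by decide +kernel
      exact fun x hx => this ⟨x, hx⟩
    rw [e]; exact hm

theorem strongly_closed : ∀ T : Subgroup (Equiv.Perm GolayPt), T ≤ Hs sv 6 → T ≠ ⊥ →
    (∀ x ∈ T, ∀ g ∈ Spor.M12, g * x * g⁻¹ ∈ Hs sv 6 → g * x * g⁻¹ ∈ T) → T = Hs sv 6 := by
  intro T hT hne hcl
  have hz : wprod sv (nf 6 1) ∈ T := by
    have hP : IsPGroup 2 (Hs sv 6) := IsPGroup.of_card card_S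
    have : Fact (Nat.Prime 2) := ⟨Nat.prime_two⟩
    have hnorm : (T.subgroupOf (Hs sv 6)).Normal := by
      constructor
      intro n hn g
      rw [Subgroup.mem_subgroupOf] at hn ⊢
      exact hcl _ hn _ (S_le g.2) ((Hs sv 6).mul_mem ((Hs sv 6).mul_mem g.2 n.2) ((Hs sv 6).inv_mem g.2))
    have hne' : T.subgroupOf (Hs sv 6) ≠ ⊥ := by
      obtain ⟨x, hx1⟩ := (Subgroup.ne_bot_iff_exists_ne_one).mp hne
      intro hbot
      have hmem : (⟨x.1, hT x.2⟩ : Hs sv 6) ∈ T.subgroupOf (Hs sv 6) := Subgroup.mem_subgroupOf.mpr x.2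
      rw [hbot, Subgroup.mem_bot] at hmem
      apply hx1
      exact Subtype.ext (by have := congrArg Subtype.val hmem; simpa using this)
    obtain ⟨c, hcN, hcZ, hc1⟩ := exists_central_of_normal hP (T.subgroupOf (Hs sv 6)) hne'
    rw [Subgroup.mem_subgroupOf] at hcN
    rw [Subgroup.mem_center_iff] at hcZ
    have hcomm : ∀ j < 6, (c : Equiv.Perm GolayPt) * sv j = sv j * c := by
      intro j hj
      have := hcZ ⟨sv j, sv_mem_Hs sv hj⟩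
      exact (congrArg Subtype.val this).symm
    rcases center_Hs hlit 6 1 (hnf 6 le_rfl) cent_check c c.2 hcomm with h1 | h1
    · exact absurd (Subtype.ext h1) hc1
    · rw [← h1]; exact hcN
  have hall := all_mem T hcl hz
  apply le_antisymm hT
  unfold Hs
  rw [Subgroup.closure_le]
  rintro x ⟨j, hj, rfl⟩
  exact hall j hj

end Cfsg.Agent.Lib.Helper10.SylM12
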