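import Cfsg.Agent.Lib.Helper10.SylM24Q
import Cfsg.Agent.Lib.Helper03.PGroupFrattini

set_option autoImplicit false
set_option maxRecDepth 1000000

/-! ### The central quotient of the Sylow 2-subgroup of `M24`: maximal subgroups and abelian
subgroups of order 64 -/

namespace Cfsg.Agent.Lib.Helper10.SylM24Q

open Cfsg Cfsg.Agent.Lib.Helper10

/-! #### Counting helpers -/

theorem card_le_of_forall_mem_list {α : Type*} (s : Set α) (L : List α) (h : ∀ x ∈ s, x ∈ L) :
    Nat.card s ≤ L.length := by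
  classical
  have hsub : s ⊆ (↑L.toFinset : Set α) := by
    intro x hx
    simp only [Finset.mem_coe, List.mem_toFinset]
    exact h x hx
  calc Nat.card s = s.ncard := Nat.card_coe_set_eq s
    _ ≤ (↑L.toFinset : Set α).ncard := Set.ncard_le_ncard hsub (Finset.finite_toSet _)
    _ = L.toFinset.card := Set.ncard_coe_finset _
    _ ≤ L.length := List.toFinset_card_le L

theorem card_le_fibers {G : Type*} [Group G] [Finite G] (A Q : Subgroup G) (r : ℕ → G)
    (tp : G → ℕ) (T : Finset ℕ) (hT : ∀ x ∈ A, tp x ∈ T)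
    (hsplit : ∀ x : G, ∃ q ∈ Q, x = r (tp x) * q) :
    Nat.card ↥A ≤ Nat.card ↥(A ⊓ Q : Subgroup G) * T.card := by
  classical
  have : Fintype G := Fintype.ofFinite G
  have hs : Nat.card ↥A = (Finset.univ.filter (· ∈ A)).card :=
    Nat.subtype_card _ (fun x => by simp)
  have ht : Nat.card ↥(A ⊓ Q : Subgroup G) = (Finset.univ.filter (· ∈ A ⊓ Q)).card :=
    Nat.subtype_card _ (fun x => by simp)
  rw [hs, ht]
  apply Finset.card_le_mul_card_image_of_maps_to (f := tp) (t := T)
  · intro a ha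
    exact hT a (Finset.mem_filter.mp ha).2
  · intro b _
    rcases Finset.eq_empty_or_nonempty ((Finset.univ.filter (· ∈ A)).filter (fun a => tp a = b))
      with hb | hb
    · rw [hb]; simp
    · obtain ⟨x0, hx0⟩ := hb
      rw [Finset.mem_filter, Finset.mem_filter] at hx0
      obtain ⟨⟨_, hx0A⟩, hx0b⟩ := hx0
      apply Finset.card_le_card_of_injOn (fun x => x0⁻¹ * x)
      · intro x hx
        rw [Finset.mem_coe, Finset.mem_filter, Finset.mem_filter] at hx
        obtain ⟨⟨_, hxA⟩, hxb⟩ := hx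
        rw [Finset.mem_coe, Finset.mem_filter]
        refine ⟨Finset.mem_univ _, A.mul_mem (A.inv_mem hx0A) hxA, ?_⟩
        obtain ⟨q0, hq0, e0⟩ := hsplit x0
        obtain ⟨q, hq, e⟩ := hsplit x
        rw [hx0b] at e0
        rw [hxb] at e
        have : x0⁻¹ * x = q0⁻¹ * q := by
          rw [e0, e]; group
        show x0⁻¹ * x ∈ Q
        rw [this]
        exact Q.mul_mem (Q.inv_mem hq0) hq
      · intro x _ y _ h
        exact mul_left_cancel h

/-! #### The image of the extraspecial subgroup -/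

theorem el_even (m : ℕ) (hm : m < 1024) : el m = el (2 * (m / 2)) := by
  have := (elp_eq_iff [m] [2 * (m / 2)]).mpr (even_check ⟨m, hm⟩)
  rwa [elp_single, elp_single] at this

theorem Q_le : Hs uv 7 ≤ TT := Hs_mono uv (by norm_num)

/-- the image of the extraspecial subgroup of order `2^7` in the central quotient. -/
noncomputable def QQ : Subgroup SS :=
  ((Hs uv 7).subgroupOf TT).map (QuotientGroup.mk' (Subgroup.center ↥TT))

theorem coe_ev (m : ℕ) : ((ev m : ↥TT) : Equiv.Perm GolayPt) = wprod uv (nf 10 m) := by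
  unfold ev
  rw [coe_wprod_gv]

theorem ev_mem_Q (m : ℕ) (hm : m < 128) : ev m ∈ (Hs uv 7).subgroupOf TT := by
  rw [Subgroup.mem_subgroupOf, coe_ev]
  have : nf 10 m = nf 7 m := nf_add_of_lt 7 3 m (by norm_num; exact hm)
  rw [this]
  exact nfprod_mem_Hs uv 7 m

theorem mem_QQ_iff (s : SS) : s ∈ QQ ↔ ∃ n < 64, s = el (2 * n) := by
  constructor
  · rintro ⟨x, hx, rfl⟩
    rw [SetLike.mem_coe, Subgroup.mem_subgroupOf] at hx
    obtain ⟨m, hm, e⟩ := uhnf 7 (by norm_num) x.1 hx
    have hm' : m < 128 := by norm_num at hm; exact hm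
    have hx' : x = ev m := by
      apply Subtype.ext
      rw [e, coe_ev, nf_add_of_lt 7 3 m (by norm_num; exact hm')]
    refine ⟨m / 2, by omega, ?_⟩
    rw [hx']
    exact el_even m (by omega)
  · rintro ⟨n, hn, rfl⟩
    exact ⟨ev (2 * n), ev_mem_Q _ (by omega), rfl⟩

theorem card_QQ : Nat.card ↥QQ = 64 := by
  have h1 : Nat.card ↥((Hs uv 7).subgroupOf TT) = 128 := by
    rw [Nat.card_congr (Subgroup.subgroupOfEquivOfLe Q_le).toEquiv, card_Q]
    norm_num
  have h2 : ((Hs uv 7).subgroupOf TT).index = 8 := by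
    have := ((Hs uv 7).subgroupOf TT).card_mul_index
    rw [h1, card_TT] at this
    omega
  have h3 : QQ.index = 8 := by
    have hker : (QuotientGroup.mk' (Subgroup.center ↥TT)).ker ≤ (Hs uv 7).subgroupOf TT := by
      rw [QuotientGroup.ker_mk']
      intro x hx
      rcases (mem_center_iff x).mp hx with rfl | rfl
      · exact Subgroup.one_mem _
      · exact ev_mem_Q 1 (by norm_num)
    unfold QQ
    rw [Subgroup.index_map_eq _ (QuotientGroup.mk'_surjective _) hker, h2]
  have := QQ.card_mul_index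
  rw [h3, card_SS] at this
  omega

theorem sq_check : ∀ n : Fin 64, elEq [2 * n.1, 2 * n.1] [] = true := by decide +kernel

theorem QQ_sq (s : SS) (hs : s ∈ QQ) : s * s = 1 := by
  obtain ⟨n, hn, rfl⟩ := (mem_QQ_iff s).mp hs
  have := (elp_eq_iff [2 * n, 2 * n] []).mpr (sq_check ⟨n, hn⟩)
  rwa [elp_pair, elp_nil] at this

theorem QQ_comm (s t : SS) (hs : s ∈ QQ) (ht : t ∈ QQ) : s * t = t * s := by
  have h1 := QQ_sq s hs
  have h2 := QQ_sq t ht
  have h3 := QQ_sq (s * t) (QQ.mul_mem hs ht)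
  have e1 : s⁻¹ = s := inv_eq_of_mul_eq_one_left h1
  have e2 : t⁻¹ = t := inv_eq_of_mul_eq_one_left h2
  have e3 : (s * t)⁻¹ = s * t := inv_eq_of_mul_eq_one_left h3
  rw [mul_inv_rev, e1, e2] at e3
  exact e3.symm

/-- the second claim: an elementary abelian subgroup of order 64. -/
theorem claim_two : Cfsg.IsElementaryAbelian 2 QQ ∧ Nat.card ↥QQ = 64 := by
  refine ⟨⟨⟨⟨fun a b => Subtype.ext (QQ_comm a.1 b.1 a.2 b.2)⟩⟩, fun a ha => ?_⟩, card_QQ⟩
  rw [pow_two]
  exact QQ_sq a ha

/-! #### Uniqueness of the abelian subgroup of order 64 -/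

/-- the masks `n < 64` with `el (2 n)` commuting with the coset representative `el (128 t)`. -/
def LLlit (t : ℕ) : List ℕ := match t with
  | 1 => [0, 1, 2, 3, 4, 5, 6, 7, 8, 9, 10, 11, 12, 13, 14, 15]
  | 2 => [0, 1, 2, 3, 4, 5, 6, 7, 32, 33, 34, 35, 36, 37, 38, 39]
  | 3 => [0, 1, 2, 3, 4, 5, 6, 7, 40, 41, 42, 43, 44, 45, 46, 47]
  | 4 => [0, 1, 2, 3, 8, 9, 10, 11, 16, 17, 18, 19, 24, 25, 26, 27]
  | 5 => [0, 1, 2, 3, 8, 9, 10, 11, 20, 21, 22, 23, 28, 29, 30, 31]
  | 6 => [0, 1, 2, 3]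
  | 7 => [0, 1, 2, 3]
  | _ => []

theorem LL_check : ∀ t : Fin 8, ∀ n : Fin 64, t.1 ≠ 0 →
    elEq [128 * t.1, 2 * n.1] [2 * n.1, 128 * t.1] = true → n.1 ∈ LLlit t.1 := by decide +kernel

theorem LL_len : ∀ t : Fin 8, (LLlit t.1).length ≤ 16 := by decide +kernel

theorem LL6_len : (LLlit 6).length ≤ 4 := by decide +kernel

theorem LL2_len : ∀ t t' : Fin 8, t.1 ≠ 0 → t'.1 ≠ 0 → t.1 ≠ t'.1 →
    ((LLlit t.1).filter (fun n => decide (n ∈ LLlit t'.1))).length ≤ 8 := by decide +kernel

/-- a coset index of an element with respect to the image of the extraspecial subgroup. -/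
noncomputable def tp (s : SS) : ℕ := Classical.choose (el_split s)

theorem tp_spec (s : SS) : tp s < 8 ∧ ∃ n < 64, s = el (128 * tp s) * el (2 * n) :=
  Classical.choose_spec (el_split s)

theorem mem_LL_of_commute {A : Subgroup SS} (hcomm : ∀ x ∈ A, ∀ y ∈ A, x * y = y * x) {x : SS}
    (hx : x ∈ A) (hx0 : tp x ≠ 0) {n : ℕ} (hn : n < 64) (hqA : el (2 * n) ∈ A) :
    n ∈ LLlit (tp x) := by
  obtain ⟨ht, n0, hn0, e⟩ := tp_spec x
  have hqQ : el (2 * n) ∈ QQ := (mem_QQ_iff _).mpr ⟨n, hn, rfl⟩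
  have hq0 : el (2 * n0) ∈ QQ := (mem_QQ_iff _).mpr ⟨n0, hn0, rfl⟩
  have h1 : el (128 * tp x) = x * (el (2 * n0))⁻¹ := eq_mul_inv_of_mul_eq e.symm
  have c1 : Commute x (el (2 * n)) := hcomm x hx _ hqA
  have c2 : Commute (el (2 * n0)) (el (2 * n)) := QQ_comm _ _ hq0 hqQ
  have c3 : Commute (el (128 * tp x)) (el (2 * n)) := by
    rw [h1]
    exact c1.mul_left c2.inv_left
  exact LL_check ⟨tp x, ht⟩ ⟨n, hn⟩ hx0 ((commute_el_iff _ _).mp c3)

/-- the third claim: an abelian subgroup of order 64 is the image of the extraspecial subgroup. -/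
theorem eq_QQ_of_comm (A : Subgroup SS) (hc : IsMulCommutative ↥A) (hA : Nat.card ↥A = 64) :
    A = QQ := by
  classical
  have hcomm : ∀ x ∈ A, ∀ y ∈ A, x * y = y * x := fun x hx y hy =>
    congrArg Subtype.val (hc.is_comm.comm ⟨x, hx⟩ ⟨y, hy⟩)
  by_contra hne
  have hnle : ¬ A ≤ QQ := fun hle =>
    hne (Subgroup.eq_of_le_of_card_ge hle (by rw [card_QQ, hA]))
  obtain ⟨a, haA, haQ⟩ := SetLike.not_le_iff_exists.mp hnle
  have ha0 : tp a ≠ 0 := by
    intro h0
    obtain ⟨_, n0, hn0, e⟩ := tp_spec a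
    rw [h0, Nat.mul_zero, el_zero, one_mul] at e
    exact haQ ((mem_QQ_iff a).mpr ⟨n0, hn0, e⟩)
  have hsplit : ∀ x : SS, ∃ q ∈ QQ, x = (fun t => el (128 * t)) (tp x) * q := by
    intro x
    obtain ⟨_, n0, hn0, e⟩ := tp_spec x
    exact ⟨el (2 * n0), (mem_QQ_iff _).mpr ⟨n0, hn0, rfl⟩, e⟩
  have hI1 : ∀ x ∈ A, tp x ≠ 0 →
      Nat.card ↥(A ⊓ QQ : Subgroup SS) ≤ (LLlit (tp x)).length := by
    intro x hx hx0
    have := card_le_of_forall_mem_list ((A ⊓ QQ : Subgroup SS) : Set SS)
      ((LLlit (tp x)).map (fun n => el (2 * n))) (by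
        intro q hq
        obtain ⟨n, hn, e⟩ := (mem_QQ_iff q).mp hq.2
        rw [e]
        rw [e] at hq
        exact List.mem_map.mpr ⟨n, mem_LL_of_commute hcomm hx hx0 hn hq.1, rfl⟩)
    rwa [List.length_map] at this
  have hI2 : ∀ x ∈ A, ∀ y ∈ A, tp x ≠ 0 → tp y ≠ 0 → tp x ≠ tp y →
      Nat.card ↥(A ⊓ QQ : Subgroup SS) ≤ 8 := by
    intro x hx y hy hx0 hy0 hxy
    have := card_le_of_forall_mem_list ((A ⊓ QQ : Subgroup SS) : Set SS)
      (((LLlit (tp x)).filter (fun n => decide (n ∈ LLlit (tp y)))).map (fun n => el (2 * n))) (by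
        intro q hq
        obtain ⟨n, hn, e⟩ := (mem_QQ_iff q).mp hq.2
        rw [e]
        rw [e] at hq
        refine List.mem_map.mpr ⟨n, List.mem_filter.mpr
          ⟨mem_LL_of_commute hcomm hx hx0 hn hq.1, ?_⟩, rfl⟩
        rw [decide_eq_true_eq]
        exact mem_LL_of_commute hcomm hy hy0 hn hq.1)
    rw [List.length_map] at this
    exact le_trans this (LL2_len ⟨tp x, (tp_spec x).1⟩ ⟨tp y, (tp_spec y).1⟩ hx0 hy0 hxy)
  by_cases hγ : ∃ a' ∈ A, tp a' ≠ 0 ∧ tp a' ≠ tp a
  · obtain ⟨a', ha'A, ha'0, hne'⟩ := hγ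
    have hI : Nat.card ↥(A ⊓ QQ : Subgroup SS) ≤ 8 := hI2 a haA a' ha'A ha0 ha'0 (Ne.symm hne')
    by_cases h6 : ∃ a6 ∈ A, tp a6 = 6
    · obtain ⟨a6, h6A, h6⟩ := h6
      have hI' : Nat.card ↥(A ⊓ QQ : Subgroup SS) ≤ 4 := by
        have := hI1 a6 h6A (by rw [h6]; norm_num)
        rw [h6] at this
        exact le_trans this LL6_len
      have := card_le_fibers A QQ (fun t => el (128 * t)) tp (Finset.range 8)
        (fun x _ => Finset.mem_range.mpr (tp_spec x).1) hsplit
      rw [hA, Finset.card_range] at this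
      omega
    · have := card_le_fibers A QQ (fun t => el (128 * t)) tp ((Finset.range 8).erase 6)
        (fun x hx => by
          rw [Finset.mem_erase, Finset.mem_range]
          exact ⟨fun h => h6 ⟨x, hx, h⟩, (tp_spec x).1⟩) hsplit
      rw [hA, Finset.card_erase_of_mem (by simp), Finset.card_range] at this
      omega
  · push Not at hγ
    have hI : Nat.card ↥(A ⊓ QQ : Subgroup SS) ≤ 16 :=
      le_trans (hI1 a haA ha0) (LL_len ⟨tp a, (tp_spec a).1⟩)
    have := card_le_fibers A QQ (fun t => el (128 * t)) tp ({0, tp a} : Finset ℕ)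
      (fun x hx => by
        by_cases h0 : tp x = 0
        · simp [h0]
        · simp [hγ x hx h0]) hsplit
    have h2 : ({0, tp a} : Finset ℕ).card ≤ 2 := Finset.card_le_two
    rw [hA] at this
    have := le_trans this (Nat.mul_le_mul hI h2)
    omega

/-! #### Centres of maximal subgroups -/

theorem isPGroup_SS : IsPGroup 2 SS := isPGroup_TT.to_quotient _

theorem phi_check : elEq [520, 520] [2] = true ∧ elEq [192, 192] [4] = true ∧
    elEq [288, 288] [8] = true ∧ elEq [576, 576] [16] = true ∧ elEq [768, 768] [128] = true := by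
  decide +kernel

theorem sq_mem_of_check {M : Subgroup SS} (h2 : M.index = 2) {r g : ℕ}
    (h : elEq [r, r] [g] = true) : el g ∈ M := by
  have e := (elp_eq_iff [r, r] [g]).mpr h
  rw [elp_pair, elp_single] at e
  rw [← e, ← pow_two]
  exact Subgroup.sq_mem_of_index_two h2 _

theorem phi_mem {M : Subgroup SS} (h2 : M.index = 2) :
    el 2 ∈ M ∧ el 4 ∈ M ∧ el 8 ∈ M ∧ el 16 ∈ M ∧ el 128 ∈ M :=
  ⟨sq_mem_of_check h2 phi_check.1, sq_mem_of_check h2 phi_check.2.1,
    sq_mem_of_check h2 phi_check.2.2.1, sq_mem_of_check h2 phi_check.2.2.2.1,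
    sq_mem_of_check h2 phi_check.2.2.2.2⟩

theorem pair_check : elEq [96] [64, 32] = true ∧ elEq [288] [256, 32] = true ∧
    elEq [544] [512, 32] = true ∧ elEq [320] [256, 64] = true ∧ elEq [576] [512, 64] = true ∧
    elEq [768] [512, 256] = true := by
  decide +kernel

theorem pair_mem {M : Subgroup SS} (h2 : M.index = 2) {a b c : ℕ}
    (hc : elEq [c] [a, b] = true) (ha : el a ∉ M) (hb : el b ∉ M) : el c ∈ M := by
  have e := (elp_eq_iff [c] [a, b]).mpr hc
  rw [elp_single, elp_pair] at e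
  rw [e]
  exact (Subgroup.mul_mem_iff_of_index_two h2).mpr (iff_of_false ha hb)

/-- the masks `m < 512` with `el (2 m)` commuting with the generators of the Frattini subgroup. -/
def L0 : List ℕ := [0, 1, 2, 3, 4, 5, 6, 7, 8, 9, 10, 11, 12, 13, 14, 15,
  64, 65, 66, 67, 68, 69, 70, 71, 72, 73, 74, 75, 76, 77, 78, 79]

theorem L0_check : ∀ m : Fin 512,
    ([2, 4, 8, 16, 128].all fun g => elEq [2 * m.1, g] [g, 2 * m.1]) = true → m.1 ∈ L0 := by
  decide +kernel

/-- the candidates for central elements of a maximal subgroup containing the given elements. -/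
def cand (gs : List ℕ) : List ℕ := L0.filter fun m => gs.all fun g => elEq [2 * m, g] [g, 2 * m]

theorem center_card_le (M : Subgroup SS) (gs : List ℕ)
    (hphi : el 2 ∈ M ∧ el 4 ∈ M ∧ el 8 ∈ M ∧ el 16 ∈ M ∧ el 128 ∈ M)
    (hgs : ∀ g ∈ gs, el g ∈ M) : Nat.card ↥(Subgroup.center ↥M) ≤ (cand gs).length := by
  classical
  have key : ∀ c : ↥M, c ∈ Subgroup.center ↥M →
      (c : SS) ∈ (cand gs).map (fun m => el (2 * m)) := by
    intro c hc
    rw [Subgroup.mem_center_iff] at hc
    obtain ⟨m, hm, e⟩ := el_surj (c : SS)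
    have hcm : ∀ g, el g ∈ M → elEq [2 * m, g] [g, 2 * m] = true := by
      intro g hg
      rw [← commute_el_iff, ← e]
      have := hc ⟨el g, hg⟩
      exact (congrArg Subtype.val this).symm
    refine List.mem_map.mpr ⟨m, List.mem_filter.mpr ⟨L0_check ⟨m, hm⟩ ?_, ?_⟩, e.symm⟩
    · simp only [List.all_cons, List.all_nil, Bool.and_true, Bool.and_eq_true]
      exact ⟨hcm 2 hphi.1, hcm 4 hphi.2.1, hcm 8 hphi.2.2.1, hcm 16 hphi.2.2.2.1,
        hcm 128 hphi.2.2.2.2⟩
    · rw [List.all_eq_true]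
      intro g hg
      exact hcm g (hgs g hg)
  have := card_le_of_forall_mem_list
    (Set.range (fun c : ↥(Subgroup.center ↥M) => ((c : ↥M) : SS)))
    ((cand gs).map (fun m => el (2 * m))) (by
      rintro _ ⟨c, rfl⟩
      exact key c.1 c.2)
  rw [List.length_map] at this
  refine le_trans (le_of_eq ?_) this
  rw [Nat.card_range_of_injective]
  exact Subtype.val_injective.comp Subtype.val_injective

theorem wprod_mem_sub {G : Type*} [Group G] (H : Subgroup G) (v : ℕ → G) (w : List ℕ)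
    (h : ∀ k ∈ w, v k ∈ H) : wprod v w ∈ H := by
  induction w with
  | nil => exact H.one_mem
  | cons k w ih =>
    exact H.mul_mem (h k List.mem_cons_self) (ih (fun j hj => h j (List.mem_cons_of_mem _ hj)))

theorem map_wprod_hom {G H : Type*} [Group G] [Group H] (f : G →* H) (v : ℕ → G) (w : List ℕ) :
    f (wprod v w) = wprod (fun k => f (v k)) w := by
  induction w with
  | nil => exact map_one f
  | cons k w ih =>
    show f (v k * wprod v w) = f (v k) * wprod (fun k => f (v k)) w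
    rw [map_mul, ih]

theorem nf_pow_check : ∀ j : Fin 10, nf 10 (2 ^ j.1) = [j.1] := by decide +kernel

theorem gv_eq (j : ℕ) (hj : j < 10) : gv j = ev (2 ^ j) := by
  unfold ev
  rw [nf_pow_check ⟨j, hj⟩]
  show gv j = gv j * 1
  rw [mul_one]

theorem el_one : el 1 = 1 := by
  unfold el
  rw [QuotientGroup.eq_one_iff]
  exact ev_one_mem_center

theorem top_of_gens {M : Subgroup SS}
    (hphi : el 2 ∈ M ∧ el 4 ∈ M ∧ el 8 ∈ M ∧ el 16 ∈ M ∧ el 128 ∈ M)
    (h5 : el 32 ∈ M) (h6 : el 64 ∈ M) (h8 : el 256 ∈ M) (h9 : el 512 ∈ M) : M = ⊤ := by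
  rw [eq_top_iff]
  intro s _
  obtain ⟨m, _, rfl⟩ := el_surj s
  show (QuotientGroup.mk' (Subgroup.center ↥TT)) (ev (2 * m)) ∈ M
  unfold ev
  rw [map_wprod_hom]
  apply wprod_mem_sub
  intro k hk
  have hk10 : k < 10 := nf_lt 10 _ k hk
  show (QuotientGroup.mk' (Subgroup.center ↥TT)) (gv k) ∈ M
  rw [gv_eq k hk10]
  show el (2 ^ k) ∈ M
  interval_cases k
  · show el 1 ∈ M
    rw [el_one]
    exact M.one_mem
  · exact hphi.1
  · exact hphi.2.1
  · exact hphi.2.2.1
  · exact hphi.2.2.2.1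
  · exact h5
  · exact h6
  · exact hphi.2.2.2.2
  · exact h8
  · exact h9

/-- the first claim: the centre of a maximal subgroup has order at most 8. -/
theorem center_coatom_le (M : Subgroup SS) (hM : IsCoatom M) :
    Nat.card ↥(Subgroup.center ↥M) ≤ 8 := by
  have : Fact (Nat.Prime 2) := ⟨Nat.prime_two⟩
  have h2 : M.index = 2 :=
    Cfsg.Agent.Lib.Helper03.index_of_isCoatom_of_isPGroup isPGroup_SS hM
  have hphi := phi_mem h2
  by_cases h5 : el 32 ∈ M <;> by_cases h6 : el 64 ∈ M <;> by_cases h8 : el 256 ∈ M <;>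
    by_cases h9 : el 512 ∈ M
  · exact absurd (top_of_gens hphi h5 h6 h8 h9) hM.1
  · refine le_trans (center_card_le M [32, 64, 256] hphi ?_) (by decide +kernel)
    intro g hg
    simp only [List.mem_cons, List.mem_nil_iff, or_false] at hg
    rcases hg with rfl | rfl | rfl
    exacts [h5, h6, h8]
  · refine le_trans (center_card_le M [32, 64, 512] hphi ?_) (by decide +kernel)
    intro g hg
    simp only [List.mem_cons, List.mem_nil_iff, or_false] at hg
    rcases hg with rfl | rfl | rfl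
    exacts [h5, h6, h9]
  · refine le_trans (center_card_le M [32, 64, 768] hphi ?_) (by decide +kernel)
    intro g hg
    simp only [List.mem_cons, List.mem_nil_iff, or_false] at hg
    rcases hg with rfl | rfl | rfl
    exacts [h5, h6, pair_mem h2 pair_check.2.2.2.2.2 h9 h8]
  · refine le_trans (center_card_le M [32, 256, 512] hphi ?_) (by decide +kernel)
    intro g hg
    simp only [List.mem_cons, List.mem_nil_iff, or_false] at hg
    rcases hg with rfl | rfl | rfl
    exacts [h5, h8, h9]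
  · refine le_trans (center_card_le M [32, 256, 576] hphi ?_) (by decide +kernel)
    intro g hg
    simp only [List.mem_cons, List.mem_nil_iff, or_false] at hg
    rcases hg with rfl | rfl | rfl
    exacts [h5, h8, pair_mem h2 pair_check.2.2.2.2.1 h9 h6]
  · refine le_trans (center_card_le M [32, 512, 320] hphi ?_) (by decide +kernel)
    intro g hg
    simp only [List.mem_cons, List.mem_nil_iff, or_false] at hg
    rcases hg with rfl | rfl | rfl
    exacts [h5, h9, pair_mem h2 pair_check.2.2.2.1 h8 h6]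
  · refine le_trans (center_card_le M [32, 320, 576, 768] hphi ?_) (by decide +kernel)
    intro g hg
    simp only [List.mem_cons, List.mem_nil_iff, or_false] at hg
    rcases hg with rfl | rfl | rfl | rfl
    exacts [h5, pair_mem h2 pair_check.2.2.2.1 h8 h6, pair_mem h2 pair_check.2.2.2.2.1 h9 h6, pair_mem h2 pair_check.2.2.2.2.2 h9 h8]
  · refine le_trans (center_card_le M [64, 256, 512] hphi ?_) (by decide +kernel)
    intro g hg
    simp only [List.mem_cons, List.mem_nil_iff, or_false] at hg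
    rcases hg with rfl | rfl | rfl
    exacts [h6, h8, h9]
  · refine le_trans (center_card_le M [64, 256, 544] hphi ?_) (by decide +kernel)
    intro g hg
    simp only [List.mem_cons, List.mem_nil_iff, or_false] at hg
    rcases hg with rfl | rfl | rfl
    exacts [h6, h8, pair_mem h2 pair_check.2.2.1 h9 h5]
  · refine le_trans (center_card_le M [64, 512, 288] hphi ?_) (by decide +kernel)
    intro g hg
    simp only [List.mem_cons, List.mem_nil_iff, or_false] at hg
    rcases hg with rfl | rfl | rfl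
    exacts [h6, h9, pair_mem h2 pair_check.2.1 h8 h5]
  · refine le_trans (center_card_le M [64, 288, 544, 768] hphi ?_) (by decide +kernel)
    intro g hg
    simp only [List.mem_cons, List.mem_nil_iff, or_false] at hg
    rcases hg with rfl | rfl | rfl | rfl
    exacts [h6, pair_mem h2 pair_check.2.1 h8 h5, pair_mem h2 pair_check.2.2.1 h9 h5, pair_mem h2 pair_check.2.2.2.2.2 h9 h8]
  · refine le_trans (center_card_le M [256, 512, 96] hphi ?_) (by decide +kernel)
    intro g hg
    simp only [List.mem_cons, List.mem_nil_iff, or_false] at hg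
    rcases hg with rfl | rfl | rfl
    exacts [h8, h9, pair_mem h2 pair_check.1 h6 h5]
  · refine le_trans (center_card_le M [256, 96, 544, 576] hphi ?_) (by decide +kernel)
    intro g hg
    simp only [List.mem_cons, List.mem_nil_iff, or_false] at hg
    rcases hg with rfl | rfl | rfl | rfl
    exacts [h8, pair_mem h2 pair_check.1 h6 h5, pair_mem h2 pair_check.2.2.1 h9 h5, pair_mem h2 pair_check.2.2.2.2.1 h9 h6]
  · refine le_trans (center_card_le M [512, 96, 288, 320] hphi ?_) (by decide +kernel)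
    intro g hg
    simp only [List.mem_cons, List.mem_nil_iff, or_false] at hg
    rcases hg with rfl | rfl | rfl | rfl
    exacts [h9, pair_mem h2 pair_check.1 h6 h5, pair_mem h2 pair_check.2.1 h8 h5, pair_mem h2 pair_check.2.2.2.1 h8 h6]
  · refine le_trans (center_card_le M [96, 288, 544, 320, 576, 768] hphi ?_) (by decide +kernel)
    intro g hg
    simp only [List.mem_cons, List.mem_nil_iff, or_false] at hg
    rcases hg with rfl | rfl | rfl | rfl | rfl | rfl
    exacts [pair_mem h2 pair_check.1 h6 h5, pair_mem h2 pair_check.2.1 h8 h5, pair_mem h2 pair_check.2.2.1 h9 h5, pair_mem h2 pair_check.2.2.2.1 h8 h6, pair_mem h2 pair_check.2.2.2.2.1 h9 h6, pair_mem h2 pair_check.2.2.2.2.2 h9 h8]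

end Cfsg.Agent.Lib.Helper10.SylM24Q
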