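import Cfsg.Agent.Lib.Helper10.SylM24R

set_option autoImplicit false

/-! ### Transport of the statements on the central quotient of the Sylow 2-subgroup of `M24` to
an arbitrary Sylow 2-subgroup -/

namespace Cfsg.Agent.Lib.Helper10.SylM24Q

open Cfsg Cfsg.Agent.Lib.Helper10

theorem map_center_of_equiv {X Y : Type*} [Group X] [Group Y] (e : X ≃* Y) :
    (Subgroup.center X).map (e : X →* Y) = Subgroup.center Y := by
  ext y
  constructor
  · rintro ⟨x, hx, rfl⟩
    rw [SetLike.mem_coe] at hx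
    rw [Subgroup.mem_center_iff] at hx ⊢
    intro g
    obtain ⟨g', rfl⟩ := e.surjective g
    show e g' * e x = e x * e g'
    rw [← map_mul, ← map_mul, hx g']
  · intro hy
    refine ⟨e.symm y, ?_, by simp⟩
    rw [SetLike.mem_coe]
    rw [Subgroup.mem_center_iff] at hy ⊢
    intro g
    apply e.injective
    rw [map_mul, map_mul, e.apply_symm_apply]
    exact hy (e g)

theorem comm_map_of_comm {S S' : Type*} [Group S] [Group S'] (f : S ≃* S') (A : Subgroup S)
    (hA : IsMulCommutative ↥A) : IsMulCommutative ↥(A.map (f : S →* S')) := by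
  refine ⟨⟨fun x y => ?_⟩⟩
  obtain ⟨a, ha, hxa⟩ := x.2
  obtain ⟨b, hb, hyb⟩ := y.2
  apply Subtype.ext
  show (x : S') * (y : S') = (y : S') * (x : S')
  rw [← hxa, ← hyb]
  have := congrArg Subtype.val (hA.is_comm.comm ⟨a, ha⟩ ⟨b, hb⟩)
  change a * b = b * a at this
  show f a * f b = f b * f a
  rw [← map_mul, ← map_mul, this]

/-- the three statements are invariant under isomorphism. -/
theorem stmt_of_equiv {S S' : Type*} [Group S] [Group S'] (f : S ≃* S') (Q' : Subgroup S')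
    (h1 : ∀ M : Subgroup S', IsCoatom M → Nat.card ↥(Subgroup.center ↥M) ≤ 8)
    (h2 : Cfsg.IsElementaryAbelian 2 Q' ∧ Nat.card ↥Q' = 64)
    (h3 : ∀ A : Subgroup S', IsMulCommutative ↥A → Nat.card ↥A = 64 → A = Q') :
    (∀ M : Subgroup S, IsCoatom M → Nat.card ↥(Subgroup.center ↥M) ≤ 8) ∧
      (∃ A : Subgroup S, Cfsg.IsElementaryAbelian 2 A ∧ Nat.card ↥A = 64) ∧
      ∀ A B : Subgroup S, IsMulCommutative ↥A → Nat.card ↥A = 64 → IsMulCommutative ↥B →
        Nat.card ↥B = 64 → A = B := by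
  refine ⟨?_, ?_, ?_⟩
  · intro M hM
    have hM' : IsCoatom (M.map (f : S →* S')) :=
      (f.mapSubgroup.isCoatom_iff M).mpr hM
    have := h1 _ hM'
    rwa [← Nat.card_congr (Subgroup.centerCongr (f.subgroupMap M)).toEquiv] at this
  · refine ⟨Q'.map (f.symm : S' →* S), ⟨comm_map_of_comm f.symm Q' h2.1.1, ?_⟩, ?_⟩
    · rintro _ ⟨q, hq, rfl⟩
      show f.symm q ^ 2 = 1
      rw [← map_pow, h2.1.2 q hq, map_one]
    · rw [Subgroup.card_map_of_injective f.symm.injective, h2.2]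
  · intro A B hA hA64 hB hB64
    have hA' := h3 (A.map (f : S →* S')) (comm_map_of_comm f A hA)
      (by rw [Subgroup.card_map_of_injective f.injective, hA64])
    have hB' := h3 (B.map (f : S →* S')) (comm_map_of_comm f B hB)
      (by rw [Subgroup.card_map_of_injective f.injective, hB64])
    exact Subgroup.map_injective f.injective (hA'.trans hB'.symm)

/-- the statements for an arbitrary Sylow 2-subgroup of `M24`. -/
theorem stmt_sylow (P : Sylow 2 ↥Cfsg.M24) :
    (∀ M : Subgroup (↥(P : Subgroup ↥Cfsg.M24) ⧸ Subgroup.center ↥(P : Subgroup ↥Cfsg.M24)),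
        IsCoatom M → Nat.card ↥(Subgroup.center ↥M) ≤ 8) ∧
      (∃ A : Subgroup (↥(P : Subgroup ↥Cfsg.M24) ⧸ Subgroup.center ↥(P : Subgroup ↥Cfsg.M24)),
        Cfsg.IsElementaryAbelian 2 A ∧ Nat.card ↥A = 64) ∧
      ∀ A B : Subgroup (↥(P : Subgroup ↥Cfsg.M24) ⧸ Subgroup.center ↥(P : Subgroup ↥Cfsg.M24)),
        IsMulCommutative ↥A → Nat.card ↥A = 64 → IsMulCommutative ↥B → Nat.card ↥B = 64 →
          A = B := by
  have : Fact (Nat.Prime 2) := ⟨Nat.prime_two⟩
  have hfac : (Nat.card ↥M24).factorization 2 = 10 :=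
    factorization_of_eq _ 2 10 239085 Nat.prime_two (by rw [card_M24]; norm_num) (by norm_num)
  have hcard : Nat.card ↥(TT.subgroupOf M24) = 2 ^ (Nat.card ↥M24).factorization 2 := by
    rw [Nat.card_congr (Subgroup.subgroupOfEquivOfLe T_le).toEquiv, card_TT, hfac]
    norm_num
  let P0 : Sylow 2 ↥M24 := Sylow.ofCard (TT.subgroupOf M24) hcard
  let e1 : ↥(P : Subgroup ↥M24) ≃* ↥(P0 : Subgroup ↥M24) := Sylow.equiv P P0
  let e2 : ↥(P0 : Subgroup ↥M24) ≃* ↥TT := Subgroup.subgroupOfEquivOfLe T_le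
  let e : ↥(P : Subgroup ↥M24) ≃* ↥TT := e1.trans e2
  let f : (↥(P : Subgroup ↥M24) ⧸ Subgroup.center ↥(P : Subgroup ↥M24)) ≃* SS :=
    QuotientGroup.congr _ _ e (map_center_of_equiv e)
  exact stmt_of_equiv f QQ center_coatom_le claim_two eq_QQ_of_comm

end Cfsg.Agent.Lib.Helper10.SylM24Q
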