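import Mathlib

set_option autoImplicit false

namespace Cfsg.Agent.Lib.Helper10

/-- if one explicit Sylow subgroup of a subgroup `M` is self-normalizing, all are. -/
theorem sylow_normalizer_eq_sub {A : Type*} [Group A] (M : Subgroup A) [Finite M] (p : ℕ)
    [Fact p.Prime] (S0 : Subgroup A) (hle : S0 ≤ M) (k : ℕ)
    (hcardS : Nat.card S0 = p ^ k) (hcardM : (Nat.card M).factorization p = k)
    (hN : ∀ g ∈ M, (∀ x ∈ S0, g * x * g⁻¹ ∈ S0) → g ∈ S0)
    (S : Sylow p M) :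
    Subgroup.normalizer ((S : Subgroup M) : Set M) = (S : Subgroup M) := by
  classical
  have hcard' : Nat.card (S0.subgroupOf M) = p ^ (Nat.card M).factorization p := by
    rw [hcardM, ← hcardS]
    exact Nat.card_congr (Subgroup.subgroupOfEquivOfLe hle).toEquiv
  obtain ⟨g, hg⟩ := MulAction.exists_smul_eq M (Sylow.ofCard (S0.subgroupOf M) hcard') S
  have hmem : ∀ x : M, x ∈ (S : Subgroup M) ↔ g⁻¹ * x * g ∈ S0.subgroupOf M := by
    intro x
    rw [← hg, Sylow.coe_subgroup_smul, Subgroup.mem_pointwise_smul_iff_inv_smul_mem]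
    show (MulAut.conj g)⁻¹ x ∈ _ ↔ _
    rw [← map_inv, MulAut.conj_apply, inv_inv]
    rfl
  apply le_antisymm
  · intro n hn
    rw [Subgroup.mem_normalizer_iff] at hn
    rw [hmem, Subgroup.mem_subgroupOf]
    apply hN _ (g⁻¹ * n * g).2
    intro y hy
    have hyM : y ∈ M := hle hy
    have h1 : g * ⟨y, hyM⟩ * g⁻¹ ∈ (S : Subgroup M) := by
      rw [hmem]
      have e : g⁻¹ * (g * ⟨y, hyM⟩ * g⁻¹) * g = ⟨y, hyM⟩ := by group
      rw [e, Subgroup.mem_subgroupOf]
      exact hy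
    have h2 := (hn _).mp h1
    rw [hmem, Subgroup.mem_subgroupOf] at h2
    have e : ((g⁻¹ * (n * (g * ⟨y, hyM⟩ * g⁻¹) * n⁻¹) * g : M) : A) =
        ((g⁻¹ * n * g : M) : A) * y * ((g⁻¹ * n * g : M) : A)⁻¹ := by
      simp only [Subgroup.coe_mul, Subgroup.coe_inv]
      group
    rw [e] at h2
    exact h2
  · exact Subgroup.le_normalizer

end Cfsg.Agent.Lib.Helper10
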