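import Cfsg.Agent.Lib.Helper10.Order
import Cfsg.Agent.S0371

set_option autoImplicit false

namespace Cfsg.Agent.Lib.Helper10

open Cfsg MulAction
open scoped Pointwise

/-! ### Index tables of permutations -/

/-- `T` is the index table of `σ`. -/
def IsTab (σ : Equiv.Perm GolayPt) (T : ℕ → ℕ) : Prop := ∀ p, idx (σ p) = T (idx p)

theorem IsTab.one : IsTab 1 id := fun _ => rfl

theorem IsTab.mul {σ τ : Equiv.Perm GolayPt} {S T : ℕ → ℕ} (hσ : IsTab σ S) (hτ : IsTab τ T) :
    IsTab (σ * τ) (S ∘ T) := by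
  intro p
  show idx (σ (τ p)) = S (T (idx p))
  rw [hσ, hτ]

theorem IsTab.pow {σ : Equiv.Perm GolayPt} {S : ℕ → ℕ} (hσ : IsTab σ S) (n : ℕ) :
    IsTab (σ ^ n) (S^[n]) := by
  induction n with
  | zero => exact IsTab.one
  | succ n ih =>
    rw [pow_succ, Function.iterate_succ]
    exact ih.mul hσ

theorem IsTab.apply_pt {σ : Equiv.Perm GolayPt} {S : ℕ → ℕ} (hσ : IsTab σ S) {i : ℕ} (hi : i < 24) :
    σ (pt i) = pt (S i) := by
  have := hσ (pt i)
  rw [idx_pt hi] at this
  rw [← this, pt_idx]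

theorem IsTab.eq_of {σ τ : Equiv.Perm GolayPt} {S T : ℕ → ℕ} (hσ : IsTab σ S) (hτ : IsTab τ T)
    (h : ∀ i < 24, S i = T i) : σ = τ := by
  ext1 p
  apply idx_injective
  rw [hσ, hτ, h _ (idx_lt p)]

theorem IsTab.tab_eq {σ : Equiv.Perm GolayPt} {S T : ℕ → ℕ} (hσ : IsTab σ S) (hτ : IsTab σ T)
    {i : ℕ} (hi : i < 24) : S i = T i := by
  have h1 := hσ (pt i)
  have h2 := hτ (pt i)
  rw [idx_pt hi] at h1 h2
  rw [← h1, ← h2]

theorem isTab_gen (g : ℕ) : IsTab (gen g) (tbl g) := fun p => gen_spec g p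

theorem isTab_gA : IsTab gA (tbl 0) := isTab_gen 0
theorem isTab_projInv : IsTab projInv (tbl 1) := isTab_gen 1
theorem isTab_cubeTwist : IsTab cubeTwist (tbl 2) := isTab_gen 2
theorem isTab_gA_inv : IsTab gA⁻¹ (tbl 3) := isTab_gen 3
theorem isTab_cubeTwist_inv : IsTab cubeTwist⁻¹ (tbl 4) := isTab_gen 4

/-! ### Products along words, with tables -/

/-- the product of the values `v k` along the word `w`. -/
def wprod {G : Type*} [Monoid G] (v : ℕ → G) : List ℕ → G
  | [] => 1
  | k :: w => v k * wprod v w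

/-- the composite of the tables `T k` along the word `w`. -/
def wtab (T : ℕ → ℕ → ℕ) : List ℕ → ℕ → ℕ
  | [], i => i
  | k :: w, i => T k (wtab T w i)

theorem isTab_wprod (v : ℕ → Equiv.Perm GolayPt) (T : ℕ → ℕ → ℕ) (h : ∀ k, IsTab (v k) (T k))
    (w : List ℕ) : IsTab (wprod v w) (wtab T w) := by
  induction w with
  | nil => exact IsTab.one
  | cons k w ih => exact (h k).mul ih

theorem map_wprod {G G' : Type*} [Monoid G] [Monoid G'] (f : G →* G') (v : ℕ → G) (w : List ℕ) :
    f (wprod v w) = wprod (fun k => f (v k)) w := by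
  induction w with
  | nil => exact map_one f
  | cons k w ih =>
    show f (v k * wprod v w) = f (v k) * wprod (fun k => f (v k)) w
    rw [map_mul, ih]

/-! ### Pulling back masks along a table -/

/-- the mask of the points whose image under the table lies in `b`. -/
def pull (T : ℕ → ℕ) (b : ℕ) : ℕ := Nat.ofBits (fun j : Fin 24 => b.testBit (T j))

theorem pull_lt (T : ℕ → ℕ) (b : ℕ) : pull T b < 2 ^ 24 := Nat.ofBits_lt_two_pow _

theorem permWord_inv_vec {τ : Equiv.Perm GolayPt} {T : ℕ → ℕ} (hτ : IsTab τ T) (b : ℕ) :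
    permWord τ⁻¹ (vec b) = vec (pull T b) := by
  funext p
  rw [permWord_apply]
  show vec b (τ p) = vec (pull T b) p
  rw [vec_apply, vec_apply, hτ p]
  unfold pull
  rw [Nat.testBit_ofBits_lt _ _ (idx_lt p)]

theorem pull_mem {τ : Equiv.Perm GolayPt} {T : ℕ → ℕ} (hτ : IsTab τ T) (hM : τ ∈ M24) {b : ℕ}
    (hb : vec b ∈ golayCode) : enc (pull T b) = pull T b := by
  have h1 := (mem_M24_iff τ⁻¹).mp (M24.inv_mem hM) (vec b) hb
  rw [permWord_inv_vec hτ] at h1
  exact (vec_mem_golayCode_iff (pull_lt T b)).mp h1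

/-! ### The multiplication by two -/

/-- the residue five as a unit. -/
def v5 : (ZMod 23)ˣ := ⟨5, 14, by decide, by decide⟩

/-- the map `x ↦ 2 x` (`2 = 5 ^ 2` is a square), fixing the extra point. -/
noncomputable def gM : Equiv.Perm GolayPt := Equiv.optionCongr (Units.mulLeft (v5 * v5))

theorem gM_mem : gM ∈ M24 := Cfsg.Agent.S0371.result (v5 * v5) ⟨v5, rfl⟩

/-- the table of `gM`. -/
def tblM (i : ℕ) : ℕ := if i = 23 then 23 else (2 * i) % 23

theorem gM_apply (p : GolayPt) : gM p = Option.map (fun x : ZMod 23 => 2 * x) p := by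
  cases p with
  | none => rfl
  | some x =>
    show some (((v5 * v5 : (ZMod 23)ˣ) : ZMod 23) * x) = some (2 * x)
    congr 1

theorem specM : ∀ p : GolayPt, idx (Option.map (fun x : ZMod 23 => 2 * x) p) = tblM (idx p) := by
  decide +kernel

theorem isTab_gM : IsTab gM tblM := by
  intro p
  rw [gM_apply]
  exact specM p

end Cfsg.Agent.Lib.Helper10
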