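/-
K-UC pack (S2646, architect helper73), keystone 264610 K-UC-A2: the Hankel parametrisation is injective.
-/
import Mathlib
import Cfsg.Prelude.Def_JordanBlocks
import Cfsg.Prelude.Def_LieClassical
import Cfsg.Agent.Lib.Helper73.UCDefs

set_option autoImplicit false

namespace Cfsg.Agent.Lib.Helper10.UC

open Matrix Cfsg.Agent.Lib.Helper73.UC

variable {K : Type*} [Field K]

/-- `c (l,k,s) = hankel d c (l,0) (k,s)` -/
theorem hankel_apply_zero {t : ℕ} (d : Fin t → ℕ) (c : CIdx d → K) (l k : Fin t)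
    (s : Fin (min (d l) (d k))) (hl : 0 < d l) (hk : (s : ℕ) < d k) :
    hankel d c ⟨l, ⟨0, hl⟩⟩ ⟨k, ⟨s, hk⟩⟩ = c ⟨l, k, s⟩ := by
  unfold hankel
  simp only [Matrix.of_apply]
  have h0 : (0 : ℕ) + (s : ℕ) < min (d l) (d k) := by
    have := s.2; omega
  rw [dif_pos h0]
  have hs : (⟨(0 : ℕ) + (s : ℕ), h0⟩ : Fin (min (d l) (d k))) = s := by
    apply Fin.ext
    simp
  rw [hs]

/-- LEAF A2 -/
theorem hankel_injective {t : ℕ} (d : Fin t → ℕ) :
    Function.Injective (hankel d : (CIdx d → K) → Matrix (JI d) (JI d) K) := by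
  intro c c' h
  funext p
  obtain ⟨l, k, s⟩ := p
  have hs := s.2
  have hl : 0 < d l := lt_of_le_of_lt (Nat.zero_le _) (lt_of_lt_of_le hs (min_le_left _ _))
  have hk : (s : ℕ) < d k := lt_of_lt_of_le hs (min_le_right _ _)
  rw [← hankel_apply_zero d c l k s hl hk, ← hankel_apply_zero d c' l k s hl hk, h]

end Cfsg.Agent.Lib.Helper10.UC
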