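/-
K-UNd pack (S5954, architect helper73), keystone 595407 K-UNd-AR2:
primes dividing the unitary order formula.
-/
import Mathlib
import Cfsg.Agent.Lib.Helper99.HermCount
import Cfsg.Agent.Lib.Helper51.UPar5

set_option autoImplicit false
set_option linter.unusedSectionVars false
set_option linter.unusedVariables false

namespace Cfsg.Agent.Lib.Helper10.UNd

variable {q : ℕ}

/-- AR2 (595407), first part -/
theorem dvd_of_dvd_hAZ (hq : 2 ≤ q) (r : ℕ) [Fact r.Prime] (hrq : ¬ r ∣ q) (k : ℕ)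
    (hd : r ∣ (Cfsg.Agent.Lib.Helper99.hAZ q k).1) : (r : ℤ) ∣ (q : ℤ) ^ k - (-1) ^ k := by
  have hr : r.Prime := Fact.out
  have hrZ : Prime (r : ℤ) := Nat.prime_iff_prime_int.mp hr
  have h1 := (Cfsg.Agent.Lib.Helper99.hAZ_closed hq k).1
  have h2 : (r : ℤ) ∣ (q : ℤ) * ((Cfsg.Agent.Lib.Helper99.hAZ q k).1 : ℤ) :=
    Dvd.dvd.mul_left (Int.natCast_dvd_natCast.mpr hd) _
  rw [h1] at h2
  rcases hrZ.dvd_or_dvd h2 with h3 | h3
  · exfalso
    have h4 : (r : ℤ) ∣ (q : ℤ) := hrZ.dvd_of_dvd_pow h3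
    exact hrq (Int.natCast_dvd_natCast.mp h4)
  · exact h3

/-- the last factor of the order formula -/
theorem factor_cast (hq : 1 ≤ q) (i : ℕ) :
    (((if Even i then q ^ (i + 1) + 1 else q ^ (i + 1) - 1 : ℕ)) : ℤ) =
      (q : ℤ) ^ (i + 1) - (-1) ^ (i + 1) := by
  by_cases hev : Even i
  · rw [if_pos hev]
    have hodd : Odd (i + 1) := hev.add_one
    rw [hodd.neg_one_pow]
    push_cast; ring
  · rw [if_neg hev]
    have hev' : Even (i + 1) := by rw [Nat.even_add_one]; exact hev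
    rw [hev'.neg_one_pow]
    have hq1 : 1 ≤ q ^ (i + 1) := Nat.one_le_pow _ _ hq
    rw [Nat.cast_sub hq1]
    push_cast; ring

/-- AR2 (595407), second part -/
theorem exists_of_dvd_GUf (r : ℕ) [Fact r.Prime] (hrq : ¬ r ∣ q) (k : ℕ)
    (hd : r ∣ Cfsg.Agent.Lib.Helper51.UPar.GUf q k) :
    ∃ j, 1 ≤ j ∧ j ≤ k ∧ (r : ℤ) ∣ (q : ℤ) ^ j - (-1) ^ j := by
  have hr : r.Prime := Fact.out
  have hq : 1 ≤ q := by
    rcases Nat.eq_zero_or_pos q with h0 | h0
    · exfalso; apply hrq; rw [h0]; exact dvd_zero r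
    · exact h0
  unfold Cfsg.Agent.Lib.Helper51.UPar.GUf at hd
  rcases (Nat.Prime.dvd_mul hr).mp hd with h1 | h1
  · exact absurd (hr.dvd_of_dvd_pow h1) hrq
  · obtain ⟨j, hj, hjd⟩ := (Prime.dvd_finsetProd_iff hr.prime _).mp h1
    rw [Finset.mem_range] at hj
    refine ⟨j + 1, by omega, by omega, ?_⟩
    rw [← factor_cast hq j]
    exact Int.natCast_dvd_natCast.mpr hjd

/-- AR2 (595407), third part -/
theorem dvd_GUf_of (hq : 1 ≤ q) (r k : ℕ) (hk : 1 ≤ k) (hd : (r : ℤ) ∣ (q : ℤ) ^ k - (-1) ^ k) :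
    r ∣ Cfsg.Agent.Lib.Helper51.UPar.GUf q k := by
  unfold Cfsg.Agent.Lib.Helper51.UPar.GUf
  apply Dvd.dvd.mul_left
  have hmem : k - 1 ∈ Finset.range k := by rw [Finset.mem_range]; omega
  apply Dvd.dvd.trans _ (Finset.dvd_prod_of_mem _ hmem)
  have hk1 : k - 1 + 1 = k := by omega
  have h1 := factor_cast hq (k - 1)
  rw [← hk1] at hd
  rw [← h1] at hd
  exact Int.natCast_dvd_natCast.mp hd

end Cfsg.Agent.Lib.Helper10.UNd
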