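import Cfsg.Agent.Lib.Helper46.UTiDefs
import Cfsg.Agent.Lib.Helper14.UTiB4
import Cfsg.Agent.Lib.Helper52.UTiB2

/-!
# K-UTi-S2 (keystone 595322, S5953 pack of helper46): a maximal invariant totally isotropic subspace and its anisotropic kernel
-/

set_option autoImplicit false
set_option linter.unusedSectionVars false
set_option linter.unusedVariables false

namespace Cfsg.Agent.Lib.Helper10.UTi

open Module Polynomial Cfsg.Agent.Lib.Helper98.Elus Cfsg.Agent.Lib.Helper46.UTi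

universe u

variable {F : Type u} [Field F] [Fintype F] {V : Type u} [AddCommGroup V] [Module F V]
  [FiniteDimensional F V] {q : ℕ} {H : V → V → F}

/-- **K-UTi-S2 (595322)** -/
theorem exists_max_ti (hF : Fintype.card F = q ^ 2) (hH : IsHerm q H) (N : ℕ)
    (hNF : (N : F) ≠ 0) (y : V →ₗ[F] V) (hy : y ^ N = 1) (hiso : Iso H y)
    (U : Submodule F V) (hU : NonDeg H U) (hUinv : Inv y U) :
    ∃ L M : Submodule F V, L ≤ U ∧ Inv y L ∧ Ort H L L ∧ M ≤ U ∧ Inv y M ∧ NonDeg H M ∧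
      finrank F M + 2 * finrank F L = finrank F U ∧
      ∀ T : Submodule F V, T ≤ M → Inv y T → Ort H T T → T = ⊥ := by
  classical
  -- the set of dimensions of invariant t.i. subspaces of U
  let P : ℕ → Prop := fun k => ∃ L : Submodule F V, L ≤ U ∧ Inv y L ∧ Ort H L L ∧ finrank F L = k
  have hP0 : P 0 := ⟨⊥, bot_le, inv_bot y, fun u hu v _ => by
    rw [(Submodule.mem_bot F).1 hu]; exact hH.zero_left v, finrank_bot F V⟩
  have hbound : ∀ k, P k → k ≤ finrank F U := by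
    rintro k ⟨L, hLU, _, _, rfl⟩
    exact Submodule.finrank_mono hLU
  obtain ⟨k, hk, hmax⟩ : ∃ k, P k ∧ ∀ k', P k' → k' ≤ k := by
    have hfin : (Finset.filter P (Finset.range (finrank F U + 1))).Nonempty :=
      ⟨0, Finset.mem_filter.2 ⟨Finset.mem_range.2 (Nat.succ_pos _), hP0⟩⟩
    refine ⟨(Finset.filter P (Finset.range (finrank F U + 1))).max' hfin, ?_, ?_⟩
    · exact (Finset.mem_filter.1 (Finset.max'_mem _ hfin)).2
    · intro k' hk'
      apply Finset.le_max'
      exact Finset.mem_filter.2 ⟨Finset.mem_range.2 (Nat.lt_succ_of_le (hbound k' hk')), hk'⟩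
  obtain ⟨L, hLU, hLinv, hLL, hLk⟩ := hk
  obtain ⟨M, hMU, hMinv, hMnd, hLM, hLMbot, hdim⟩ :=
    Cfsg.Agent.Lib.Helper14.UTi.exists_compl_of_ti hF hH N hNF y hy hiso U L hU hUinv hLU hLL hLinv
  refine ⟨L, M, hLU, hLinv, hLL, hMU, hMinv, hMnd, hdim, ?_⟩
  intro T hTM hTinv hTT
  by_contra hT
  have hLT : Ort H L T := fun u hu v hv => hLM u hu v (hTM hv)
  have h1 : P (finrank F ↥(L ⊔ T)) :=
    ⟨L ⊔ T, sup_le hLU (hTM.trans hMU), hLinv.sup hTinv, Cfsg.Agent.Lib.Helper52.UTi.ort_sup_self hF hH L T hLL hTT hLT, rfl⟩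
  have h2 := hmax _ h1
  have hinf : L ⊓ T = ⊥ := by
    apply le_bot_iff.1
    rw [← hLMbot]
    exact inf_le_inf_left L hTM
  have h3 := Submodule.finrank_sup_add_finrank_inf_eq L T
  rw [hinf, finrank_bot, add_zero] at h3
  have h4 : 0 < finrank F T := by
    rw [Nat.pos_iff_ne_zero]
    intro h0
    exact hT (Submodule.finrank_eq_zero.1 h0)
  omega

end Cfsg.Agent.Lib.Helper10.UTi
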